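import Mathlib
import Cfsg.Agent.H510.CS.Irr_m3
import Cfsg.Agent.H364.DCross_m3
import Cfsg.Agent.LieClassical.OrthFinite
import Cfsg.Agent.LieClassical.OrthForms
import Cfsg.Agent.LieClassical.OrthCenter
import Cfsg.Agent.LieClassical.OmegaReindex
import Cfsg.Agent.H160.QSpin
import Cfsg.Agent.S0788
import Cfsg.Agent.S0789
import Cfsg.Agent.H326.CGU.Irr
import Cfsg.Agent.H431.CS.Defs
import Cfsg.Agent.S0293
import Cfsg.Agent.H364.LieNam
import Cfsg.Agent.H902.Zs_m3
import Cfsg.Agent.H277.CS.PslTop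
import Cfsg.Agent.H402.CS.NumSize_m3
import Cfsg.Agent.Lib.Zsigmondy
import Cfsg.Agent.S2643
import Cfsg.Agent.LieClassical.SUBasic
import Cfsg.Prelude.Def_Classical
import Cfsg.Agent.S2572
import Cfsg.Agent.Lib.Cores
import Cfsg.Agent.S0283
import Cfsg.Agent.S2150
import Cfsg.Agent.S2151
import Cfsg.Agent.S2152
import Cfsg.Agent.S2153
import Cfsg.Agent.H364.Slack
import Cfsg.Agent.H934.OutAll
import Cfsg.Agent.H364.OutLie
import Cfsg.Agent.H377.OddThree_m3
import Cfsg.Agent.H365.SporRow_m3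
import Cfsg.Agent.ClassicalGeometry.OrthDickson
import Cfsg.Agent.H363.PslTorus
import Cfsg.Agent.LieClassical.PomegaCard
import Cfsg.Agent.ClassicalGeometry.OmegaIndex
import Cfsg.Agent.FastGrp
import Cfsg.Agent.Prune
set_option linter.all false

section
prune_inst 0x7f00000000000000000000000000000000000000000000000000000000000000000000000000000000000000000000000000000000000000000000000000000000000000000000000000000000000000003ffffffffcffffffffffffffffffbeffbdffffffff

-- part: H783/CS/Fld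
section
set_option linter.all false
open scoped Cfsg.Agent.FastGrp

-- part: H783/CS/Plane
section
/-!
# S3677: orthogonal decompositions `V = W ⊥ C`, `C` a hyperbolic plane or zero (helper783)
-/

set_option autoImplicit false
set_option linter.unusedSectionVars false

namespace Cfsg.Agent.H783.CS

open Module QuadraticMap Polynomial

section basic

variable {F : Type*} [Field F] {V : Type*} [AddCommGroup V] [Module F V]

theorem comm_aeval {A : Type*} [Ring A] [Algebra F A] {g x : A} (h : Commute g x) (P : F[X]) :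
    Commute g (aeval x P) := by
  induction P using Polynomial.induction_on' with
  | add p q hp hq => rw [map_add]; exact hp.add_right hq
  | monomial n c =>
    rw [aeval_monomial]
    exact (Algebra.commute_algebraMap_right c g).mul_right (h.pow_right n)

theorem polar_iso {Q : QuadraticForm F V} {T : Module.End F V} (hT : ∀ v, Q (T v) = Q v) (u v : V) :
    polar Q (T u) (T v) = polar Q u v := by
  unfold polar
  rw [← map_add, hT, hT, hT]

/-- `V = W ⊥ C` where `C` is spanned by the hyperbolic pair `e₁, e₂`, or is zero (and `e₁ = e₂ = 0`) -/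
structure Geo (Q : QuadraticForm F V) (W C : Submodule F V) (e₁ e₂ : V) : Prop where
  nd : ∀ u, (∀ v, polar Q u v = 0) → u = 0
  ic : IsCompl W C
  perp : ∀ w ∈ W, ∀ c ∈ C, polar Q w c = 0
  q1 : Q e₁ = 0
  q2 : Q e₂ = 0
  pr : polar Q e₁ e₂ = 1 ∨ (e₁ = 0 ∧ e₂ = 0)
  sp : C = Submodule.span F {e₁, e₂}

variable {Q : QuadraticForm F V} {W C : Submodule F V} {e₁ e₂ : V}

/-- `T` is a diagonal isometry of the plane -/
def Dg (e₁ e₂ : V) (T : Module.End F V) : Prop := ∃ l : F, l ≠ 0 ∧ T e₁ = l • e₁ ∧ T e₂ = l⁻¹ • e₂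

/-- `T` interchanges the two singular lines of the plane -/
def Sw (e₁ e₂ : V) (T : Module.End F V) : Prop := ∃ l : F, l ≠ 0 ∧ T e₁ = l • e₂ ∧ T e₂ = l⁻¹ • e₁

theorem Dg.one : Dg e₁ e₂ (1 : Module.End F V) :=
  ⟨1, one_ne_zero, by simp, by simp⟩

namespace Geo

variable (h : Geo Q W C e₁ e₂)

include h

theorem e1C : e₁ ∈ C := by rw [h.sp]; exact Submodule.subset_span (by simp)

theorem e2C : e₂ ∈ C := by rw [h.sp]; exact Submodule.subset_span (by simp)

theorem memC {v : V} (hv : v ∈ C) : ∃ a b : F, v = a • e₁ + b • e₂ := by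
  rw [h.sp, Submodule.mem_span_pair] at hv
  obtain ⟨a, b, hab⟩ := hv
  exact ⟨a, b, hab.symm⟩

theorem ex (v : V) : ∃ w ∈ W, ∃ c ∈ C, v = w + c := by
  obtain ⟨w, hw, c, hc, rfl⟩ := Submodule.mem_sup.1 (show v ∈ W ⊔ C by rw [h.ic.sup_eq_top]; trivial)
  exact ⟨w, hw, c, hc, rfl⟩

theorem perp' {w c : V} (hw : w ∈ W) (hc : c ∈ C) : polar Q c w = 0 := by
  rw [polar_comm]; exact h.perp w hw c hc

theorem mem_W {v : V} (hv : ∀ c ∈ C, polar Q v c = 0) : v ∈ W := by
  obtain ⟨w, hw, c, hc, rfl⟩ := h.ex v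
  have h1 : c = 0 := by
    apply h.nd
    intro u
    obtain ⟨w', hw', c', hc', rfl⟩ := h.ex u
    rw [polar_add_right, h.perp' hw' hc, zero_add]
    have h2 := hv c' hc'
    rwa [polar_add_left, h.perp w hw c' hc', zero_add] at h2
  rw [h1, add_zero]
  exact hw

theorem mem_C {v : V} (hv : ∀ w ∈ W, polar Q v w = 0) : v ∈ C := by
  obtain ⟨w, hw, c, hc, rfl⟩ := h.ex v
  have h1 : w = 0 := by
    apply h.nd
    intro u
    obtain ⟨w', hw', c', hc', rfl⟩ := h.ex u
    rw [polar_add_right, h.perp w hw c' hc', add_zero]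
    have h2 := hv w' hw'
    rwa [polar_add_left, h.perp' hw' hc, add_zero] at h2
  rw [h1, zero_add]
  exact hc

theorem inj {T : Module.End F V} (hT : ∀ v, Q (T v) = Q v) : Function.Injective T := by
  rw [← LinearMap.ker_eq_bot, LinearMap.ker_eq_bot']
  intro u hu
  apply h.nd
  intro v
  rw [← polar_iso hT, hu, polar_zero_left]

theorem surjOn [FiniteDimensional F V] {T : Module.End F V} (hT : ∀ v, Q (T v) = Q v) {N : Submodule F V}
    (hN : ∀ v ∈ N, T v ∈ N) {v : V} (hv : v ∈ N) : ∃ u ∈ N, T u = v := by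
  have h1 : Function.Injective (T.restrict hN) := fun a b hab =>
    Subtype.ext (h.inj hT (congrArg Subtype.val hab))
  obtain ⟨u, hu⟩ := LinearMap.injective_iff_surjective.1 h1 ⟨v, hv⟩
  exact ⟨u, u.2, congrArg Subtype.val hu⟩

theorem keepW [FiniteDimensional F V] {T : Module.End F V} (hT : ∀ v, Q (T v) = Q v) (hC : ∀ v ∈ C, T v ∈ C) :
    ∀ v ∈ W, T v ∈ W := by
  intro v hv
  apply h.mem_W
  intro c hc
  obtain ⟨c', hc', rfl⟩ := h.surjOn hT hC hc
  rw [polar_iso hT]
  exact h.perp v hv c' hc'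

theorem keepC [FiniteDimensional F V] {T : Module.End F V} (hT : ∀ v, Q (T v) = Q v) (hW : ∀ v ∈ W, T v ∈ W) :
    ∀ v ∈ C, T v ∈ C := by
  intro v hv
  apply h.mem_C
  intro w hw
  obtain ⟨w', hw', rfl⟩ := h.surjOn hT hW hw
  rw [polar_iso hT]
  exact h.perp' hw' hv

theorem ext_on {S T : Module.End F V} (hW : ∀ v ∈ W, S v = T v) (hC : ∀ v ∈ C, S v = T v) : S = T := by
  apply LinearMap.ext
  intro v
  obtain ⟨w, hw, c, hc, rfl⟩ := h.ex v
  rw [map_add, map_add, hW w hw, hC c hc]

theorem Q_comb (a b : F) : Q (a • e₁ + b • e₂) = a * b * polar Q e₁ e₂ := by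
  have h1 : Q (a • e₁ + b • e₂) = Q (a • e₁) + Q (b • e₂) + polar Q (a • e₁) (b • e₂) := by
    unfold polar; ring
  rw [h1, QuadraticMap.map_smul, QuadraticMap.map_smul, h.q1, h.q2, polar_smul_left, polar_smul_right]
  simp only [smul_eq_mul]
  ring

/-- an isometry of the plane is diagonal or interchanges the two singular lines -/
theorem dg_or_sw {T : Module.End F V} (hT : ∀ v, Q (T v) = Q v) (hC : ∀ v ∈ C, T v ∈ C) :
    Dg e₁ e₂ T ∨ Sw e₁ e₂ T := by
  rcases h.pr with hp | ⟨h1, h2⟩
  · obtain ⟨a, b, hab⟩ := h.memC (hC e₁ h.e1C)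
    obtain ⟨c, d, hcd⟩ := h.memC (hC e₂ h.e2C)
    have q1 : a * b = 0 := by
      have := hT e₁
      rwa [hab, h.Q_comb, hp, mul_one, h.q1] at this
    have q2 : c * d = 0 := by
      have := hT e₂
      rwa [hcd, h.Q_comb, hp, mul_one, h.q2] at this
    have q3 : a * d + b * c = 1 := by
      have h3 := polar_iso hT e₁ e₂
      rw [hab, hcd, hp] at h3
      have e11 : polar Q e₁ e₁ = 0 := by
        have := h.Q_comb 2 0
        have h4 : polar Q e₁ e₁ = 2 * Q e₁ := by
          rw [polar_self]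
          simp
        rw [h4, h.q1, mul_zero]
      have e22 : polar Q e₂ e₂ = 0 := by
        have h4 : polar Q e₂ e₂ = 2 * Q e₂ := by
          rw [polar_self]
          simp
        rw [h4, h.q2, mul_zero]
      have e21 : polar Q e₂ e₁ = 1 := by rw [polar_comm]; exact hp
      rw [polar_add_left, polar_add_right, polar_add_right] at h3
      simp only [polar_smul_left, polar_smul_right, e11, e22, e21, hp, smul_eq_mul] at h3
      linear_combination h3
    rcases mul_eq_zero.1 q1 with ha | hb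
    · right
      have hb0 : b ≠ 0 := by
        rintro rfl
        rw [ha, zero_mul, zero_mul, add_zero] at q3
        exact zero_ne_one q3
      rw [ha, zero_mul, zero_add] at q3
      have hc0 : c ≠ 0 := by
        rintro rfl
        rw [mul_zero] at q3
        exact zero_ne_one q3
      have hd : d = 0 := (mul_eq_zero.1 q2).resolve_left hc0
      refine ⟨b, hb0, by rw [hab, ha, zero_smul, zero_add], ?_⟩
      rw [hcd, hd, zero_smul, add_zero, eq_inv_of_mul_eq_one_right q3]
    · left
      have ha0 : a ≠ 0 := by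
        rintro rfl
        rw [hb, zero_mul, zero_mul, add_zero] at q3
        exact zero_ne_one q3
      rw [hb, zero_mul, add_zero] at q3
      have hd0 : d ≠ 0 := by
        rintro rfl
        rw [mul_zero] at q3
        exact zero_ne_one q3
      have hc : c = 0 := (mul_eq_zero.1 q2).resolve_right hd0
      refine ⟨a, ha0, by rw [hab, hb, zero_smul, add_zero], ?_⟩
      rw [hcd, hc, zero_smul, zero_add, eq_inv_of_mul_eq_one_right q3]
  · left
    refine ⟨1, one_ne_zero, ?_, ?_⟩
    · rw [h1]; simp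
    · rw [h2]; simp

/-- two diagonal isometries commute on the plane -/
theorem dg_comm {S T : Module.End F V} (hS : Dg e₁ e₂ S) (hT : Dg e₁ e₂ T) {v : V} (hv : v ∈ C) :
    S (T v) = T (S v) := by
  obtain ⟨l, -, h1, h2⟩ := hS
  obtain ⟨m, -, h3, h4⟩ := hT
  obtain ⟨a, b, rfl⟩ := h.memC hv
  simp only [map_add, map_smul, h1, h2, h3, h4, smul_smul]
  ring_nf

theorem dg_keep {T : Module.End F V} (hT : Dg e₁ e₂ T) {v : V} (hv : v ∈ C) : T v ∈ C := by
  obtain ⟨l, -, h1, h2⟩ := hT
  obtain ⟨a, b, rfl⟩ := h.memC hv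
  simp only [map_add, map_smul, h1, h2, smul_smul]
  exact C.add_mem (C.smul_mem _ h.e1C) (C.smul_mem _ h.e2C)

theorem dg_pow {T : Module.End F V} (hT : Dg e₁ e₂ T) (N : ℕ) (hN : ∀ l : F, l ≠ 0 → l ^ N = 1) {v : V} (hv : v ∈ C) :
    (T ^ N) v = v := by
  obtain ⟨l, hl, h1, h2⟩ := hT
  have h3 : ∀ k : ℕ, (T ^ k) e₁ = l ^ k • e₁ := by
    intro k
    induction k with
    | zero => simp
    | succ k ih => rw [pow_succ, Module.End.mul_apply, h1, map_smul, ih, smul_smul, pow_succ, mul_comm]
  have h4 : ∀ k : ℕ, (T ^ k) e₂ = l⁻¹ ^ k • e₂ := by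
    intro k
    induction k with
    | zero => simp
    | succ k ih => rw [pow_succ, Module.End.mul_apply, h2, map_smul, ih, smul_smul, pow_succ, mul_comm]
  obtain ⟨a, b, rfl⟩ := h.memC hv
  rw [map_add, map_smul, map_smul, h3, h4, hN l hl, hN l⁻¹ (inv_ne_zero hl), one_smul, one_smul]

theorem sw_sq {T : Module.End F V} (hT : Sw e₁ e₂ T) {v : V} (hv : v ∈ C) : T (T v) = v := by
  obtain ⟨l, hl, h1, h2⟩ := hT
  obtain ⟨a, b, rfl⟩ := h.memC hv
  simp only [map_add, map_smul, h1, h2, smul_smul]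
  have e1 : a * (l * l⁻¹) = a := by rw [mul_inv_cancel₀ hl, mul_one]
  have e2 : b * (l⁻¹ * l) = b := by rw [inv_mul_cancel₀ hl, mul_one]
  rw [mul_assoc a, e1, mul_assoc b, e2]

/-- `g ^ (2 (q - 1)) = 1` on the plane -/
theorem pow_two_mul {T : Module.End F V} (hT : ∀ v, Q (T v) = Q v) (hC : ∀ v ∈ C, T v ∈ C) (N : ℕ)
    (hN : ∀ l : F, l ≠ 0 → l ^ N = 1) {v : V} (hv : v ∈ C) : (T ^ (2 * N)) v = v := by
  rcases h.dg_or_sw hT hC with hd | hs
  · apply h.dg_pow hd
    intro l hl
    · rw [mul_comm, pow_mul, hN l hl, one_pow]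
    · exact hv
  · have h1 : ∀ k : ℕ, ((T ^ 2) ^ k) v = v := by
      intro k
      induction k with
      | zero => simp
      | succ k ih =>
        rw [pow_succ, Module.End.mul_apply]
        have h2 : (T ^ 2) v = v := by
          rw [pow_two, Module.End.mul_apply]
          exact h.sw_sq hs hv
        rw [h2, ih]
    rw [pow_mul]
    exact h1 N

/-- the fixed space splits -/
theorem fix_split [FiniteDimensional F V] {T : Module.End F V} (hW : ∀ v ∈ W, T v ∈ W) (hC : ∀ v ∈ C, T v ∈ C) :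
    finrank F (LinearMap.ker (T - 1)) =
      finrank F (LinearMap.ker (T - 1) ⊓ W : Submodule F V) + finrank F (LinearMap.ker (T - 1) ⊓ C : Submodule F V) := by
  have hm : ∀ v : V, v ∈ LinearMap.ker (T - 1) ↔ T v = v := by
    intro v
    rw [LinearMap.mem_ker, LinearMap.sub_apply, Module.End.one_apply, sub_eq_zero]
  have h1 := Submodule.finrank_sup_add_finrank_inf_eq (LinearMap.ker (T - 1) ⊓ W) (LinearMap.ker (T - 1) ⊓ C)
  have h2 : LinearMap.ker (T - 1) ⊓ W ⊓ (LinearMap.ker (T - 1) ⊓ C) = ⊥ := by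
    rw [eq_bot_iff]
    rintro v ⟨⟨-, hv1⟩, ⟨-, hv2⟩⟩
    exact (Submodule.disjoint_def.1 h.ic.disjoint) v hv1 hv2
  have h3 : LinearMap.ker (T - 1) ⊓ W ⊔ LinearMap.ker (T - 1) ⊓ C = LinearMap.ker (T - 1) := by
    apply le_antisymm (sup_le inf_le_left inf_le_left)
    intro v hv
    rw [hm] at hv
    obtain ⟨w, hw, c, hc, rfl⟩ := h.ex v
    rw [map_add] at hv
    have h4 : T w - w = c - T c := by
      rw [sub_eq_sub_iff_add_eq_add, hv, add_comm]
    have h5 : T w - w = 0 := (Submodule.disjoint_def.1 h.ic.disjoint) _ (W.sub_mem (hW w hw) hw)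
      (h4 ▸ C.sub_mem hc (hC c hc))
    have h6 : c - T c = 0 := h4 ▸ h5
    exact Submodule.add_mem_sup ⟨(hm w).2 (sub_eq_zero.1 h5), hw⟩ ⟨(hm c).2 (sub_eq_zero.1 h6).symm, hc⟩
  rw [h3, h2, finrank_bot, add_zero] at h1
  exact h1

/-- an isometry preserving the plane with even-dimensional fixed space is diagonal -/
theorem dg_of_even [FiniteDimensional F V] {T : Module.End F V} (hT : ∀ v, Q (T v) = Q v) (hC : ∀ v ∈ C, T v ∈ C)
    (he : Even (finrank F (LinearMap.ker (T - 1) ⊓ C : Submodule F V))) : Dg e₁ e₂ T := by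
  rcases h.dg_or_sw hT hC with hd | hs
  · exact hd
  · rcases h.pr with hp | ⟨h1, h2⟩
    · exfalso
      obtain ⟨l, hl, h3, h4⟩ := hs
      have hm : ∀ v : V, v ∈ LinearMap.ker (T - 1) ↔ T v = v := by
        intro v
        rw [LinearMap.mem_ker, LinearMap.sub_apply, Module.End.one_apply, sub_eq_zero]
      -- the fixed space is spanned by `e₁ + l e₂`
      have hli : ∀ a b : F, a • e₁ + b • e₂ = 0 → a = 0 ∧ b = 0 := by
        intro a b hab
        have e11 : polar Q e₁ e₁ = 0 := by
          rw [polar_self]; simp [h.q1]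
        have e22 : polar Q e₂ e₂ = 0 := by
          rw [polar_self]; simp [h.q2]
        have e21 : polar Q e₂ e₁ = 1 := by rw [polar_comm]; exact hp
        constructor
        · have := congrArg (fun v => polar Q v e₂) hab
          simp only [polar_add_left, polar_smul_left, e22, hp, polar_zero_left, smul_eq_mul, mul_zero, add_zero,
            mul_one] at this
          exact this
        · have := congrArg (fun v => polar Q v e₁) hab
          simp only [polar_add_left, polar_smul_left, e11, e21, polar_zero_left, smul_eq_mul, mul_zero, zero_add,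
            mul_one] at this
          exact this
      have hfx : (LinearMap.ker (T - 1) ⊓ C : Submodule F V) = Submodule.span F {e₁ + l • e₂} := by
        apply le_antisymm
        · rintro v ⟨hv1, hv2⟩
          obtain ⟨a, b, rfl⟩ := h.memC hv2
          rw [SetLike.mem_coe, hm, map_add, map_smul, map_smul, h3, h4, smul_smul, smul_smul] at hv1
          have h5 : (b * l⁻¹ - a) • e₁ + (a * l - b) • e₂ = 0 := by
            rw [sub_smul, sub_smul]
            have : (b * l⁻¹) • e₁ - a • e₁ + ((a * l) • e₂ - b • e₂) =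
                ((a * l) • e₂ + (b * l⁻¹) • e₁) - (a • e₁ + b • e₂) := by abel
            rw [this, hv1, sub_self]
          obtain ⟨-, h6⟩ := hli _ _ h5
          rw [Submodule.mem_span_singleton]
          refine ⟨a, ?_⟩
          rw [smul_add, smul_smul, sub_eq_zero.1 h6]
        · rw [Submodule.span_singleton_le_iff_mem]
          refine ⟨?_, C.add_mem h.e1C (C.smul_mem _ h.e2C)⟩
          rw [SetLike.mem_coe, hm, map_add, map_smul, h3, h4, smul_smul, mul_inv_cancel₀ hl, one_smul, add_comm]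
      have hne : e₁ + l • e₂ ≠ 0 := by
        intro h0
        have := (hli 1 l (by rw [one_smul]; exact h0)).1
        exact one_ne_zero this
      rw [hfx, finrank_span_singleton hne] at he
      exact absurd he (by decide)
    · exact ⟨1, one_ne_zero, by rw [h1]; simp, by rw [h2]; simp⟩

end Geo

end basic

end Cfsg.Agent.H783.CS
end

-- part: H783/CS/Fld
section
/-!
# S3677: isometries acting as a field element on `W` (helper783)
-/

set_option autoImplicit false
set_option linter.unusedSectionVars false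
set_option linter.style.haveILetI false

namespace Cfsg.Agent.H783.CS

open Module QuadraticMap Polynomial IntermediateField

section field

variable {F : Type*} [Field F] [Finite F]

/-- elements of the same degree generate the same subfield of a finite field -/
theorem exists_poly {K : Type*} [Field K] [Finite K] [Algebra F K] {a a' : K}
    (h : (minpoly F a).natDegree = (minpoly F a').natDegree) : ∃ P : F[X], aeval a P = a' := by
  classical
  have hfin : FiniteDimensional F K := Module.Finite.of_finite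
  have := Fintype.ofFinite K
  have hcard : ∀ b : K, Nat.card F⟮b⟯ = Nat.card F ^ (minpoly F b).natDegree := by
    intro b
    rw [← IntermediateField.adjoin.finrank (Algebra.IsIntegral.isIntegral b)]
    exact Module.natCard_eq_pow_finrank
  set d := (minpoly F a).natDegree with hd
  have hd0 : 0 < d := minpoly.natDegree_pos (Algebra.IsIntegral.isIntegral a)
  set N := Nat.card F ^ d with hN
  have hN1 : 1 < N := Nat.one_lt_pow hd0.ne' Finite.one_lt_card
  set R : Finset K := Finset.univ.filter fun z : K => z ^ N = z with hR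
  have hRc : R.card ≤ N := by
    have h1 : R ⊆ (X ^ N - X : K[X]).roots.toFinset := by
      intro z hz
      rw [hR, Finset.mem_filter] at hz
      rw [Multiset.mem_toFinset, mem_roots (FiniteField.X_pow_card_sub_X_ne_zero K hN1), IsRoot.def, eval_sub, eval_pow,
        eval_X, hz.2, sub_self]
    calc R.card ≤ (X ^ N - X : K[X]).roots.toFinset.card := Finset.card_le_card h1
      _ ≤ Multiset.card (X ^ N - X : K[X]).roots := Multiset.toFinset_card_le _
      _ ≤ (X ^ N - X : K[X]).natDegree := card_roots' _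
      _ = N := FiniteField.X_pow_card_sub_X_natDegree_eq K hN1
  have key : ∀ b : K, (minpoly F b).natDegree = d → (Finset.univ.filter fun z : K => z ∈ F⟮b⟯) = R := by
    intro b hb
    apply Finset.eq_of_subset_of_card_le
    · intro z hz
      rw [Finset.mem_filter] at hz
      rw [hR, Finset.mem_filter]
      refine ⟨Finset.mem_univ _, ?_⟩
      have := Fintype.ofFinite F⟮b⟯
      have h2 := FiniteField.pow_card (⟨z, hz.2⟩ : F⟮b⟯)
      rw [← Nat.card_eq_fintype_card, hcard b, hb] at h2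
      exact congrArg Subtype.val h2
    · refine hRc.trans (le_of_eq ?_)
      have h3 : (Finset.univ.filter fun z : K => z ∈ F⟮b⟯).card = Nat.card F⟮b⟯ := by
        rw [Nat.card_eq_fintype_card, Fintype.card_subtype]
      rw [h3, hcard b, hb]
  have h1 : a' ∈ Finset.univ.filter fun z : K => z ∈ F⟮a⟯ := by
    rw [key a rfl, ← key a' h.symm, Finset.mem_filter]
    exact ⟨Finset.mem_univ _, IntermediateField.mem_adjoin_simple_self F a'⟩
  rw [Finset.mem_filter] at h1
  have h2 := h1.2
  rw [← IntermediateField.mem_toSubalgebra,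
    IntermediateField.adjoin_simple_toSubalgebra_of_isAlgebraic (Algebra.IsAlgebraic.isAlgebraic a),
    Algebra.adjoin_singleton_eq_range_aeval] at h2
  obtain ⟨P, hP⟩ := h2
  exact ⟨P, hP⟩

/-- an invariant subspace has dimension divisible by the degree -/
theorem dvd_finrank {K : Type*} [Field K] [Finite K] [Algebra F K] {W : Type*} [AddCommGroup W] [Module F W]
    [FiniteDimensional F W] (φ : K →ₐ[F] Module.End F W) (a : K) (N : Submodule F W) (hN : ∀ v ∈ N, φ a v ∈ N) :
    (minpoly F a).natDegree ∣ finrank F N := by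
  have hfin : FiniteDimensional F K := Module.Finite.of_finite
  have hpoly : ∀ (P : F[X]), ∀ v ∈ N, φ (aeval a P) v ∈ N := by
    intro P v hv
    have hpow : ∀ n : ℕ, φ (a ^ n) v ∈ N := by
      intro n
      induction n with
      | zero => rw [pow_zero, map_one]; exact hv
      | succ n ih => rw [pow_succ', map_mul]; exact hN _ ih
    induction P using Polynomial.induction_on' with
    | add p q hp hq => rw [map_add, map_add]; exact N.add_mem hp hq
    | monomial n c =>
      rw [aeval_monomial, map_mul, AlgHom.commutes]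
      exact N.smul_mem c (hpow n)
  letI : Module F⟮a⟯ W := Module.compHom W ((φ : K →+* Module.End F W).comp (algebraMap F⟮a⟯ K))
  have hsm : ∀ (c : F⟮a⟯) (w : W), c • w = φ (c : K) w := fun _ _ => rfl
  haveI : IsScalarTower F F⟮a⟯ W := ⟨fun c k v => by
    rw [hsm, hsm]
    have : ((c • k : F⟮a⟯) : K) = c • (k : K) := rfl
    rw [this, map_smul, LinearMap.smul_apply]⟩
  let N' : Submodule F⟮a⟯ W :=
    { carrier := N
      add_mem' := N.add_mem
      zero_mem' := N.zero_mem
      smul_mem' := by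
        rintro ⟨c, hc⟩ w hw
        rw [hsm]
        rw [← IntermediateField.mem_toSubalgebra,
          IntermediateField.adjoin_simple_toSubalgebra_of_isAlgebraic (Algebra.IsAlgebraic.isAlgebraic a),
          Algebra.adjoin_singleton_eq_range_aeval] at hc
        obtain ⟨P, rfl⟩ := hc
        exact hpoly P w hw }
  have h1 : finrank F F⟮a⟯ * finrank F⟮a⟯ N' = finrank F N' := Module.finrank_mul_finrank F F⟮a⟯ N'
  have h2 : finrank F N' = finrank F N := by
    apply LinearEquiv.finrank_eq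
    exact
      { toFun := fun x => ⟨x.1, x.2⟩
        invFun := fun x => ⟨x.1, x.2⟩
        map_add' := fun _ _ => rfl
        map_smul' := fun _ _ => rfl
        left_inv := fun _ => rfl
        right_inv := fun _ => rfl }
  rw [← h2, ← h1, IntermediateField.adjoin.finrank (Algebra.IsIntegral.isIntegral a)]
  exact Dvd.intro _ rfl

end field

section geo

variable {F : Type*} [Field F] [Finite F] {V : Type*} [AddCommGroup V] [Module F V] [FiniteDimensional F V]
  {Q : QuadraticForm F V} {W C : Submodule F V} {e₁ e₂ : V}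
  {K : Type*} [Field K] [Finite K] [Algebra F K] {φ : K →ₐ[F] Module.End F W}

theorem inv_smul {a : K} (ha : a ≠ 0) {w : W} (h : φ a w = 0) : w = 0 := by
  have h1 : (φ a⁻¹ * φ a) w = w := by
    rw [← map_mul, inv_mul_cancel₀ ha, map_one]
    rfl
  rw [← h1, Module.End.mul_apply, h, map_zero]

theorem surj_smul {a : K} (ha : a ≠ 0) (w : W) : ∃ w', φ a w' = w := by
  refine ⟨φ a⁻¹ w, ?_⟩
  rw [← Module.End.mul_apply, ← map_mul, mul_inv_cancel₀ ha, map_one]
  rfl

/-- eigenvectors with a value different from `a` lie in `C` -/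
theorem Geo.eig (h : Geo Q W C e₁ e₂) {X : Module.End F V} {a : K} (ha : ∀ w : W, X w = φ a w)
    (hXC : ∀ c ∈ C, X c ∈ C) {l : F} (hl : a ≠ algebraMap F K l) {v : V} (hv : X v = l • v) : v ∈ C := by
  obtain ⟨w, hw, c, hc, rfl⟩ := h.ex v
  rw [map_add, smul_add, ha ⟨w, hw⟩] at hv
  have h4 : (φ a ⟨w, hw⟩ : V) - l • w = l • c - X c := by
    rw [sub_eq_sub_iff_add_eq_add, hv, add_comm]
  have h5 : (φ a ⟨w, hw⟩ : V) - l • w = 0 := (Submodule.disjoint_def.1 h.ic.disjoint) _
    (W.sub_mem (φ a ⟨w, hw⟩).2 (W.smul_mem l hw)) (h4 ▸ C.sub_mem (C.smul_mem l hc) (hXC c hc))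
  have h6 : φ (a - algebraMap F K l) ⟨w, hw⟩ = 0 := by
    apply Subtype.ext
    rw [map_sub, AlgHom.commutes, LinearMap.sub_apply, Module.algebraMap_end_apply]
    exact h5
  have h7 : w = 0 := congrArg Subtype.val (inv_smul (sub_ne_zero.2 hl) h6)
  rw [h7, zero_add]
  exact hc

/-- the decomposition is canonical (type B) -/
theorem Geo.canon (h : Geo Q W C e₁ e₂) {X : Module.End F V} {a : K} (ha : ∀ w : W, X w = φ a w)
    (hna : ∀ l : F, a ≠ algebraMap F K l) (hX : Dg e₁ e₂ X) {g : Module.End F V} {ε : F} (hε : ε ≠ 0)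
    (hg : ∀ v, g (X v) = ε • X (g v)) : ∀ c ∈ C, g c ∈ C := by
  have hXC : ∀ c ∈ C, X c ∈ C := fun c hc => h.dg_keep hX hc
  obtain ⟨l, hl, h1, h2⟩ := hX
  have key : ∀ (v : V) (m : F), X v = m • v → g v ∈ C := by
    intro v m hv
    apply h.eig ha hXC (hna (ε⁻¹ * m)) (v := g v)
    have h3 := hg v
    rw [hv, map_smul] at h3
    rw [mul_smul, h3, smul_smul, inv_mul_cancel₀ hε, one_smul]
  intro c hc
  obtain ⟨x, y, rfl⟩ := h.memC hc
  rw [map_add, map_smul, map_smul]
  exact C.add_mem (C.smul_mem x (key e₁ l h1)) (C.smul_mem y (key e₂ _ h2))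

/-- the fixed space on `W` of an operator commuting with `X` has even dimension -/
theorem Geo.dvd_fix (h : Geo Q W C e₁ e₂) {X : Module.End F V} {a : K} (ha : ∀ w : W, X w = φ a w)
    {g : Module.End F V} (hg : ∀ v, g (X v) = X (g v)) :
    (minpoly F a).natDegree ∣ finrank F (LinearMap.ker (g - 1) ⊓ W : Submodule F V) := by
  have h1 := dvd_finrank φ a ((LinearMap.ker (g - 1)).comap W.subtype) (by
    intro v hv
    rw [Submodule.mem_comap, LinearMap.mem_ker, LinearMap.sub_apply, Module.End.one_apply, sub_eq_zero,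
      Submodule.subtype_apply] at hv ⊢
    rw [← ha, hg, hv])
  have h2 : finrank F ((LinearMap.ker (g - 1)).comap W.subtype) =
      finrank F (LinearMap.ker (g - 1) ⊓ W : Submodule F V) := by
    rw [inf_comm, ← Submodule.map_comap_subtype, Submodule.finrank_map_subtype_eq]
  rw [← h2]
  exact h1

/-- an isometry commuting with `X` with even-dimensional fixed space is diagonal on the plane -/
theorem Geo.dg_of_fix (h : Geo Q W C e₁ e₂) {X : Module.End F V} {a : K} (ha : ∀ w : W, X w = φ a w)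
    (hev : Even (minpoly F a).natDegree) {g : Module.End F V} (hT : ∀ v, Q (g v) = Q v) (hC : ∀ v ∈ C, g v ∈ C)
    (hg : ∀ v, g (X v) = X (g v)) (he : Even (finrank F (LinearMap.ker (g - 1)))) : Dg e₁ e₂ g := by
  apply h.dg_of_even hT hC
  rw [h.fix_split (h.keepW hT hC) hC] at he
  have h1 : Even (finrank F (LinearMap.ker (g - 1) ⊓ W : Submodule F V)) := by
    obtain ⟨c, hc⟩ := h.dvd_fix ha hg
    rw [hc]
    exact hev.mul_right c
  exact (Nat.even_add.1 he).1 h1

/-- operators commuting with `X` commute with `X'` -/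
theorem Geo.same (h : Geo Q W C e₁ e₂) {X X' : Module.End F V} {a a' : K} (ha : ∀ w : W, X w = φ a w)
    (ha' : ∀ w : W, X' w = φ a' w) {P : F[X]} (hP : aeval a P = a') (hX' : Dg e₁ e₂ X') {g : Module.End F V}
    (hgC : Dg e₁ e₂ g) (hgW : ∀ v ∈ W, g v ∈ W) (hg : ∀ v, g (X v) = X (g v)) : ∀ v, g (X' v) = X' (g v) := by
  have key : g * X' = X' * g := by
    apply h.ext_on
    · intro v hv
      have h1 : Commute (g.restrict hgW) (φ a) := by
        apply LinearMap.ext
        intro w
        apply Subtype.ext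
        change g (φ a w : V) = (φ a ⟨g w, hgW w w.2⟩ : V)
        rw [← ha, ← ha ⟨g w, hgW w w.2⟩, hg]
      have h2 : Commute (g.restrict hgW) (φ a') := by
        rw [← hP, ← Polynomial.aeval_algHom_apply]
        exact comm_aeval h1 P
      have h3 := congrArg Subtype.val (LinearMap.congr_fun h2.eq ⟨v, hv⟩)
      change g (φ a' ⟨v, hv⟩ : V) = (φ a' ⟨g v, hgW v hv⟩ : V) at h3
      rw [← ha', ← ha'] at h3
      exact h3
    · intro v hv
      exact h.dg_comm hgC hX' hv
  intro v
  exact LinearMap.congr_fun key v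

theorem Geo.exists_ne (h : Geo Q W C e₁ e₂) [Nontrivial W] : ∃ w ∈ W, Q w ≠ 0 := by
  by_contra hcon
  push Not at hcon
  obtain ⟨w, hw⟩ := _root_.exists_ne (0 : W)
  apply hw
  apply Subtype.ext
  apply h.nd
  intro v
  obtain ⟨w', hw', c, hc, rfl⟩ := h.ex v
  rw [polar_add_right, h.perp w w.2 c hc, add_zero]
  unfold polar
  rw [hcon w w.2, hcon w' hw', hcon _ (W.add_mem w.2 hw')]
  ring

/-- scalars which are isometries -/
theorem Geo.scalar (h : Geo Q W C e₁ e₂) [Nontrivial W] {X : Module.End F V} (hX : ∀ v, Q (X v) = Q v) {l : F}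
    (hl : ∀ w ∈ W, X w = l • w) : l = 1 ∨ l = -1 := by
  obtain ⟨w, hw, hq⟩ := h.exists_ne
  have h1 := hX w
  rw [hl w hw, QuadraticMap.map_smul, smul_eq_mul] at h1
  have h2 : (l * l - 1) * Q w = 0 := by linear_combination h1
  have h3 : l * l - 1 = 0 := (mul_eq_zero.1 h2).resolve_right hq
  exact mul_self_eq_one_iff.1 (sub_eq_zero.1 h3)

/-- the restriction of an isometry to `W` as an equivalence -/
noncomputable def resW (h : Geo Q W C e₁ e₂) {X : Module.End F V} (hX : ∀ v, Q (X v) = Q v)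
    (hXW : ∀ v ∈ W, X v ∈ W) : W ≃ₗ[F] W :=
  LinearEquiv.ofInjectiveEndo (X.restrict hXW) fun a b hab => Subtype.ext (h.inj hX (congrArg Subtype.val hab))

theorem resW_apply (h : Geo Q W C e₁ e₂) {X : Module.End F V} (hX : ∀ v, Q (X v) = Q v)
    (hXW : ∀ v ∈ W, X v ∈ W) (w : W) : (resW h hX hXW w : V) = X w := rfl

theorem resW_coe (h : Geo Q W C e₁ e₂) {X : Module.End F V} (hX : ∀ v, Q (X v) = Q v)
    (hXW : ∀ v ∈ W, X v ∈ W) {a : K} (ha : ∀ w : W, X w = φ a w) :
    ((resW h hX hXW : W ≃ₗ[F] W) : Module.End F W) = φ a := by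
  apply LinearMap.ext
  intro w
  apply Subtype.ext
  rw [LinearEquiv.coe_coe, resW_apply, ha]

theorem Geo.frm (_h : Geo Q W C e₁ e₂) : H951.Frm (RingHom.id F) (1 : F) (fun u v : W => polar Q (u : V) v) where
  add_left u v w := by simp only [Submodule.coe_add, polar_add_left]
  smul_left a u v := by simp only [Submodule.coe_smul, polar_smul_left, smul_eq_mul]
  herm u v := by rw [polar_comm, one_mul]; rfl
  sigma_sq _ := rfl
  eps_ne := one_ne_zero

theorem Geo.ndW (h : Geo Q W C e₁ e₂) (u : W) (hu : ∀ v : W, polar Q (u : V) v = 0) : u = 0 := by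
  apply Subtype.ext
  apply h.nd
  intro v
  obtain ⟨w', hw', c, hc, rfl⟩ := h.ex v
  rw [polar_add_right, h.perp u u.2 c hc, add_zero]
  exact hu ⟨w', hw'⟩

theorem phi_inj [Nontrivial W] : Function.Injective φ := φ.toRingHom.injective

/-- **the order of the centralizer on `W`** -/
theorem Geo.count (h : Geo Q W C e₁ e₂) [Nontrivial W] {X : Module.End F V} (hX : ∀ v, Q (X v) = Q v)
    (hXW : ∀ v ∈ W, X v ∈ W) {a : K} (ha : ∀ w : W, X w = φ a w) (hna : ∀ l : F, a ≠ algebraMap F K l) :
    ∃ k m, 0 < k ∧ 0 < m ∧ finrank F W = 2 * k * m ∧ (minpoly F a).natDegree = 2 * k ∧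
      Nat.card {g : W ≃ₗ[F] W // (∀ u v : W, polar Q (g u : V) (g v) = polar Q (u : V) v) ∧
        ∀ v, g (resW h hX hXW v) = resW h hX hXW (g v)} =
        (Nat.card F ^ k) ^ (m * (m - 1) / 2) *
          ∏ i ∈ Finset.range m, (if Even i then (Nat.card F ^ k) ^ (i + 1) + 1 else (Nat.card F ^ k) ^ (i + 1) - 1) := by
  have hfin : FiniteDimensional F K := Module.Finite.of_finite
  have hmin : minpoly F ((resW h hX hXW : W ≃ₗ[F] W) : Module.End F W) = minpoly F a := by
    rw [resW_coe h hX hXW ha, minpoly.algHom_eq φ phi_inj]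
  rw [← hmin]
  apply H510.CS.card_cent h.frm h.ndW (Or.inl rfl)
  · intro u v
    exact polar_iso hX u v
  · rw [hmin]
    exact minpoly.irreducible (Algebra.IsIntegral.isIntegral a)
  · by_contra hcon
    push Not at hcon
    have h1 : φ (a * a - 1) = 0 := by
      apply LinearMap.ext
      intro w
      apply Subtype.ext
      rw [map_sub, map_mul, map_one, LinearMap.sub_apply, Module.End.mul_apply, Module.End.one_apply]
      have h2 : φ a (φ a w) = w := by
        rw [← resW_coe h hX hXW ha]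
        exact hcon w
      rw [h2, sub_self]
      rfl
    have h3 : a * a - 1 = 0 := phi_inj (h1.trans (map_zero φ).symm)
    rcases mul_self_eq_one_iff.1 (sub_eq_zero.1 h3) with h4 | h4
    · exact hna 1 (by rw [map_one]; exact h4)
    · exact hna (-1) (by rw [map_neg, map_one]; exact h4)

theorem sq_ne (h : Geo Q W C e₁ e₂) [Nontrivial W] {X : Module.End F V} (hX : ∀ v, Q (X v) = Q v)
    (hXW : ∀ v ∈ W, X v ∈ W) {a : K} (ha : ∀ w : W, X w = φ a w) (hna : ∀ l : F, a ≠ algebraMap F K l) :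
    ∃ v, resW h hX hXW (resW h hX hXW v) ≠ v := by
  by_contra hcon
  push Not at hcon
  have h1 : φ (a * a - 1) = 0 := by
    apply LinearMap.ext
    intro w
    apply Subtype.ext
    rw [map_sub, map_mul, map_one, LinearMap.sub_apply, Module.End.mul_apply, Module.End.one_apply]
    have h2 : φ a (φ a w) = w := by
      rw [← resW_coe h hX hXW ha]
      exact hcon w
    rw [h2, sub_self]
    rfl
  have h3 : a * a - 1 = 0 := phi_inj (h1.trans (map_zero φ).symm)
  rcases mul_self_eq_one_iff.1 (sub_eq_zero.1 h3) with h4 | h4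
  · exact hna 1 (by rw [map_one]; exact h4)
  · exact hna (-1) (by rw [map_neg, map_one]; exact h4)

/-- **the defect** -/
theorem Geo.defect (h : Geo Q W C e₁ e₂) [Nontrivial W] (h2 : (2 : F) ≠ 0) {X : Module.End F V} (hX : ∀ v, Q (X v) = Q v)
    (hXW : ∀ v ∈ W, X v ∈ W) {a : K} (ha : ∀ w : W, X w = φ a w) (hna : ∀ l : F, a ≠ algebraMap F K l)
    {g : Module.End F V} (hg : ∀ v, Q (g v) = Q v) (hgW : ∀ v ∈ W, g v ∈ W) (hgX : ∀ v, g (X v) = - X (g v)) :
    a * a = -1 ∧ (minpoly F a).natDegree ≤ 2 := by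
  have hfin : FiniteDimensional F K := Module.Finite.of_finite
  have hmin : minpoly F ((resW h hX hXW : W ≃ₗ[F] W) : Module.End F W) = minpoly F a := by
    rw [resW_coe h hX hXW ha, minpoly.algHom_eq φ phi_inj]
  have h3 := H510.CS.sq_of_neg h.frm h.ndW (W := resW h hX hXW) (fun u v => polar_iso hX u v) (by
    rw [hmin]
    exact minpoly.irreducible (Algebra.IsIntegral.isIntegral a)) (sq_ne h hX hXW ha hna) h2 (g := resW h hg hgW) (by
    intro v
    apply Subtype.ext
    rw [Submodule.coe_neg, resW_apply, resW_apply, resW_apply, resW_apply]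
    exact hgX v)
  rw [hmin] at h3
  refine ⟨?_, h3.2⟩
  have h4 : φ (a * a + 1) = 0 := by
    apply LinearMap.ext
    intro w
    rw [map_add, map_mul, map_one, LinearMap.add_apply, Module.End.mul_apply, Module.End.one_apply]
    have h5 : φ a (φ a w) = -w := by
      rw [← resW_coe h hX hXW ha]
      exact h3.1 w
    rw [h5, neg_add_cancel]
    rfl
  have h6 : a * a + 1 = 0 := phi_inj (h4.trans (map_zero φ).symm)
  exact eq_neg_of_add_eq_zero_left h6

/-- **no defect when `C` is a hyperbolic plane** -/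
theorem Geo.no_defect (h : Geo Q W C e₁ e₂) [Nontrivial W] (h2 : (2 : F) ≠ 0) (hp : polar Q e₁ e₂ = 1)
    {X : Module.End F V} (hX : ∀ v, Q (X v) = Q v)
    (hXW : ∀ v ∈ W, X v ∈ W) {a : K} (ha : ∀ w : W, X w = φ a w) (hna : ∀ l : F, a ≠ algebraMap F K l)
    (hXC : Dg e₁ e₂ X) {g : Module.End F V} (hg : ∀ v, Q (g v) = Q v) (hgX : ∀ v, g (X v) = - X (g v)) : False := by
  have hgC : ∀ c ∈ C, g c ∈ C := h.canon ha hna hXC (ε := -1) (neg_ne_zero.2 one_ne_zero) (fun v => by
    rw [hgX, neg_smul, one_smul])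
  have hgW := h.keepW hg hgC
  obtain ⟨h3, -⟩ := h.defect h2 hX hXW ha hna hg hgW hgX
  obtain ⟨l, hl, h4, h5⟩ := hXC
  have e11 : polar Q e₁ e₁ = 0 := by
    rw [polar_self]; simp [h.q1]
  have e22 : polar Q e₂ e₂ = 0 := by
    rw [polar_self]; simp [h.q2]
  have e21 : polar Q e₂ e₁ = 1 := by rw [polar_comm]; exact hp
  have hli : ∀ a b : F, a • e₁ + b • e₂ = 0 → a = 0 ∧ b = 0 := by
    intro a b hab
    constructor
    · have := congrArg (fun v => polar Q v e₂) hab
      simp only [polar_add_left, polar_smul_left, e22, hp, polar_zero_left, smul_eq_mul, mul_zero, add_zero,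
        mul_one] at this
      exact this
    · have := congrArg (fun v => polar Q v e₁) hab
      simp only [polar_add_left, polar_smul_left, e11, e21, polar_zero_left, smul_eq_mul, mul_zero, zero_add,
        mul_one] at this
      exact this
  obtain ⟨x, y, hxy⟩ := h.memC (hgC e₁ h.e1C)
  have h6 := hgX e₁
  rw [h4, map_smul, hxy, map_add, map_smul, map_smul, h4, h5] at h6
  have h7 : (2 * (l * x)) • e₁ + (l * y + y * l⁻¹) • e₂ = 0 := by
    have h8 : (2 * (l * x)) • e₁ + (l * y + y * l⁻¹) • e₂ =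
        l • (x • e₁ + y • e₂) + (x • l • e₁ + y • l⁻¹ • e₂) := by
      simp only [smul_add, smul_smul, add_smul, two_mul]
      rw [mul_comm x l]
      abel
    rw [h8, h6, neg_add_cancel]
  obtain ⟨h8, h9⟩ := hli _ _ h7
  have hx : x = 0 := ((mul_eq_zero.1 ((mul_eq_zero.1 h8).resolve_left h2)).resolve_left hl)
  have hy : y ≠ 0 := by
    rintro rfl
    rw [hx, zero_smul, zero_smul, add_zero] at hxy
    have h10 : e₁ = 0 := h.inj hg (hxy.trans (map_zero g).symm)
    rw [h10, polar_zero_left] at hp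
    exact zero_ne_one hp
  have h11 : l * l = -1 := by
    have h12 : y * (l + l⁻¹) = 0 := by linear_combination h9
    have h13 : l + l⁻¹ = 0 := (mul_eq_zero.1 h12).resolve_left hy
    have h14 : l * (l + l⁻¹) = 0 := by rw [h13, mul_zero]
    rw [mul_add, mul_inv_cancel₀ hl] at h14
    exact eq_neg_of_add_eq_zero_left h14
  have h12 : (a - algebraMap F K l) * (a + algebraMap F K l) = 0 := by
    have h13 : algebraMap F K l * algebraMap F K l = -1 := by rw [← map_mul, h11, map_neg, map_one]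
    linear_combination h3 - h13
  rcases mul_eq_zero.1 h12 with h13 | h13
  · exact hna l (sub_eq_zero.1 h13)
  · exact hna (-l) (by rw [map_neg]; exact eq_neg_of_add_eq_zero_left h13)

end geo

end Cfsg.Agent.H783.CS
end

private theorem dce_aded39371150 : _root_.True := by
  try have : _root_.True := by simp only [_root_.Cfsg.Agent.H783.CS.resW.congr_simp]
  exact _root_.True.intro
end

-- part: H60/DE/Data
section
set_option linter.all false

/-!
# `PΩ⁺(2n, q)`, `n` even: what is known about the simple factor (helper60, S3677)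

`K` is the largest normal subgroup of `G` of order prime to all primes `r` with `orderOf (q : ZMod r) = d`, `S` the simple
normal subgroup of `G/K`, `MS = |S|`, `I = |G/K : S|`; the centralizer orders of the elements of these orders `r` are `m`
(odd).
-/

set_option autoImplicit false

namespace Cfsg.Agent.H60.DE

open Cfsg.Agent.H902.Lte Cfsg.Agent.H902.Art

/-- the two cases -/
def Num (n q d m : ℕ) : Prop :=
  (d = 2 * (n - 1) ∧ m * Nat.gcd 4 (q ^ n - 1) = (q ^ (n - 1) + 1) * (q + 1) ∧ (q % 4 = 1 ∨ (q % 2 = 0 ∧ 4 ≤ q))) ∨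
    (d = n - 1 ∧ m * Nat.gcd 4 (q ^ n - 1) = (q ^ (n - 1) - 1) * (q - 1) ∧ (q % 4 = 3 ∨ q = 2))

/-- what is known about the simple factor, `MS = |S|`, `I` the index -/
structure Dat (n p f M d m MS I : ℕ) : Prop where
  hn : 4 ≤ n
  hev : n % 2 = 0
  hY : Real (.D n) p f M
  num : Num n (p ^ f) d m
  hMS : MS ∣ M
  hI0 : 0 < I
  /-- the primes not dividing `p m` do not divide `|K|` -/
  big : ∀ t : ℕ, t.Prime → t ≠ p → ¬ t ∣ m → ¬ (p ^ f = 2 ∧ t = 3) → ¬ (p ^ f = 3 ∧ t = 2) → P t M ∣ I * MS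
  /-- the perfect primes do not divide `|K|` -/
  per : ∀ r : ℕ, r.Prime → orderOf ((p ^ f : ℕ) : ZMod r) = d → P r M ∣ I * MS
  ex : ∃ r : ℕ, r.Prime ∧ orderOf ((p ^ f : ℕ) : ZMod r) = d ∧ r ∣ MS

end Cfsg.Agent.H60.DE
end

-- part: H237/PL/Odd_mg
section
prune_inst 0x300000000000000000000000000000000
set_option linter.all false
open scoped Cfsg.Agent.FastGrp

-- part: H237/PL/Model
section
/-!
# S3677, lattices of `PΩ⁺_{2n}(q)`: the common model (helper237)

`HQ F M` : the hyperbolic form `(φ, m) ↦ φ m` on `M* × M`.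
`DO : GL(M) →* O (HQ F M)`, `A ↦ (A⁻ᵀ, A)`.
`modelEquiv` : `PΩ(quadFormPlus n F) ≃* Ω / Z(Ω)` for `Ω = commutator (O (HQ F M))`, `dim M = n`.
`index_dvd`, `index_odd`, `index_two` : the index of `Ω`; `mem_center` : the centre of `Ω`.
-/

set_option autoImplicit false

universe u v w

namespace Cfsg.Agent.H237.PL

open QuadraticMap Module
open Cfsg.Agent.LieClassical.OrthCore Cfsg.Agent.LieClassical.OrthFinite Cfsg.Agent.LieClassical.OrthForms
open Cfsg.Agent.H160.QSpin

/-! ### commutator subgroups and isomorphisms -/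

section grp

variable {G : Type u} [Group G] {H : Type v} [Group H]

theorem map_commutator_equiv (e : G ≃* H) : (commutator G).map e.toMonoidHom = commutator H := by
  rw [commutator_def, commutator_def, Subgroup.map_commutator, Subgroup.map_top_of_surjective _ e.surjective]

/-- the isomorphism of the commutator subgroups -/
noncomputable def commEquiv (e : G ≃* H) : commutator G ≃* commutator H :=
  (e.subgroupMap (commutator G)).trans (MulEquiv.subgroupCongr (map_commutator_equiv e))

theorem coe_commEquiv (e : G ≃* H) (g : commutator G) : (commEquiv e g : H) = e g := rfl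

end grp

variable (F : Type v) [Field F] (M : Type w) [AddCommGroup M] [Module F M]

/-- the hyperbolic form on `M* × M` -/
abbrev HQ : QuadraticForm F (Dual F M × M) := QuadraticForm.dualProd F M

variable {F M}

theorem HQ_apply (x : Dual F M × M) : HQ F M x = x.1 x.2 := rfl

theorem polar_HQ (x y : Dual F M × M) : polar (HQ F M) x y = x.1 y.2 + y.1 x.2 := by
  simp only [polar, QuadraticForm.dualProd_apply, Prod.fst_add, Prod.snd_add, LinearMap.add_apply, map_add]
  ring

theorem nondeg_HQ : Nondeg (HQ F M) := by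
  rintro ⟨φ, m⟩ h
  have h1 : φ = 0 := by
    ext y
    have := h (0, y)
    rw [polar_HQ] at this
    simpa only [_root_.LinearMap.zero_apply, _root_.add_zero] using this
  have h2 : m = 0 := by
    refine (Module.forall_dual_apply_eq_zero_iff F m).1 fun ψ => ?_
    have := h (ψ, 0)
    rw [polar_HQ] at this
    simpa only [_root_.map_zero, _root_.zero_add] using this
  rw [h1, h2]
  rfl

/-- `GL(M)` in `GL(M* × M)` -/
def Dl : (M ≃ₗ[F] M) →* ((Dual F M × M) ≃ₗ[F] (Dual F M × M)) where
  toFun A := A.dualMap.symm.prodCongr A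
  map_one' := rfl
  map_mul' _ _ := rfl

theorem Dl_apply (A : M ≃ₗ[F] M) (x : Dual F M × M) : Dl A x = (x.1 ∘ₗ (A.symm : M →ₗ[F] M), A x.2) := rfl

theorem Dl_fst (A : M ≃ₗ[F] M) (x : Dual F M × M) (m : M) : (Dl A x).1 m = x.1 (A.symm m) := rfl

theorem Dl_mem (A : M ≃ₗ[F] M) : Dl A ∈ O (HQ F M) := by
  intro x
  rw [HQ_apply, HQ_apply, Dl_fst]
  show x.1 (A.symm (A x.2)) = _
  rw [LinearEquiv.symm_apply_apply]

/-- `GL(M)` in `O(M* × M)` -/
def DO : (M ≃ₗ[F] M) →* O (HQ F M) := Dl.codRestrict (O (HQ F M)) Dl_mem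

theorem coe_DO (A : M ≃ₗ[F] M) : (DO A : (Dual F M × M) ≃ₗ[F] (Dual F M × M)) = Dl A := rfl

theorem Dl_injective : Function.Injective (Dl : (M ≃ₗ[F] M) → _) := by
  intro A B h
  ext m
  have := congrArg Prod.snd (LinearEquiv.congr_fun h ((0 : Dual F M), m))
  exact this

theorem DO_injective : Function.Injective (DO : (M ≃ₗ[F] M) → O (HQ F M)) := by
  intro A B h
  exact Dl_injective (congrArg Subtype.val h)

/-- an isometry which preserves `M` and `M*` comes from `GL(M)` -/
theorem exists_DO [FiniteDimensional F M] (g : O (HQ F M))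
    (h1 : ∀ m : M, ((g : (Dual F M × M) ≃ₗ[F] (Dual F M × M)) (0, m)).1 = 0)
    (h2 : ∀ φ : Dual F M, ((g : (Dual F M × M) ≃ₗ[F] (Dual F M × M)) (φ, 0)).2 = 0) : ∃ A : M ≃ₗ[F] M, DO A = g := by
  set G : (Dual F M × M) ≃ₗ[F] (Dual F M × M) := (g : (Dual F M × M) ≃ₗ[F] (Dual F M × M)) with hG
  let a : M →ₗ[F] M := (LinearMap.snd F (Dual F M) M).comp ((G : _ →ₗ[F] _).comp (LinearMap.inr F (Dual F M) M))
  have ha : ∀ m, a m = (G (0, m)).2 := fun m => rfl
  have hQ : ∀ (φ : Dual F M) (m : M), (G (φ, 0)).1 (a m) = φ m := by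
    intro φ m
    have h3 := polar_map g.2 (φ, 0) (0, m)
    (rewrite [polar_HQ] at h3; simp +singlePass only [polar_HQ] at h3; rewrite [← hG, h1 m, h2 φ] at h3)
    simpa [ha] using h3
  have hinj : Function.Injective a := by
    rw [injective_iff_map_eq_zero]
    intro m hm
    refine (Module.forall_dual_apply_eq_zero_iff F m).1 fun φ => ?_
    rw [← hQ φ m, hm, map_zero]
  let A : M ≃ₗ[F] M := LinearEquiv.ofInjectiveEndo a hinj
  have hA : ∀ m, A m = (G (0, m)).2 := fun m => rfl
  refine ⟨A, Subtype.ext ?_⟩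
  rw [coe_DO, ← hG]
  apply LinearEquiv.ext
  rintro ⟨φ, m⟩
  have e : ((φ, m) : Dual F M × M) = (φ, 0) + (0, m) := by simp
  have e1 : (Dl A (φ, m)) = (G (φ, 0)) + (G (0, m)) := by
    apply Prod.ext
    · rw [Prod.fst_add, h1 m, add_zero]
      ext y
      rw [Dl_fst]
      show φ (A.symm y) = _
      rw [← hQ φ (A.symm y)]
      congr 1
      exact A.apply_symm_apply y
    · rw [Prod.snd_add, h2 φ, zero_add, Dl_apply]
      exact hA m
  rw [e1, ← map_add, ← e]

theorem finrank_model [FiniteDimensional F M] : finrank F (Dual F M × M) = 2 * finrank F M := by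
  rw [Module.finrank_prod, Subspace.dual_finrank_eq]
  ring

/-! ### the standard form -/

/-- coordinates -/
noncomputable def toStd {n : ℕ} (b : Basis (Fin n) F M) : (Fin n ⊕ Fin n → F) ≃ₗ[F] (Dual F M × M) :=
  (LinearEquiv.sumArrowLequivProdArrow (Fin n) (Fin n) F F).trans
    (b.dualBasis.equivFun.symm.prodCongr b.equivFun.symm)

theorem isIso_toStd {n : ℕ} (b : Basis (Fin n) F M) : IsIso (plusForm n F) (HQ F M) (toStd b) := by
  intro x
  have e1 : toStd b x = (∑ i, x (Sum.inl i) • b.dualBasis i, ∑ i, x (Sum.inr i) • b i) := by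
    show (b.dualBasis.equivFun.symm _, b.equivFun.symm _) = _
    rw [Basis.equivFun_symm_apply, Basis.equivFun_symm_apply]
    rfl
  rw [e1, HQ_apply]
  show (∑ i, x (Sum.inl i) • b.dualBasis i) (∑ i, x (Sum.inr i) • b i) = plusForm n F x
  rw [coe_plusForm, quadFormPlus_apply, LinearMap.sum_apply]
  refine Finset.sum_congr rfl fun i _ => ?_
  rw [LinearMap.smul_apply, map_sum, Finset.sum_eq_single i]
  · rw [map_smul, Basis.dualBasis_apply_self]
    simp
  · intro j _ hj
    rw [map_smul, Basis.dualBasis_apply_self, if_neg hj]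
    simp
  · intro h
    exact absurd (Finset.mem_univ i) h

/-- transport of orthogonal groups -/
noncomputable def oEquiv {V : Type*} [AddCommGroup V] [Module F V] {W : Type*} [AddCommGroup W] [Module F W]
    {Q : QuadraticForm F V} {Q' : QuadraticForm F W} (e : V ≃ₗ[F] W) (he : IsIso Q Q' e) : O Q ≃* O Q' where
  toFun g := ⟨cj e g, cj_mem_O he g.2⟩
  invFun g := ⟨cj e.symm g, cj_mem_O he.symm g.2⟩
  left_inv _ := Subtype.ext ((cjEquiv e).symm_apply_apply _)
  right_inv _ := Subtype.ext ((cjEquiv e).apply_symm_apply _)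
  map_mul' _ _ := Subtype.ext (cj_mul e _ _)

/-- from matrices to the model -/
noncomputable def isoEquiv {n : ℕ} (b : Basis (Fin n) F M) :
    Cfsg.isometryGroup F (Cfsg.quadFormPlus n F) ≃* O (HQ F M) :=
  (MulEquiv.subgroupCongr (by rw [coe_plusForm])).trans
    ((isometryEquiv (plusForm n F)).trans (oEquiv (toStd b) (isIso_toStd b)))

/-- **The model of `PΩ⁺`.** -/
noncomputable def modelEquiv {n : ℕ} (b : Basis (Fin n) F M) :
    Cfsg.POmega F (Cfsg.quadFormPlus n F) ≃*
      (commutator (O (HQ F M)) ⧸ Subgroup.center (commutator (O (HQ F M)))) :=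
  quotientCenterCongr (commEquiv (isoEquiv b))

theorem isoEquiv_apply {n : ℕ} (b : Basis (Fin n) F M) (g : Cfsg.isometryGroup F (Cfsg.quadFormPlus n F))
    (x : Fin n ⊕ Fin n → F) :
    (isoEquiv b g : (Dual F M × M) ≃ₗ[F] (Dual F M × M)) (toStd b x) =
      toStd b (((g : Matrix.GeneralLinearGroup (Fin n ⊕ Fin n) F) : Matrix (Fin n ⊕ Fin n) (Fin n ⊕ Fin n) F).mulVec x) := by
  show cj (toStd b) _ (toStd b x) = _
  rw [cj_apply']
  rfl

theorem nondeg_plus (n : ℕ) : (polarBilin (plusForm n F)).Nondegenerate := by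
  constructor
  · intro x hx
    exact nondeg_plusForm n F x fun y => hx y
  · intro x hx
    refine nondeg_plusForm n F x fun y => ?_
    rw [QuadraticMap.polar_comm]
    exact hx y

theorem exists_sing {n : ℕ} (hn : 1 ≤ n) : ∃ u : Fin n ⊕ Fin n → F, u ≠ 0 ∧ plusForm n F u = 0 := by
  classical
  refine ⟨Pi.single (Sum.inl ⟨0, hn⟩) 1, ?_, ?_⟩
  · intro h
    have := congrFun h (Sum.inl ⟨0, hn⟩)
    simp at this
  · rw [coe_plusForm, quadFormPlus_apply]
    refine Finset.sum_eq_zero fun i _ => ?_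
    rw [Pi.single_apply (Sum.inl _) _ (Sum.inr i), if_neg (by simp), mul_zero]

/-- **The centre of `Ω`.** -/
theorem mem_center [FiniteDimensional F M] (hn : 2 ≤ finrank F M) (z : commutator (O (HQ F M))) :
    z ∈ Subgroup.center (commutator (O (HQ F M))) ↔
      ((z : O (HQ F M)) : (Dual F M × M) ≃ₗ[F] (Dual F M × M)) = 1 ∨
      ((z : O (HQ F M)) : (Dual F M × M) ≃ₗ[F] (Dual F M × M)) = LinearEquiv.neg F := by
  set n := finrank F M with hn'
  have b : Basis (Fin n) F M := finBasisOfFinrankEq F M rfl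
  have hob_ := (commEquiv (isoEquiv b)).surjective z
  obtain ⟨y, rfl⟩ := hob_
  have h1 : commEquiv (isoEquiv b) y ∈ Subgroup.center (commutator (O (HQ F M))) ↔
      y ∈ Subgroup.center (Cfsg.Omega F (Cfsg.quadFormPlus n F)) := by
    simp only [← map_center_mulEquiv (commEquiv (isoEquiv b))]
    exact Subgroup.mem_map_iff_mem (commEquiv (isoEquiv b)).injective
  have h2 := @Cfsg.Agent.LieClassical.OrthCenter.mem_center_omega_iff (Fin n ⊕ Fin n) _ _ F _ (plusForm n F)
  rw [coe_plusForm] at h2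
  rw [h1, h2 (nondeg_plus n) (by simp only [_root_.Fintype.card_sum, _root_.Fintype.card_fin]; omega) (by
    have := exists_sing (F := F) (n := n) (by omega)
    rwa [coe_plusForm] at this) y, coe_commEquiv]
  have key : ∀ c : F, (((y : Cfsg.isometryGroup F (Cfsg.quadFormPlus n F)) :
      Matrix.GeneralLinearGroup (Fin n ⊕ Fin n) F) : Matrix (Fin n ⊕ Fin n) (Fin n ⊕ Fin n) F) = c • 1 ↔
      ∀ x, (isoEquiv b (y : Cfsg.isometryGroup F (Cfsg.quadFormPlus n F)) : (Dual F M × M) ≃ₗ[F] (Dual F M × M)) x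
        = c • x := by
    intro c
    constructor
    · intro h x
      obtain ⟨x, rfl⟩ := (toStd b).surjective x
      simp only [isoEquiv_apply, h, Matrix.smul_mulVec, Matrix.one_mulVec, map_smul]
    · intro h
      apply Matrix.mulVec_injective
      funext x
      rw [Matrix.smul_mulVec, Matrix.one_mulVec]
      apply (toStd b).injective
      rw [← isoEquiv_apply, h, map_smul]
  refine or_congr ?_ ?_
  · have := key 1
    rw [one_smul] at this
    simp only [this]
    constructor
    · intro h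
      apply LinearEquiv.ext
      intro x
      rw [h x, one_smul]
      rfl
    · intro h x
      rw [h, one_smul]
      rfl
  · have := key (-1)
    ((conv at this => enter [@1, @3]; rw [neg_smul]); simp only [one_smul] at this)
    simp only [this]
    constructor
    · intro h
      apply LinearEquiv.ext
      intro x
      exact (h x).trans (neg_one_smul F x)
    · intro h x
      rw [h]
      exact (neg_one_smul F x).symm

theorem index_eq [FiniteDimensional F M] :
    (commutator (O (HQ F M))).index = (Cfsg.Omega F (Cfsg.quadFormPlus (finrank F M) F)).index :=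
  (Cfsg.Agent.LieClassical.OmegaReindex.index_commutator_congr (isoEquiv (finBasisOfFinrankEq F M rfl))).symm

theorem index_odd [Fintype F] [FiniteDimensional F M] (h2 : (2 : F) ≠ 0) (hn : 1 ≤ finrank F M) :
    (commutator (O (HQ F M))).index = 4 := by
  rw [index_eq, ← coe_plusForm]
  exact Cfsg.Agent.LieClassical.OmegaReindex.index_omega_of_fin (n := 2 * finrank F M) (by simp only [_root_.Fintype.card_sum, _root_.Fintype.card_fin]; ring)
    (fun Q' hQ' => Cfsg.Agent.S0788.result h2 (by omega) Q' hQ') _ (nondeg_plus _)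

theorem index_two [Fintype F] [CharP F 2] [FiniteDimensional F M] (hn : 3 ≤ finrank F M) :
    (commutator (O (HQ F M))).index = 2 := by
  rw [index_eq, ← coe_plusForm]
  exact Cfsg.Agent.LieClassical.OmegaReindex.index_omega_of_fin (n := 2 * finrank F M) (by simp only [_root_.Fintype.card_sum, _root_.Fintype.card_fin]; ring)
    (fun Q' hQ' => Cfsg.Agent.S0789.result (by omega) Q' hQ' (Or.inr (by omega))) _ (nondeg_plus _)

end Cfsg.Agent.H237.PL
end

-- part: H237/PL/Tor
section
/-!
# S3677, lattices of `PΩ⁺`: the field `K` in the model (helper237)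

`K / F` finite, `M = K`, `Tw : Kˣ →* O (HQ F K)`.

* `block` : an isometry intertwining `Tw w` and `Tw w'` comes from `GL(K)`, if `w'⁻¹` is not conjugate to `w`;
* `conj_eq` : the conjugacy lemma (`[K : F]` odd);
* `mem_comm_iff` : `g Tw w = Tw w g ↔ g = DO A`, `A` commutes with `w` (`w² ≠ 1`);
* `no_neg` : `g Tw w g⁻¹ ≠ Tw (-w)` if `w ∉ F`;
* `comm_of_degree` : the centralizer of `w` in `GL(K)` only depends on the degree of `w`;
* `card_comm` : `|C(Tw w)| = |GL_m(q^k)|`.
-/

set_option autoImplicit false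

universe u v w

namespace Cfsg.Agent.H237.PL

open Module Polynomial

/-! ### intertwining -/

section inter

variable {F : Type*} [Field F] {V V' : Type*} [AddCommGroup V] [Module F V] [AddCommGroup V'] [Module F V']

theorem inter {T : Module.End F V} {T' : Module.End F V'} {f : V →ₗ[F] V'} (h : ∀ v, f (T v) = T' (f v)) (μ : F[X])
    (v : V) : f (aeval T μ v) = aeval T' μ (f v) := by
  induction μ using Polynomial.induction_on' with
  | add p q hp hq => rw [map_add, map_add, LinearMap.add_apply, LinearMap.add_apply, map_add, hp, hq]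
  | monomial n a =>
    rw [aeval_monomial, aeval_monomial]
    show f (algebraMap F (Module.End F V) a ((T ^ n) v)) = algebraMap F (Module.End F V') a ((T' ^ n) (f v))
    rw [Module.algebraMap_end_apply, Module.algebraMap_end_apply, map_smul]
    congr 1
    clear a
    induction n generalizing v with
    | zero => rfl
    | succ n ih =>
      rw [pow_succ, pow_succ]
      show f ((T ^ n) (T v)) = (T' ^ n) (T' (f v))
      rw [ih, h]

end inter

variable {F : Type v} [Field F] {K : Type w} [Field K] [Algebra F K]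

/-- multiplication -/
def mu : Kˣ →* (K ≃ₗ[F] K) where
  toFun w :=
    { toFun := fun a => (w : K) * a
      map_add' := fun a b => mul_add _ a b
      map_smul' := fun c a => by rw [mul_smul_comm]; rfl
      invFun := fun a => ((w⁻¹ : Kˣ) : K) * a
      left_inv := fun a => by
        show ((w⁻¹ : Kˣ) : K) * ((w : K) * a) = a
        rw [← mul_assoc, Units.inv_mul, one_mul]
      right_inv := fun a => by
        show (w : K) * (((w⁻¹ : Kˣ) : K) * a) = a
        rw [← mul_assoc, Units.mul_inv, one_mul] }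
  map_one' := by
    ext a
    exact one_mul a
  map_mul' w w' := by
    ext a
    exact mul_assoc _ _ _

theorem mu_apply (w : Kˣ) (a : K) : (mu w : K ≃ₗ[F] K) a = (w : K) * a := rfl

theorem mu_injective : Function.Injective (mu : Kˣ → (K ≃ₗ[F] K)) := by
  intro w w' h
  have := LinearEquiv.congr_fun h (1 : K)
  rw [mu_apply, mu_apply, mul_one, mul_one] at this
  exact Units.ext this

/-- the torus -/
def Tw : Kˣ →* LieClassical.OrthCore.O (HQ F K) := DO.comp mu

theorem Tw_injective : Function.Injective (Tw : Kˣ → LieClassical.OrthCore.O (HQ F K)) :=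
  DO_injective.comp mu_injective

/-- the action on the dual -/
def rho : K →ₐ[F] Module.End F (Dual F K) :=
  AlgHom.ofLinearMap
    { toFun := fun a => (Algebra.lmul F K a).dualMap
      map_add' := fun a b => by
        ext φ x
        show φ ((a + b) * x) = φ (a * x) + φ (b * x)
        rw [add_mul, map_add]
      map_smul' := fun c a => by
        ext φ x
        show φ ((c • a) * x) = c • φ (a * x)
        rw [smul_mul_assoc, map_smul] }
    (by
      ext φ x
      show φ (1 * x) = φ x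
      rw [one_mul])
    (by
      intro a b
      ext φ x
      show φ ((a * b) * x) = φ (b * (a * x))
      rw [mul_comm a b, mul_assoc])

theorem rho_apply (a : K) (φ : Dual F K) (x : K) : rho a φ x = φ (a * x) := rfl

theorem Tw_apply (w : Kˣ) (x : Dual F K × K) :
    ((Tw w : LieClassical.OrthCore.O (HQ F K)) : (Dual F K × K) ≃ₗ[F] (Dual F K × K)) x = (rho ((w⁻¹ : Kˣ) : K) x.1, (w : K) * x.2) := rfl

theorem rho_inj {a : K} (ha : a ≠ 0) {φ : Dual F K} (h : rho a φ = 0) : φ = 0 := by
  ext x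
  have := LinearMap.congr_fun h (a⁻¹ * x)
  rw [rho_apply, mul_inv_cancel_left₀ ha] at this
  exact this

theorem aeval_lmul (w : K) (μ : F[X]) : aeval (Algebra.lmul F K w) μ = Algebra.lmul F K (aeval w μ) :=
  aeval_algHom_apply _ _ _

theorem aeval_rho (w : K) (μ : F[X]) : aeval (rho w : Module.End F (Dual F K)) μ = rho (aeval w μ) :=
  aeval_algHom_apply _ _ _

/-- a linear map `A` with `A (w a) = w' A a` -/
theorem lmul_inter {w w' : K} {A : K →ₗ[F] K} (h : ∀ a, A (w * a) = w' * A a) (μ : F[X]) (a : K) :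
    A (aeval w μ * a) = aeval w' μ * A a := by
  have h1 := inter (T := Algebra.lmul F K w) (T' := Algebra.lmul F K w') (f := A) h μ a
  rw [aeval_lmul, aeval_lmul] at h1
  exact h1

/-- **isometries intertwining two elements of the torus** -/
theorem block [FiniteDimensional F K] {w w' : Kˣ} {g : LieClassical.OrthCore.O (HQ F K)} (hg : g * Tw w = Tw w' * g)
    (h1 : aeval ((w'⁻¹ : Kˣ) : K) (minpoly F (w : K)) ≠ 0) (h2 : aeval (w' : K) (minpoly F ((w⁻¹ : Kˣ) : K)) ≠ 0) :
    ∃ A : K ≃ₗ[F] K, DO A = g ∧ ∀ a, A ((w : K) * a) = (w' : K) * A a := by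
  set! G : (Dual F K × K) ≃ₗ[F] (Dual F K × K) := (g : (Dual F K × K) ≃ₗ[F] (Dual F K × K)) with hG
  have hG1 : ∀ x, G (((Tw w : LieClassical.OrthCore.O (HQ F K)) : (Dual F K × K) ≃ₗ[F] (Dual F K × K)) x) =
      ((Tw w' : LieClassical.OrthCore.O (HQ F K)) : (Dual F K × K) ≃ₗ[F] (Dual F K × K)) (G x) :=
    fun x => LinearEquiv.congr_fun (congrArg Subtype.val hg) x
  have k1 : ∀ m : K, (G (0, m)).1 = 0 := by
    intro m
    let f : K →ₗ[F] Dual F K := (LinearMap.fst F (Dual F K) K).comp ((G : _ →ₗ[F] _).comp (LinearMap.inr F (Dual F K) K))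
    have hf : ∀ a, f (Algebra.lmul F K (w : K) a) = rho ((w'⁻¹ : Kˣ) : K) (f a) := by
      intro a
      have h3 := congrArg Prod.fst (hG1 (0, a))
      ((conv at h3 => enter [@2, @3, @6]; rw [Tw_apply]); (conv at h3 => enter [@3, @3]; rw [Tw_apply]); (conv at h3 => enter [@2, @3, @6, @3]; rw [map_zero]))
      exact h3
    have h3 := inter hf (minpoly F (w : K)) m
    simp only [aeval_lmul, aeval_rho, minpoly.aeval, map_zero, LinearMap.zero_apply, map_zero] at h3
    exact rho_inj h1 h3.symm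
  have k2 : ∀ φ : Dual F K, (G (φ, 0)).2 = 0 := by
    intro φ
    let f : Dual F K →ₗ[F] K := (LinearMap.snd F (Dual F K) K).comp ((G : _ →ₗ[F] _).comp (LinearMap.inl F (Dual F K) K))
    have hf : ∀ a, f (rho ((w⁻¹ : Kˣ) : K) a) = Algebra.lmul F K (w' : K) (f a) := by
      intro a
      have h3 := congrArg Prod.snd (hG1 (a, 0))
      ((conv at h3 => enter [@2, @3, @6]; rw [Tw_apply]); (conv at h3 => enter [@3, @3]; rw [Tw_apply]); (conv at h3 => enter [@2, @3, @6, @4]; rw [mul_zero]))
      exact h3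
    have h3 := inter hf (minpoly F ((w⁻¹ : Kˣ) : K)) φ
    simp only [aeval_lmul, aeval_rho, minpoly.aeval, map_zero, LinearMap.zero_apply, map_zero] at h3
    exact (mul_eq_zero.1 h3.symm).resolve_left h2
  have hob_ := exists_DO g k1 k2
  obtain ⟨A, hA⟩ := hob_
  refine ⟨A, hA, fun a => ?_⟩
  have h3 : A * mu w = mu w' * A := by
    apply DO_injective
    simp only [map_mul, map_mul, hA]
    exact hg
  exact LinearEquiv.congr_fun h3 a

/-- **The conjugacy lemma.** -/
theorem conj_eq [Finite F] [FiniteDimensional F K] (hodd : Odd (finrank F K)) {w u : K}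
    (hu : aeval u (minpoly F w) = 0) (h : ∀ σ : K ≃ₐ[F] K, σ w = u → σ u = w) : u = w := by
  have : Finite K := Module.finite_of_finite F
  obtain ⟨σ, hσ⟩ := minpoly.exists_algEquiv_of_root' (Algebra.IsAlgebraic.isAlgebraic w) hu
  have h2 : (σ ^ 2) w = w := by
    rw [pow_two]
    show σ (σ w) = w
    rw [hσ]
    exact h σ hσ
  have h3 : σ ^ (finrank F K) = 1 := by
    rw [← IsGalois.card_aut_eq_finrank F K]
    exact pow_card_eq_one'
  obtain ⟨k, hk⟩ := hodd
  have h4 : ∀ j : ℕ, ((σ ^ 2) ^ j) w = w := by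
    intro j
    induction j with
    | zero => rfl
    | succ j ih =>
      rw [pow_succ]
      show ((σ ^ 2) ^ j) ((σ ^ 2) w) = w
      rw [h2, ih]
  have h5 : (σ ^ (finrank F K)) w = u := by
    rw [hk, pow_succ', pow_mul]
    show σ (((σ ^ 2) ^ k) w) = u
    rw [h4, hσ]
  rw [h3] at h5
  exact h5.symm

section count

variable [Finite F] [FiniteDimensional F K]

theorem inv_ne_root (hodd : Odd (finrank F K)) {w : Kˣ} (hw : w ^ 2 ≠ 1) :
    aeval ((w⁻¹ : Kˣ) : K) (minpoly F (w : K)) ≠ 0 := by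
  intro h
  have h1 := conj_eq hodd h (fun σ hσ => by
    rw [Units.val_inv_eq_inv_val] at hσ ⊢
    rw [map_inv₀, hσ, inv_inv])
  have h2 : w⁻¹ = w := Units.ext h1
  apply hw
  rw [pow_two]
  nth_rewrite 1 [← h2]
  exact inv_mul_cancel w

/-- the centralizer of `Tw w` -/
theorem mem_comm_iff (hodd : Odd (finrank F K)) {w : Kˣ} (hw : w ^ 2 ≠ 1) (g : LieClassical.OrthCore.O (HQ F K)) :
    g * Tw w = Tw w * g ↔ ∃ A : K ≃ₗ[F] K, DO A = g ∧ ∀ a, A ((w : K) * a) = (w : K) * A a := by
  constructor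
  · intro h
    refine block h (inv_ne_root hodd hw) ?_
    have h1 := inv_ne_root (F := F) hodd (w := w⁻¹) (by rwa [inv_pow, ne_eq, inv_eq_one])
    rwa [inv_inv] at h1
  · rintro ⟨A, rfl, hA⟩
    show DO A * DO (mu w) = DO (mu w) * DO A
    simp only [← map_mul, ← map_mul]
    congr 1
    ext a
    exact hA a

/-- `w` in `GL(K)` -/
theorem card_comm (hodd : Odd (finrank F K)) {w : Kˣ} (hw : w ^ 2 ≠ 1) :
    Nat.card (Subgroup.centralizer ({Tw w} : Set (LieClassical.OrthCore.O (HQ F K)))) =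
      Nat.card {A : K ≃ₗ[F] K // ∀ a, A ((w : K) * a) = (w : K) * A a} := by
  symm
  refine Nat.card_congr (Equiv.ofBijective (fun A => ⟨DO A.1, ?_⟩) ⟨?_, ?_⟩)
  · rw [Subgroup.mem_centralizer_singleton_iff, mem_comm_iff hodd hw]
    exact ⟨A.1, rfl, A.2⟩
  · intro A B h
    exact Subtype.ext (DO_injective (congrArg Subtype.val h))
  · rintro ⟨g, hg⟩
    rw [Subgroup.mem_centralizer_singleton_iff, mem_comm_iff hodd hw] at hg
    obtain ⟨A, hA, h2⟩ := hg
    exact ⟨⟨A, h2⟩, Subtype.ext hA⟩

omit [Finite F] in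
/-- elements of the base field -/
theorem mem_range_of_natDegree_le {w : K} (hodd : Odd (finrank F K)) (h : (minpoly F w).natDegree ≤ 2) :
    (minpoly F w).natDegree = 1 := by
  have h1 : (minpoly F w).natDegree ∣ finrank F K := minpoly.degree_dvd (Algebra.IsIntegral.isIntegral w)
  have h2 := minpoly.natDegree_pos (Algebra.IsIntegral.isIntegral (R := F) w)
  have h3 : (minpoly F w).natDegree ≠ 2 := by
    intro h4
    rw [h4] at h1
    exact (Nat.not_even_iff_odd.2 hodd) (even_iff_two_dvd.2 h1)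
  omega

/-- **no sign** -/
theorem no_neg (h2 : (2 : F) ≠ 0) (hodd : Odd (finrank F K)) {w : Kˣ} (hw : (minpoly F (w : K)).natDegree ≠ 1)
    (g : LieClassical.OrthCore.O (HQ F K)) : g * Tw w ≠ Tw (-w) * g := by
  intro hg
  have h2K : (2 : K) ≠ 0 := by
    intro h
    apply h2
    apply (algebraMap F K).injective
    rw [map_zero, map_ofNat]
    exact h
  have key : ∀ u : K, u = -u⁻¹ → u ≠ 0 → (minpoly F u).natDegree = 1 := by
    intro u hu hu0
    apply mem_range_of_natDegree_le hodd
    have h3 : aeval u (X ^ 2 + 1 : F[X]) = 0 := by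
      simp only [map_add, map_pow, aeval_X, map_one]
      have : u * u = -1 := by
        nth_rewrite 2 [hu]
        rw [mul_neg, mul_inv_cancel₀ hu0]
      linear_combination this
    have h4 := Polynomial.natDegree_le_of_dvd (minpoly.dvd F u h3) (by
      intro h5
      have := congrArg (fun p => p.coeff 0) h5
      simp at this)
    refine h4.trans ?_
    have : (X ^ 2 + 1 : F[X]).natDegree = 2 := by compute_degree!
    rw [this]
  have hdeg : (minpoly F ((w⁻¹ : Kˣ) : K)).natDegree = 1 → (minpoly F (w : K)).natDegree = 1 := by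
    intro h
    rw [minpoly.natDegree_eq_one_iff] at h ⊢
    obtain ⟨c, hc⟩ := h
    refine ⟨c⁻¹, ?_⟩
    rw [map_inv₀, hc, Units.val_inv_eq_inv_val, inv_inv]
  have e1 : (((-w)⁻¹ : Kˣ) : K) = -(w : K)⁻¹ := by
    rw [Units.val_inv_eq_inv_val, Units.val_neg, inv_neg]
  obtain ⟨A, -, hA⟩ := block hg (by
    intro h
    rw [e1] at h
    have h3 := conj_eq hodd h (fun σ hσ => by rw [map_neg, map_inv₀, hσ, inv_neg, inv_inv, neg_neg])
    exact hw (key _ h3.symm w.ne_zero)) (by
    intro h
    rw [Units.val_neg] at h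
    have h3 := conj_eq hodd h (fun σ hσ => by
      rw [Units.val_inv_eq_inv_val, map_inv₀] at hσ
      rw [map_neg, Units.val_inv_eq_inv_val, ← inv_inv (σ (w : K)), hσ, inv_neg, neg_neg])
    apply hw
    apply hdeg
    refine key _ ?_ (w⁻¹).ne_zero
    rw [Units.val_inv_eq_inv_val, inv_inv, ← Units.val_inv_eq_inv_val]
    exact h3.symm)
  have h3 := lmul_inter (A := (A : K →ₗ[F] K)) hA (minpoly F (w : K)) 1
  rw [minpoly.aeval, zero_mul, map_zero] at h3
  have h4 : (A : K →ₗ[F] K) 1 ≠ 0 := fun h => one_ne_zero (A.map_eq_zero_iff.1 h)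
  have h5 := (mul_eq_zero.1 h3.symm).resolve_right h4
  rw [Units.val_neg] at h5
  have h6 := conj_eq hodd h5 (fun σ hσ => by rw [map_neg, hσ, neg_neg])
  apply w.ne_zero
  have h7 : (2 : K) * w = 0 := by linear_combination -h6
  exact (mul_eq_zero.1 h7).resolve_left h2K

theorem mem_iff_pow (L : IntermediateField F K) (x : K) : x ∈ L ↔ x ^ (Nat.card L) = x := by
  classical
  have : Finite K := Module.finite_of_finite F
  have := Fintype.ofFinite K
  have := Fintype.ofFinite L
  have hL : 1 < Nat.card L := Finite.one_lt_card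
  constructor
  · intro hx
    have h := FiniteField.pow_card (⟨x, hx⟩ : L)
    rw [← Nat.card_eq_fintype_card] at h
    exact congrArg Subtype.val h
  · intro hx
    have hne : (X ^ (Nat.card L) - X : K[X]) ≠ 0 := FiniteField.X_pow_card_sub_X_ne_zero K hL
    have h1 : (Finset.univ.filter fun y : K => y ∈ L) ⊆ (X ^ (Nat.card L) - X : K[X]).roots.toFinset := by
      intro y hy
      rw [Finset.mem_filter] at hy
      rw [Multiset.mem_toFinset, mem_roots hne, IsRoot.def]
      have h := FiniteField.pow_card (⟨y, hy.2⟩ : L)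
      rw [← Nat.card_eq_fintype_card] at h
      have h' : y ^ (Nat.card L) = y := congrArg Subtype.val h
      rw [eval_sub, eval_pow, eval_X, h', sub_self]
    have h2 : (Finset.univ.filter fun y : K => y ∈ L).card = Nat.card L := by
      rw [Nat.card_eq_fintype_card]
      exact (Fintype.card_subtype _).symm
    have h3 : (X ^ (Nat.card L) - X : K[X]).roots.toFinset.card ≤ Nat.card L := by
      refine (Multiset.toFinset_card_le _).trans ((Polynomial.card_roots' _).trans ?_)
      rw [FiniteField.X_pow_card_sub_X_natDegree_eq K hL]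
    have h4 := Finset.eq_of_subset_of_card_le h1 (by rw [h2]; exact h3)
    have h5 : x ∈ (X ^ (Nat.card L) - X : K[X]).roots.toFinset := by
      rw [Multiset.mem_toFinset, mem_roots hne, IsRoot.def]
      rw [eval_sub, eval_pow, eval_X, hx, sub_self]
    rw [← h4, Finset.mem_filter] at h5
    exact h5.2

theorem adjoin_eq_of_degree {w w' : K} (h : (minpoly F w).natDegree = (minpoly F w').natDegree) :
    IntermediateField.adjoin F {w} = IntermediateField.adjoin F {w'} := by
  have : Finite K := Module.finite_of_finite F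
  have hc : ∀ u : K, Nat.card (IntermediateField.adjoin F {u}) = Nat.card F ^ (minpoly F u).natDegree := by
    intro u
    rw [← IntermediateField.adjoin.finrank (Algebra.IsIntegral.isIntegral u)]
    exact Module.natCard_eq_pow_finrank
  ext x
  rw [mem_iff_pow, mem_iff_pow, hc, hc, h]

omit [Finite F] in
theorem comm_of_mem {w a : K} (ha : a ∈ IntermediateField.adjoin F {w}) {A : K →ₗ[F] K}
    (hA : ∀ b, A (w * b) = w * A b) (b : K) : A (a * b) = a * A b := by
  have h2 : a ∈ Algebra.adjoin F {w} := by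
    rw [← IntermediateField.adjoin_simple_toSubalgebra_of_isAlgebraic (Algebra.IsAlgebraic.isAlgebraic w)]
    exact ha
  rw [Algebra.adjoin_singleton_eq_range_aeval] at h2
  obtain ⟨μ, hμ⟩ := h2
  rw [← hμ]
  exact lmul_inter hA μ b

/-- the centralizer in `GL(K)` depends only on the degree -/
theorem comm_of_degree {w w' : K} (h : (minpoly F w).natDegree = (minpoly F w').natDegree) {A : K →ₗ[F] K}
    (hA : ∀ a, A (w * a) = w * A a) (a : K) : A (w' * a) = w' * A a := by
  refine comm_of_mem ?_ hA a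
  rw [adjoin_eq_of_degree h]
  exact IntermediateField.mem_adjoin_simple_self F w'

theorem card_comm_eq {w w' : K} (h : (minpoly F w).natDegree = (minpoly F w').natDegree) (A : K →ₗ[F] K) :
    (∀ a, A (w * a) = w * A a) ↔ ∀ a, A (w' * a) = w' * A a :=
  ⟨fun hA a => comm_of_degree h hA a, fun hA a => comm_of_degree h.symm hA a⟩

end count

/-- the order of the centralizer in `GL(K)` -/
theorem card_gl [Fintype F] [FiniteDimensional F K] (w : K) : ∃ m : ℕ, finrank F K = (minpoly F w).natDegree * m ∧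
    Nat.card {A : K ≃ₗ[F] K // ∀ a, A (w * a) = w * A a} =
      H326.CGU.glCard m (Fintype.card F ^ (minpoly F w).natDegree) := by
  obtain ⟨m, h1, h2⟩ := H326.CGU.card_cent_irr (F := F) (U := K) (W := Algebra.lmul F K w) (p := minpoly F w)
    (minpoly.irreducible (Algebra.IsIntegral.isIntegral w)) (by rw [aeval_lmul, minpoly.aeval, map_zero])
  exact ⟨m, h1, h2⟩

end Cfsg.Agent.H237.PL
end

-- part: H237/PL/Quot
section
/-!
# S3677, lattices: quotients by a centre `{1, ν}` (helper237)

`CQ N ν` : `ν` is a central element of `Γ` with `ν ^ 2 = 1` and the centre of the normal subgroup `N` is `N ∩ {1, ν}`.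

* `CQ.lift` : elements of odd order of `N / Z(N)` lift to elements of the same order;
* `CQ.comm` : elements which commute modulo the centre commute, if one of them has odd order;
* `CQ.card_cent` : `|C(x̄)| |Z| = j |C_Γ(x) ∩ N|`, `j ∣ |Z|`, `j = 1` if `x` is not conjugate to `ν x` in `N`;
* `CQ.fact_odd` : for `p` odd, index of `N` a divisor of `4`: `|C(x̄)|` and `|C_Γ(x)|` have the same `p`-part;
* `exists_conj` : if a cyclic subgroup contains a Sylow `r`-subgroup, every element whose centralizer has order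
  divisible by `r` has a conjugate which commutes with a given element of order `r` of the cyclic subgroup.
-/

set_option autoImplicit false

universe u v

namespace Cfsg.Agent.H237.PL

open Subgroup

/-- `ν` generates the centre -/
structure CQ {Γ : Type u} [Group Γ] (N : Subgroup Γ) (ν : Γ) : Prop where
  cen : ∀ g : Γ, ν * g = g * ν
  sq : ν * ν = 1
  mem : ∀ z : N, z ∈ center N ↔ (z : Γ) = 1 ∨ (z : Γ) = ν

section

variable {Γ : Type u} [Group Γ] {N : Subgroup Γ} {ν : Γ}

theorem CQ.z_sq (h : CQ N ν) {z : N} (hz : z ∈ center N) : z * z = 1 := by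
  apply Subtype.ext
  rcases (h.mem z).1 hz with h1 | h1
  · rw [Subgroup.coe_mul, h1, one_mul]
    rfl
  · rw [Subgroup.coe_mul, h1, h.sq]
    rfl

theorem pow_odd_of_sq {G : Type*} [Group G] {z : G} (h : z * z = 1) {r : ℕ} (hr : Odd r) : z ^ r = z := by
  obtain ⟨k, rfl⟩ := hr
  rw [pow_succ, pow_mul, pow_two, h, one_pow, one_mul]

theorem CQ.lift (h : CQ N ν) {r : ℕ} (hr : Odd r) {s : N ⧸ center N} (hs : s ^ r = 1) :
    ∃ y : N, (QuotientGroup.mk y : N ⧸ center N) = s ∧ y ^ r = 1 := by
  obtain ⟨y, rfl⟩ := QuotientGroup.mk_surjective s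
  have h1 : y ^ r ∈ center N := by
    rw [← QuotientGroup.eq_one_iff, QuotientGroup.mk_pow]
    exact hs
  have h2 := h.z_sq h1
  refine ⟨y ^ r * y, ?_, ?_⟩
  · rw [QuotientGroup.mk_mul, (QuotientGroup.eq_one_iff _).2 h1, one_mul]
  · have hc : Commute (y ^ r) y := (Commute.refl y).pow_left r
    rw [hc.mul_pow, pow_odd_of_sq h2 hr, h2]

theorem CQ.comm (h : CQ N ν) {r : ℕ} (hr : Odd r) {x y : N} (hy : y ^ r = 1)
    (hc : Commute (QuotientGroup.mk x : N ⧸ center N) (QuotientGroup.mk y)) : Commute x y := by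
  have h1 : y⁻¹ * (x * y * x⁻¹) ∈ center N := by
    rw [← QuotientGroup.eq_one_iff]
    simp only [QuotientGroup.mk_mul, QuotientGroup.mk_inv]
    rw [hc.eq]
    group
  set z := y⁻¹ * (x * y * x⁻¹) with hz
  have h2 := h.z_sq h1
  have h3 : x * y * x⁻¹ = y * z := by rw [hz]; group
  have h4 : Commute y z := (Subgroup.mem_center_iff.1 h1 y)
  have h5 : (x * y * x⁻¹) ^ r = 1 := by rw [conj_pow, hy]; group
  rw [h3, h4.mul_pow, hy, one_mul, pow_odd_of_sq h2 hr] at h5
  rw [h5, mul_one] at h3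
  exact mul_inv_eq_iff_eq_mul.1 h3

/-- the centralizer in `N` as a subgroup of `Γ` -/
theorem card_cent_inf (x : N) :
    Nat.card (centralizer ({x} : Set N)) = Nat.card (centralizer ({(x : Γ)} : Set Γ) ⊓ N : Subgroup Γ) := by
  refine Nat.card_congr ⟨fun g => ⟨(g : N), ?_, (g : N).2⟩, fun g => ⟨⟨g, g.2.2⟩, ?_⟩, fun g => rfl, fun g => rfl⟩
  · exact Subgroup.mem_centralizer_singleton_iff.2 (congrArg Subtype.val (Subgroup.mem_centralizer_singleton_iff.1 g.2))
  · exact Subgroup.mem_centralizer_singleton_iff.2 (Subtype.ext (Subgroup.mem_centralizer_singleton_iff.1 g.2.1))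

theorem CQ.card_cent [Finite Γ] (h : CQ N ν) (x : N) : ∃ j : ℕ, j ∣ Nat.card (center N) ∧
    Nat.card (centralizer ({(QuotientGroup.mk x : N ⧸ center N)} : Set (N ⧸ center N))) * Nat.card (center N) =
      j * Nat.card (centralizer ({(x : Γ)} : Set Γ) ⊓ N : Subgroup Γ) ∧
    ((∀ g : N, (g : Γ) * x * (g : Γ)⁻¹ ≠ ν * x) → j = 1) := by
  let S := N ⧸ center N
  let φ : N →* S := QuotientGroup.mk' (center N)
  set C := centralizer ({(QuotientGroup.mk x : S)} : Set S) with hC
  let P : Subgroup N := C.comap φ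
  have hmemP : ∀ g : N, g ∈ P ↔ g * x * g⁻¹ * x⁻¹ ∈ center N := by
    intro g
    rw [← QuotientGroup.eq_one_iff (N := center N) (g * x * g⁻¹ * x⁻¹)]
    show φ g ∈ C ↔ _
    rw [hC, Subgroup.mem_centralizer_singleton_iff]
    simp only [QuotientGroup.mk_mul, QuotientGroup.mk_inv]
    show (QuotientGroup.mk g : S) * QuotientGroup.mk x = QuotientGroup.mk x * QuotientGroup.mk g ↔ _
    constructor
    · intro h1
      rw [h1]
      group
    · intro h1
      have h2 := mul_inv_eq_one.1 h1
      exact mul_inv_eq_iff_eq_mul.1 h2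
  have hcardP : Nat.card P = Nat.card C * Nat.card (center N) := by
    have h1 : Nat.card (φ.comp P.subtype).range = Nat.card C := by
      have : (φ.comp P.subtype).range = C := by
        ext s
        constructor
        · rintro ⟨g, rfl⟩
          exact g.2
        · intro hs
          obtain ⟨g, rfl⟩ := QuotientGroup.mk_surjective s
          exact ⟨⟨g, hs⟩, rfl⟩
      rw [this]
    have h2 : Nat.card (φ.comp P.subtype).ker = Nat.card (center N) := by
      refine Nat.card_congr ⟨fun g => ⟨(g : P), ?_⟩, fun z => ⟨⟨z, ?_⟩, ?_⟩, fun g => rfl, fun g => rfl⟩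
      · exact (QuotientGroup.eq_one_iff _).1 g.2
      · show φ (z : N) ∈ C
        rw [show φ (z : N) = 1 from (QuotientGroup.eq_one_iff _).2 z.2]
        exact C.one_mem
      · exact (QuotientGroup.eq_one_iff _).2 z.2
    rw [← h1, ← h2, mul_comm, ← Subgroup.index_ker]
    exact (Subgroup.card_mul_index _).symm
  let f : P →* center N :=
    { toFun := fun g => ⟨(g : N) * x * (g : N)⁻¹ * x⁻¹, (hmemP g).1 g.2⟩
      map_one' := by apply Subtype.ext; show (1 : N) * x * 1⁻¹ * x⁻¹ = 1; group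
      map_mul' := by
        intro g k
        apply Subtype.ext
        show (g : N) * (k : N) * x * ((g : N) * (k : N))⁻¹ * x⁻¹ = ((g : N) * x * (g : N)⁻¹ * x⁻¹) * ((k : N) * x * (k : N)⁻¹ * x⁻¹)
        have h1 := Subgroup.mem_center_iff.1 ((hmemP k).1 k.2) (g : N)
        calc _ = ((g : N) * ((k : N) * x * (k : N)⁻¹ * x⁻¹)) * x * (g : N)⁻¹ * x⁻¹ := by group
          _ = (((k : N) * x * (k : N)⁻¹ * x⁻¹) * (g : N)) * x * (g : N)⁻¹ * x⁻¹ := by rw [h1]
          _ = ((k : N) * x * (k : N)⁻¹ * x⁻¹) * ((g : N) * x * (g : N)⁻¹ * x⁻¹) := by group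
          _ = _ := (Subgroup.mem_center_iff.1 ((hmemP k).1 k.2) _).symm }
  have hker : Nat.card f.ker = Nat.card (centralizer ({(x : Γ)} : Set Γ) ⊓ N : Subgroup Γ) := by
    rw [← card_cent_inf]
    refine Nat.card_congr ⟨fun g => ⟨(g : P), ?_⟩, fun g => ⟨⟨g, ?_⟩, ?_⟩, fun g => rfl, fun g => rfl⟩
    · have h1 : (((g : P) : N) * x * ((g : P) : N)⁻¹ * x⁻¹) = 1 := congrArg Subtype.val (MonoidHom.mem_ker.1 g.2)
      exact Subgroup.mem_centralizer_singleton_iff.2 (mul_inv_eq_iff_eq_mul.1 (mul_inv_eq_one.1 h1))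
    · rw [hmemP]
      have h1 := Subgroup.mem_centralizer_singleton_iff.1 g.2
      rw [h1]
      convert (center N).one_mem using 1
      group
    · apply Subtype.ext
      show (g : N) * x * (g : N)⁻¹ * x⁻¹ = 1
      have h1 := Subgroup.mem_centralizer_singleton_iff.1 g.2
      rw [h1]
      group
  refine ⟨Nat.card f.range, Subgroup.card_subgroup_dvd_card _, ?_, ?_⟩
  · rw [← hcardP, ← hker, ← Subgroup.index_ker, mul_comm]
    exact (Subgroup.card_mul_index _).symm
  · intro hno
    rw [Subgroup.card_eq_one, eq_bot_iff]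
    rintro _ ⟨g, rfl⟩
    rw [Subgroup.mem_bot]
    apply Subtype.ext
    show (g : N) * x * (g : N)⁻¹ * x⁻¹ = 1
    have h1 := (h.mem _).1 ((hmemP g).1 g.2)
    rcases h1 with h1 | h1
    · exact Subtype.ext h1
    · exact absurd (mul_inv_eq_iff_eq_mul.1 h1) (hno g)

theorem CQ.card_center_dvd (h : CQ N ν) : Nat.card (center N) ∣ 2 := by
  have h1 : ∀ z : center N, z = 1 ∨ ((z : N) : Γ) = ν := by
    intro z
    rcases (h.mem z).1 z.2 with h2 | h2
    · left
      exact Subtype.ext (Subtype.ext h2)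
    · exact Or.inr h2
  by_cases h2 : ∃ z : center N, z ≠ 1
  · obtain ⟨z, hz⟩ := h2
    have h3 : Nat.card (center N) = 2 := by
      rw [Nat.card_eq_two_iff]
      refine ⟨1, z, hz.symm, Set.eq_univ_iff_forall.2 fun y => ?_⟩
      rcases h1 y with h4 | h4
      · exact Or.inl h4
      · right
        rcases h1 z with h5 | h5
        · exact absurd h5 hz
        · exact Subtype.ext (Subtype.ext (h4.trans h5.symm))
    rw [h3]
  · push Not at h2
    have h3 : Nat.card (center N) = 1 := by
      rw [Nat.card_eq_one_iff_unique]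
      exact ⟨⟨fun a b => (h2 a).trans (h2 b).symm⟩, ⟨1⟩⟩
    rw [h3]
    exact one_dvd _

theorem CQ.card_center_one (h : CQ N ν) (h1 : ν = 1) : Nat.card (center N) = 1 := by
  rw [Nat.card_eq_one_iff_unique]
  have h2 : ∀ z : center N, z = 1 := by
    intro z
    rcases (h.mem z).1 z.2 with h2 | h2
    · exact Subtype.ext (Subtype.ext h2)
    · exact Subtype.ext (Subtype.ext (h2.trans h1))
  exact ⟨⟨fun a b => (h2 a).trans (h2 b).symm⟩, ⟨1⟩⟩

/-- the order of `C_Γ(x)` is the order of `C_Γ(x) ∩ N` times a divisor of the index of `N` -/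
theorem card_inf_mul [Finite Γ] [N.Normal] (C : Subgroup Γ) : ∃ j, j ∣ N.index ∧ Nat.card C = j * Nat.card (C ⊓ N : Subgroup Γ) := by
  refine ⟨N.relIndex C, Subgroup.relIndex_dvd_index_of_normal N C, ?_⟩
  have h1 : Nat.card (C ⊓ N : Subgroup Γ) = Nat.card (N.subgroupOf C) :=
    Nat.card_congr ⟨fun g => ⟨⟨g, g.2.1⟩, g.2.2⟩, fun g => ⟨g, g.1.2, g.2⟩, fun g => rfl, fun g => rfl⟩
  rw [h1, Subgroup.relIndex, mul_comm]
  exact (Subgroup.card_mul_index _).symm

theorem fact_mul_of_coprime {p a b : ℕ} (ha : a ≠ 0) (hb : b ≠ 0) (h : ¬ p ∣ a) :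
    (a * b).factorization p = b.factorization p := by
  rw [Nat.factorization_mul ha hb, Finsupp.add_apply, Nat.factorization_eq_zero_of_not_dvd h, zero_add]

/-- **`p` odd** -/
theorem CQ.fact_odd [Finite Γ] [N.Normal] (h : CQ N ν) {p : ℕ} (hp : p.Prime) (hp2 : p ≠ 2) (hN : N.index ∣ 4)
    (x : N) : (Nat.card (centralizer ({(QuotientGroup.mk x : N ⧸ center N)} : Set (N ⧸ center N)))).factorization p =
      (Nat.card (centralizer ({(x : Γ)} : Set Γ))).factorization p := by
  have hnd : ∀ j, j ∣ 4 → ¬ p ∣ j := by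
    intro j hj h1
    have h2 := h1.trans hj
    have h3 : p ∣ 2 ^ 2 := by norm_num; exact h2
    exact hp2 ((Nat.prime_dvd_prime_iff_eq hp Nat.prime_two).1 (hp.dvd_of_dvd_pow h3))
  obtain ⟨j, hj, h1, -⟩ := h.card_cent x
  obtain ⟨i, hi, h2⟩ := card_inf_mul (N := N) (centralizer ({(x : Γ)} : Set Γ))
  have hz := h.card_center_dvd
  have h24 : (2 : ℕ) ∣ 4 := by norm_num
  have p1 : 0 < Nat.card (centralizer ({(QuotientGroup.mk x : N ⧸ center N)} : Set (N ⧸ center N))) := Nat.card_pos
  have p2 : 0 < Nat.card (centralizer ({(x : Γ)} : Set Γ)) := Nat.card_pos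
  have p3 : 0 < Nat.card (centralizer ({(x : Γ)} : Set Γ) ⊓ N : Subgroup Γ) := Nat.card_pos
  have p4 : 0 < Nat.card (center N) := Nat.card_pos
  have hj0 : j ≠ 0 := by rintro rfl; exact absurd hj (by rw [zero_dvd_iff]; omega)
  have hi0 : i ≠ 0 := by rintro rfl; rw [zero_mul] at h2; omega
  rw [h2, fact_mul_of_coprime hi0 p3.ne' (hnd _ (hi.trans hN)), ← fact_mul_of_coprime hj0 p3.ne' (hnd _ ((hj.trans hz).trans h24)),
    ← h1, mul_comm, fact_mul_of_coprime p4.ne' p1.ne' (hnd _ (hz.trans h24))]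

end

/-! ### a cyclic subgroup which contains a Sylow subgroup -/

theorem mem_zpowers_of_cyclic {S : Type u} [Group S] [Finite S] {r : ℕ} (hr : r.Prime) {A : Subgroup S}
    (hA : IsCyclic A) {a b : S} (ha : a ∈ A) (hb : b ∈ A) (hoa : orderOf a = r) (hob : orderOf b = r) :
    b ∈ zpowers a := by
  classical
  have := Fintype.ofFinite A
  let a' : A := ⟨a, ha⟩
  let b' : A := ⟨b, hb⟩
  have ha' : orderOf a' = r := by rw [← hoa]; exact Subgroup.orderOf_mk a ha
  have hb' : orderOf b' = r := by rw [← hob]; exact Subgroup.orderOf_mk b hb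
  have h1 := IsCyclic.card_pow_eq_one_le (α := A) hr.pos
  have h2 : (Finset.univ.filter fun z : A => z ∈ zpowers a').card = r := by
    rw [← ha', ← Nat.card_zpowers, Nat.card_eq_fintype_card, Fintype.card_subtype]
  have h3 : (Finset.univ.filter fun z : A => z ∈ zpowers a') ⊆ (Finset.univ.filter fun z : A => z ^ r = 1) := by
    intro z hz
    rw [Finset.mem_filter] at hz ⊢
    obtain ⟨k, hk⟩ := hz.2
    refine ⟨Finset.mem_univ _, ?_⟩
    rw [← hk, ← ha', ← zpow_natCast, ← zpow_mul, mul_comm, zpow_mul, zpow_natCast, pow_orderOf_eq_one, one_zpow]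
  have h4 := Finset.eq_of_subset_of_card_le h3 (by rw [h2]; exact h1)
  have h5 : b' ∈ Finset.univ.filter fun z : A => z ^ r = 1 := by
    rw [Finset.mem_filter]
    exact ⟨Finset.mem_univ _, by rw [← hb', pow_orderOf_eq_one]⟩
  rw [← h4, Finset.mem_filter] at h5
  obtain ⟨k, hk⟩ := h5.2
  exact ⟨k, congrArg Subtype.val hk⟩

theorem exists_conj {S : Type u} [Group S] [Finite S] {r : ℕ} (hr : r.Prime) (A : Subgroup S) (hA : IsCyclic A)
    (hfull : r ^ (Nat.card S).factorization r ∣ Nat.card A) {y0 : S} (hy0 : y0 ∈ A) (ho : orderOf y0 = r) {x : S}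
    (hx : r ∣ Nat.card (centralizer ({x} : Set S))) : ∃ s : S, Commute (s * x * s⁻¹) y0 := by
  have := Fact.mk hr
  obtain ⟨y, hy⟩ := exists_prime_orderOf_dvd_card' r hx
  have hy' : orderOf (y : S) = r := by rw [← hy]; exact Subgroup.orderOf_coe y
  have hc : Commute (y : S) x := Subgroup.mem_centralizer_singleton_iff.1 y.2
  obtain ⟨P⟩ : Nonempty (Sylow r A) := inferInstance
  have hPc : Nat.card (P : Subgroup A) = r ^ (Nat.card A).factorization r := P.card_eq_multiplicity
  have hle : (Nat.card A).factorization r = (Nat.card S).factorization r := by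
    apply le_antisymm
    · exact (Nat.factorization_le_iff_dvd Nat.card_pos.ne' Nat.card_pos.ne').2 (Subgroup.card_subgroup_dvd_card A) r
    · exact (hr.pow_dvd_iff_le_factorization Nat.card_pos.ne').1 hfull
  let P' : Sylow r S := Sylow.ofCard ((P : Subgroup A).map A.subtype) (by
    rw [Subgroup.card_map_of_injective A.subtype_injective, hPc, hle])
  have hP' : (P' : Subgroup S) ≤ A := by
    show (P : Subgroup A).map A.subtype ≤ A
    exact Subgroup.map_subtype_le _
  have hyp : IsPGroup r (zpowers (y : S)) := by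
    rw [IsPGroup.iff_card]
    exact ⟨1, by rw [Nat.card_zpowers, hy', pow_one]⟩
  obtain ⟨R, hR⟩ := hyp.exists_le_sylow
  obtain ⟨s, hs⟩ := MulAction.exists_smul_eq S R P'
  have h1 : s * y * s⁻¹ ∈ A := by
    apply hP'
    rw [← hs]
    show s * y * s⁻¹ ∈ ((s • R : Sylow r S) : Subgroup S)
    rw [Sylow.coe_subgroup_smul]
    exact Subgroup.smul_mem_pointwise_smul _ _ _ (hR (mem_zpowers _))
  have h2 : orderOf (s * y * s⁻¹) = r := by rw [← hy']; exact orderOf_injective (MulAut.conj s).toMonoidHom (MulAut.conj s).injective _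
  obtain ⟨k, hk⟩ := mem_zpowers_of_cyclic hr hA h1 hy0 h2 ho
  refine ⟨s, ?_⟩
  rw [← hk]
  apply Commute.zpow_right
  have h3 := (hc.map (MulAut.conj s).toMonoidHom).symm
  simpa only [_root_.Commute.conj_iff, _root_.MulEquiv.toMonoidHom_eq_coe, _root_.MonoidHom.coe_coe, _root_.MulAut.conj_apply] using h3

theorem card_cent_conj {S : Type u} [Group S] (s x : S) :
    Nat.card (centralizer ({s * x * s⁻¹} : Set S)) = Nat.card (centralizer ({x} : Set S)) := by
  refine Nat.card_congr ⟨fun g => ⟨s⁻¹ * g * s, ?_⟩, fun g => ⟨s * g * s⁻¹, ?_⟩, fun g => ?_, fun g => ?_⟩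
  · rw [Subgroup.mem_centralizer_singleton_iff]
    have h := Subgroup.mem_centralizer_singleton_iff.1 g.2
    calc s⁻¹ * (g : S) * s * x = s⁻¹ * ((g : S) * (s * x * s⁻¹)) * s := by group
      _ = _ := by rw [h]; group
  · rw [Subgroup.mem_centralizer_singleton_iff]
    have h := Subgroup.mem_centralizer_singleton_iff.1 g.2
    calc s * (g : S) * s⁻¹ * (s * x * s⁻¹) = s * ((g : S) * x) * s⁻¹ := by group
      _ = _ := by rw [h]; group
  · apply Subtype.ext
    show s * (s⁻¹ * g * s) * s⁻¹ = g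
    group
  · apply Subtype.ext
    show s⁻¹ * (s * g * s⁻¹) * s = g
    group

end Cfsg.Agent.H237.PL
end

-- part: H237/PL/Odd
section
/-!
# S3677, `lat_plus_odd`: the centralizer orders of `PΩ⁺_{2n}(q)`, `n` odd (helper237)
-/

set_option autoImplicit false

universe u v w

namespace Cfsg.Agent.H237.PL

open Module Polynomial
open Cfsg.Agent.LieClassical.OrthCore
open Cfsg.Agent.H431.CS Cfsg.Agent.H370.AAM

/-! ### arithmetic -/

theorem fact_pow_mul {p c e X : ℕ} (hp : p.Prime) (hX : ¬ p ∣ X) (h : c = p ^ e * X) : c.factorization p = e := by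
  have hX0 : X ≠ 0 := by rintro rfl; exact hX (dvd_zero p)
  rw [h, Nat.factorization_mul (pow_ne_zero _ hp.ne_zero) hX0, hp.factorization_pow]
  simp [Nat.factorization_eq_zero_of_not_dvd hX]

theorem not_dvd_pow_sub {p q j : ℕ} (hp : p.Prime) (hq : 1 ≤ q) (hpq : p ∣ q) (hj : 0 < j) : ¬ p ∣ q ^ j - 1 := by
  intro h
  have h1 : p ∣ q ^ j := dvd_pow hpq (by omega)
  have h2 : 1 ≤ q ^ j := Nat.one_le_pow _ _ (by omega)
  have h3 : p ∣ 1 := by
    have := (Nat.dvd_sub h1 h)
    rwa [Nat.sub_sub_self h2] at this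
  exact hp.one_lt.ne' (Nat.dvd_one.1 h3)

/-- the `p`-part of `|GL_m(q^k)|` -/
theorem fact_glCard {p f k m : ℕ} (hp : p.Prime) (hf : 1 ≤ f) (hk : 0 < k) :
    (H326.CGU.glCard m ((p ^ f) ^ k)).factorization p = f * k * (m * (m - 1) / 2) := by
  have hQ : (p ^ f) ^ k = p ^ (f * k) := (pow_mul p f k).symm
  rw [H326.CGU.glCard_eq]
  refine fact_pow_mul hp (X := ∏ i ∈ Finset.range m, (((p ^ f) ^ k) ^ (i + 1) - 1)) ?_ ?_
  · rw [Prime.dvd_finsetProd_iff hp.prime]
    rintro ⟨i, -, hi⟩
    refine not_dvd_pow_sub hp ?_ ?_ (Nat.succ_pos i) hi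
    · exact Nat.one_le_pow _ _ (Nat.pow_pos hp.pos)
    · rw [hQ]
      exact dvd_pow_self p (Nat.mul_pos hf hk).ne'
  · rw [hQ, ← pow_mul]

theorem val_eq {n k m f : ℕ} (h : n = k * m) (hn : Odd n) : f * k * (m * (m - 1) / 2) = f * n * ((m - 1) / 2) := by
  have hm : Odd m := (Nat.odd_mul.1 (h ▸ hn)).2
  obtain ⟨j, rfl⟩ := hm
  have e1 : (2 * j + 1) * (2 * j + 1 - 1) / 2 = (2 * j + 1) * j := by
    rw [Nat.add_sub_cancel, show (2 * j + 1) * (2 * j) = 2 * ((2 * j + 1) * j) by ring]
    exact Nat.mul_div_cancel_left _ (by norm_num)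
  have e2 : (2 * j + 1 - 1) / 2 = j := by omega
  rw [e1, e2, h]
  ring

theorem mem_of_coprime_pow {G : Type*} [Group G] {N : Subgroup G} {g : G} {a b : ℕ} (hab : a.Coprime b)
    (ha : g ^ a ∈ N) (hb : g ^ b ∈ N) : g ∈ N := by
  have h := Nat.gcd_eq_gcd_ab a b
  rw [hab.gcd_eq_one] at h
  have h1 : g = (g ^ a) ^ (Nat.gcdA a b) * (g ^ b) ^ (Nat.gcdB a b) := by
    rw [← zpow_natCast, ← zpow_natCast, ← zpow_mul, ← zpow_mul, ← zpow_add, ← h]
    simp
  rw [h1]
  exact N.mul_mem (N.zpow_mem ha _) (N.zpow_mem hb _)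

/-! ### the centre -/

section

variable {F : Type v} [Field F] {K : Type w} [Field K] [Algebra F K]

theorem coe_Tw_neg_one : ((Tw (-1) : O (HQ F K)) : (Dual F K × K) ≃ₗ[F] (Dual F K × K)) = LinearEquiv.neg F := by
  apply LinearEquiv.ext
  intro x
  rw [Tw_apply]
  show _ = -x
  apply Prod.ext
  · ext a
    rw [rho_apply]
    show x.1 (((-1 : Kˣ)⁻¹ : Kˣ) * a) = -(x.1 a)
    rw [inv_neg, inv_one, Units.val_neg, Units.val_one, neg_one_mul, map_neg]
  · show ((-1 : Kˣ) : K) * x.2 = -x.2
    rw [Units.val_neg, Units.val_one, neg_one_mul]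

theorem cq [FiniteDimensional F K] (hn : 2 ≤ finrank F K) : CQ (commutator (O (HQ F K))) (Tw (-1)) where
  cen g := by
    apply Subtype.ext
    simp only [Subgroup.coe_mul, Subgroup.coe_mul, coe_Tw_neg_one]
    apply LinearEquiv.ext
    intro x
    show -((g : (Dual F K × K) ≃ₗ[F] (Dual F K × K)) x) = (g : (Dual F K × K) ≃ₗ[F] (Dual F K × K)) (-x)
    (simp only [map_neg])
  sq := by
    simp only [← map_mul, neg_mul_neg, one_mul, map_one]
  mem z := by
    simp only [mem_center hn z, ← coe_Tw_neg_one]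
    refine or_congr ?_ ?_
    · exact ⟨fun h => Subtype.ext h, fun h => by rw [h]; rfl⟩
    · exact ⟨fun h => Subtype.ext h, fun h => by simp only [h]⟩

theorem mk_Tw_eq_one [FiniteDimensional F K] (hn : 2 ≤ finrank F K) {w : Kˣ} (hw : w ^ 2 = 1)
    (h : Tw w ∈ commutator (O (HQ F K))) :
    (QuotientGroup.mk (⟨Tw w, h⟩ : commutator (O (HQ F K))) :
      commutator (O (HQ F K)) ⧸ Subgroup.center (commutator (O (HQ F K)))) = 1 := by
  rw [QuotientGroup.eq_one_iff, (cq hn).mem]
  have h1 : ((w : K) - 1) * ((w : K) + 1) = 0 := by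
    have h2 : (w : K) ^ 2 = 1 := by rw [← Units.val_pow_eq_pow_val, hw, Units.val_one]
    linear_combination h2
  have hob_ := mul_eq_zero.1 h1
  rcases hob_ with h3 | h3
  · left
    have : w = 1 := Units.ext (by rw [Units.val_one]; linear_combination h3)
    show Tw w = 1
    rw [this, map_one]
  · right
    have : w = -1 := Units.ext (by rw [Units.val_neg, Units.val_one]; linear_combination h3)
    show Tw w = Tw (-1)
    rw [this]

end

/-! ### the main computation -/

section core

variable {F : Type v} [Field F] [Fintype F] {K : Type w} [Field K] [Algebra F K] [FiniteDimensional F K]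

/-- an element of order `r` generates `K` -/
theorem degree_of_order {n r : ℕ} (hn : finrank F K = n) (ho : orderOf ((Nat.card F : ℕ) : ZMod r) = n) {ζ : Kˣ}
    (hζ : orderOf ζ = r) : (minpoly F (ζ : K)).natDegree = n := by
  have : Finite K := Module.finite_of_finite F
  set k := (minpoly F (ζ : K)).natDegree with hk
  have hk0 : 0 < k := minpoly.natDegree_pos (Algebra.IsIntegral.isIntegral (R := F) (ζ : K))
  have hkn : k ∣ n := hn ▸ minpoly.degree_dvd (Algebra.IsIntegral.isIntegral (ζ : K))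
  have h1 := (mem_iff_pow (IntermediateField.adjoin F {(ζ : K)}) (ζ : K)).1
    (IntermediateField.mem_adjoin_simple_self F (ζ : K))
  have h2 : Nat.card (IntermediateField.adjoin F {(ζ : K)}) = Nat.card F ^ k := by
    rw [hk, ← IntermediateField.adjoin.finrank (Algebra.IsIntegral.isIntegral (ζ : K))]
    exact Module.natCard_eq_pow_finrank
  rw [h2] at h1
  have hq : 1 ≤ Nat.card F ^ k := Nat.one_le_pow _ _ Nat.card_pos
  have h3 : ζ ^ (Nat.card F ^ k - 1) = 1 := by
    apply Units.ext
    rw [Units.val_pow_eq_pow_val, Units.val_one]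
    have h4 : (ζ : K) * (ζ : K) ^ (Nat.card F ^ k - 1) = (ζ : K) := by
      rw [← pow_succ', Nat.sub_add_cancel hq, h1]
    exact mul_left_cancel₀ ζ.ne_zero (by rw [h4, mul_one])
  have h4 : r ∣ Nat.card F ^ k - 1 := by rw [← hζ]; exact orderOf_dvd_of_pow_eq_one h3
  have h5 : ((Nat.card F : ℕ) : ZMod r) ^ k = 1 := by
    have h6 : ((Nat.card F ^ k - 1 : ℕ) : ZMod r) = 0 := (ZMod.natCast_eq_zero_iff _ _).2 h4
    rw [Nat.cast_sub hq, Nat.cast_pow, Nat.cast_one] at h6
    linear_combination h6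
  have h6 : n ∣ k := by rw [← ho]; exact orderOf_dvd_of_pow_eq_one h5
  exact Nat.dvd_antisymm hkn h6

/-- the centralizer of `Tw ζ` -/
theorem exists_Tw (hodd : Odd (finrank F K)) {ζ : Kˣ} (hdeg : (minpoly F (ζ : K)).natDegree = finrank F K)
    (hζ : ζ ^ 2 ≠ 1) {g : O (HQ F K)} (hg : g * Tw ζ = Tw ζ * g) : ∃ w : Kˣ, Tw w = g := by
  have hob_ := (mem_comm_iff hodd hζ g).1 hg
  obtain ⟨A, hA, h1⟩ := hob_
  have htop : IntermediateField.adjoin F {(ζ : K)} = ⊤ := by
    apply IntermediateField.eq_of_le_of_finrank_eq le_top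
    rw [IntermediateField.adjoin.finrank (Algebra.IsIntegral.isIntegral (ζ : K)), hdeg, IntermediateField.finrank_top']
  have h2 : ∀ a : K, A a = a * A 1 := by
    intro a
    have h3 := comm_of_mem (F := F) (w := (ζ : K)) (a := a) (by rw [htop]; trivial) (A := (A : K →ₗ[F] K)) h1 1
    rw [mul_one] at h3
    exact h3
  have h3 : A 1 ≠ 0 := fun h => one_ne_zero (A.map_eq_zero_iff.1 h)
  refine ⟨Units.mk0 (A 1) h3, ?_⟩
  rw [← hA]
  show DO (mu _) = DO A
  congr 1
  ext a
  rw [mu_apply, Units.val_mk0, h2 a, mul_comm]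

end core

/-! ### the quotient -/

/-- the simple group -/
abbrev SQ (F : Type v) [Field F] (K : Type w) [Field K] [Algebra F K] :=
  commutator (O (HQ F K)) ⧸ Subgroup.center (commutator (O (HQ F K)))

section final

variable {F : Type v} [Field F] [Fintype F] {K : Type w} [Field K] [Algebra F K] [FiniteDimensional F K]
  {p f n r : ℕ}

theorem finite_O : Finite (O (HQ F K)) := by
  have : Finite K := Module.finite_of_finite F
  have : Finite (Dual F K) := Module.finite_of_finite F
  have : Finite ((Dual F K × K) ≃ₗ[F] (Dual F K × K)) :=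
    Finite.of_injective (fun g => (g : Dual F K × K → Dual F K × K)) DFunLike.coe_injective
  infer_instance

theorem index_dvd_four (hp : p.Prime) (hF : Fintype.card F = p ^ f) (hK : finrank F K = n) (hn : 3 ≤ n) :
    (commutator (O (HQ F K))).index ∣ 4 ∧ (p = 2 → (commutator (O (HQ F K))).index = 2) := by
  have := Fact.mk hp
  have hch : CharP F p := charP_of_card_eq_prime_pow hF
  by_cases h2 : p = 2
  · subst h2
    have h := index_two (F := F) (M := K) (by omega)
    exact ⟨by rw [h]; norm_num, fun _ => h⟩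
  · have h3 : (2 : F) ≠ 0 := by
      intro h
      have h4 : ((2 : ℕ) : F) = 0 := by exact_mod_cast h
      rw [CharP.cast_eq_zero_iff F p] at h4
      exact h2 ((Nat.prime_dvd_prime_iff_eq hp Nat.prime_two).1 h4)
    have h := index_odd (F := F) (M := K) h3 (by omega)
    exact ⟨by rw [h], fun h5 => absurd h5 h2⟩

variable (F K) in
/-- the elements of the torus in `Ω` -/
def BT : Subgroup Kˣ := (commutator (O (HQ F K))).comap Tw

omit [Fintype F] [FiniteDimensional F K] in
theorem mem_BT {w : Kˣ} : w ∈ BT F K ↔ Tw w ∈ commutator (O (HQ F K)) := Iff.rfl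

variable (F K) in
/-- the map to the quotient -/
def thT : BT F K →* SQ F K :=
  (QuotientGroup.mk' _).comp ((Tw.comp (BT F K).subtype).codRestrict (commutator (O (HQ F K))) fun w => w.2)

omit [Fintype F] [FiniteDimensional F K] in
theorem thT_apply (w : BT F K) : thT F K w = QuotientGroup.mk (⟨Tw w, w.2⟩ : commutator (O (HQ F K))) := rfl

omit [Fintype F] in
theorem mem_ker_thT (hn : 2 ≤ finrank F K) {w : BT F K} (h : w ∈ (thT F K).ker) : w ^ 2 = 1 := by
  (rewrite [MonoidHom.mem_ker] at h; simp only [thT_apply] at h; simp only [QuotientGroup.eq_one_iff] at h; rewrite [(cq hn).mem] at h)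
  apply Subtype.ext
  rw [Subgroup.coe_pow, Subgroup.coe_one]
  rcases h with h | h
  · have h1 : (w : Kˣ) = 1 := Tw_injective (F := F) (by simp only [map_one]; exact h)
    rw [h1, one_pow]
  · have h1 : (w : Kˣ) = -1 := Tw_injective (F := F) h
    rw [h1, neg_one_sq]

variable (F K) in
/-- the torus -/
def AT : Subgroup (SQ F K) := (thT F K).range

theorem card_units (hK : finrank F K = n) : Nat.card Kˣ = Nat.card F ^ n - 1 := by
  classical
  have : Finite K := Module.finite_of_finite F
  have := Fintype.ofFinite K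
  rw [Nat.card_units, ← hK, Module.natCard_eq_pow_finrank (K := F) (V := K)]

theorem card_AT_dvd (hK : finrank F K = n) : Nat.card (AT F K) ∣ Nat.card F ^ n - 1 := by
  simp only [← card_units hK]
  exact (Subgroup.card_range_dvd _).trans (Subgroup.card_subgroup_dvd_card _)

theorem isCyclic_AT : IsCyclic (AT F K) := by
  have : Finite K := Module.finite_of_finite F
  exact isCyclic_of_surjective _ (thT F K).rangeRestrict_surjective

/-- the torus contains a Sylow subgroup -/
theorem dvd_card_AT (hp : p.Prime) (hF : Fintype.card F = p ^ f) (hK : finrank F K = n) (hn : 3 ≤ n) (hr : r.Prime)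
    (hr2 : r ≠ 2) {a : ℕ} (ha : r ^ a ∣ Nat.card F ^ n - 1) : r ^ a ∣ Nat.card (AT F K) := by
  have : Finite K := Module.finite_of_finite F
  have := finite_O (F := F) (K := K)
  have hcop : ∀ j, j ∣ 4 → (r ^ a).Coprime j := by
    intro j hj
    apply Nat.Coprime.coprime_dvd_right hj
    rw [show 4 = 2 ^ 2 by norm_num]
    exact ((Nat.coprime_primes hr Nat.prime_two).2 hr2).pow _ _
  rw [← card_units hK, ← Subgroup.card_mul_index (BT F K)] at ha
  have h1 : (BT F K).index ∣ 4 := by
    rw [BT, Subgroup.index_comap]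
    exact (Subgroup.relIndex_dvd_index_of_normal _ _).trans (index_dvd_four hp hF hK hn).1
  have h2 := (hcop _ h1).dvd_of_dvd_mul_right ha
  have h3 : Nat.card (AT F K) * Nat.card (thT F K).ker = Nat.card (BT F K) := by
    (simp only [AT]; simp only [← Subgroup.index_ker]; rewrite [mul_comm])
    exact Subgroup.card_mul_index _
  rw [← h3] at h2
  refine Nat.Coprime.dvd_of_dvd_mul_right (Nat.Coprime.pow_left a ((Nat.Prime.coprime_iff_not_dvd hr).2 ?_)) h2
  intro h4
  have := Fact.mk hr
  obtain ⟨w, hw⟩ := exists_prime_orderOf_dvd_card' r h4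
  have h5 : (w : BT F K) ^ 2 = 1 := mem_ker_thT (by omega) w.2
  have h6 : w ^ 2 = 1 := Subtype.ext h5
  have h7 := orderOf_dvd_of_pow_eq_one h6
  rw [hw] at h7
  exact hr2 ((Nat.prime_dvd_prime_iff_eq hr Nat.prime_two).1 h7)

/-- the hypotheses -/
structure Hy (F : Type v) [Field F] [Fintype F] (K : Type w) [Field K] [Algebra F K] (p f n r : ℕ) : Prop where
  hp : p.Prime
  hf : 1 ≤ f
  hF : Fintype.card F = p ^ f
  hn : 5 ≤ n
  hodd : Odd n
  hr : r.Prime
  ho : orderOf (((p ^ f : ℕ)) : ZMod r) = n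
  hK : finrank F K = n

section hy

variable (h : Hy F K p f n r)
include h

omit [FiniteDimensional F K] in
theorem Hy.cardF : Nat.card F = p ^ f := by rw [Nat.card_eq_fintype_card, h.hF]

omit [FiniteDimensional F K] in
theorem Hy.ho' : orderOf ((Nat.card F : ℕ) : ZMod r) = n := by rw [h.cardF]; exact h.ho

omit [FiniteDimensional F K] in
theorem Hy.dvd_iff {i : ℕ} : r ∣ (p ^ f) ^ i - 1 ↔ n ∣ i := by
  have hq : 1 ≤ (p ^ f) ^ i := Nat.one_le_pow _ _ (Nat.pow_pos h.hp.pos)
  rw [← h.ho, orderOf_dvd_iff_pow_eq_one, ← ZMod.natCast_eq_zero_iff, Nat.cast_sub hq, Nat.cast_pow, Nat.cast_one,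
    sub_eq_zero]

omit [FiniteDimensional F K] in
theorem Hy.not_dvd_p : ¬ r ∣ p := by
  intro h1
  have h2 : r ∣ (p ^ f) ^ n - 1 := h.dvd_iff.2 dvd_rfl
  exact not_dvd_pow_sub h.hr (q := p ^ f) (Nat.one_le_pow _ _ h.hp.pos) (dvd_pow h1 (by have := h.hf; omega))
    (by have := h.hn; omega) h2

omit [FiniteDimensional F K] in
theorem Hy.r_ne_two : r ≠ 2 := by
  intro h2
  subst h2
  have h1 : (p ^ f : ℕ) % 2 = 1 := by
    rw [← Nat.odd_iff]
    apply Odd.pow
    exact h.hp.eq_two_or_odd'.resolve_left (fun h3 => h.not_dvd_p (h3 ▸ dvd_rfl))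
  have h3 : (2 : ℕ) ∣ (p ^ f) ^ 1 - 1 := by rw [pow_one]; omega
  have h4 := Nat.le_of_dvd one_pos (h.dvd_iff.1 h3)
  have := h.hn
  omega

omit [FiniteDimensional F K] in
theorem Hy.r_odd : Odd r := h.hr.eq_two_or_odd'.resolve_left h.r_ne_two

theorem Hy.card_S : Nat.gcd 4 ((p ^ f) ^ n - 1) * Nat.card (SQ F K) =
    (p ^ f) ^ (n * (n - 1)) * ((p ^ f) ^ n - 1) * ∏ i ∈ Finset.range (n - 1), ((p ^ f) ^ (2 * (i + 1)) - 1) := by
  have h1 := Cfsg.Agent.S0293.result (F := F) h.hF n (by have := h.hn; omega)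
  rwa [Nat.card_congr (modelEquiv (finBasisOfFinrankEq F K h.hK)).toEquiv] at h1

theorem Hy.fact_p : (Nat.card (SQ F K)).factorization p = f * (n * (n - 1)) := by
  have h1 := h.card_S
  have hq : 1 ≤ p ^ f := Nat.one_le_pow _ _ h.hp.pos
  have hpq : p ∣ p ^ f := dvd_pow_self p (by have := h.hf; omega)
  have hg : ¬ p ∣ Nat.gcd 4 ((p ^ f) ^ n - 1) := fun h2 =>
    not_dvd_pow_sub h.hp hq hpq (by have := h.hn; omega) (h2.trans (Nat.gcd_dvd_right _ _))
  have h2 : (Nat.gcd 4 ((p ^ f) ^ n - 1) * Nat.card (SQ F K)).factorization p = f * (n * (n - 1)) := by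
    refine fact_pow_mul h.hp (X := ((p ^ f) ^ n - 1) * ∏ i ∈ Finset.range (n - 1), ((p ^ f) ^ (2 * (i + 1)) - 1)) ?_ ?_
    · rw [h.hp.dvd_mul, Prime.dvd_finsetProd_iff h.hp.prime]
      rintro (h3 | ⟨i, -, h3⟩)
      · exact not_dvd_pow_sub h.hp hq hpq (by have := h.hn; omega) h3
      · exact not_dvd_pow_sub h.hp hq hpq (by omega) h3
    · rw [h1, ← pow_mul p f (n * (n - 1)), mul_assoc]
  have := finite_O (F := F) (K := K)
  rw [fact_mul_of_coprime (by
    intro h3
    rw [Nat.gcd_eq_zero_iff] at h3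
    omega) Nat.card_pos.ne' hg] at h2
  exact h2

/-- the `r`-part of `|S|` divides `q ^ n - 1` -/
theorem Hy.r_part {a : ℕ} (ha : r ^ a ∣ Nat.card (SQ F K)) : r ^ a ∣ (p ^ f) ^ n - 1 := by
  have h1 := h.card_S
  have h2 : r ^ a ∣ (p ^ f) ^ (n * (n - 1)) * ((p ^ f) ^ n - 1) * ∏ i ∈ Finset.range (n - 1), ((p ^ f) ^ (2 * (i + 1)) - 1) :=
    h1 ▸ (ha.mul_left _)
  have h3 : (r ^ a).Coprime (∏ i ∈ Finset.range (n - 1), ((p ^ f) ^ (2 * (i + 1)) - 1)) := by
    apply Nat.Coprime.pow_left
    rw [Nat.Prime.coprime_iff_not_dvd h.hr, Prime.dvd_finsetProd_iff h.hr.prime]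
    rintro ⟨i, hi, h4⟩
    rw [Finset.mem_range] at hi
    have h5 := h.dvd_iff.1 h4
    have h6 : n.Coprime 2 := h.hodd.coprime_two_right
    have h7 := Nat.le_of_dvd (by omega) (h6.dvd_of_dvd_mul_left h5)
    omega
  have h4 := h3.dvd_of_dvd_mul_right h2
  refine Nat.Coprime.dvd_of_dvd_mul_left (Nat.Coprime.pow_left a ((Nat.Prime.coprime_iff_not_dvd h.hr).2 ?_)) h4
  intro h5
  exact h.not_dvd_p (h.hr.dvd_of_dvd_pow (h.hr.dvd_of_dvd_pow h5))

theorem Hy.full : r ^ (Nat.card (SQ F K)).factorization r ∣ Nat.card (AT F K) := by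
  apply dvd_card_AT h.hp h.hF h.hK (by have := h.hn; omega) h.hr h.r_ne_two
  rw [h.cardF]
  exact h.r_part (Nat.ordProj_dvd _ _)

theorem Hy.p_not_dvd : ¬ p ∣ Nat.card (AT F K) := by
  intro h1
  have h2 := h1.trans (card_AT_dvd h.hK)
  rw [h.cardF] at h2
  exact not_dvd_pow_sub h.hp (Nat.one_le_pow _ _ h.hp.pos) (dvd_pow_self p (by have := h.hf; omega))
    (by have := h.hn; omega) h2

/-- the element of order `r` -/
theorem Hy.exists_zeta : ∃ ζ : Kˣ, orderOf ζ = r := by
  have : Finite K := Module.finite_of_finite F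
  have := Fact.mk h.hr
  apply exists_prime_orderOf_dvd_card' r
  rw [card_units h.hK, h.cardF]
  exact h.dvd_iff.2 dvd_rfl

theorem Hy.zeta_mem {ζ : Kˣ} (hζ : orderOf ζ = r) : ζ ∈ BT F K := by
  rw [mem_BT]
  have := finite_O (F := F) (K := K)
  have hi := (index_dvd_four (F := F) (K := K) h.hp h.hF h.hK (by have := h.hn; omega)).1
  refine mem_of_coprime_pow (a := (commutator (O (HQ F K))).index) (b := r) ?_ (Subgroup.pow_index_mem _ _) ?_
  · apply Nat.Coprime.coprime_dvd_left hi
    rw [show 4 = 2 ^ 2 by norm_num]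
    exact ((Nat.coprime_primes Nat.prime_two h.hr).2 h.r_ne_two.symm).pow_left _
  · simp only [← map_pow, ← hζ, pow_orderOf_eq_one, map_one]
    exact Subgroup.one_mem _

/-- **the centralizer of an element of order `r`** -/
theorem Hy.cent_zeta {ζ : Kˣ} (hζ : orderOf ζ = r) {x : SQ F K} (hx : Commute x (thT F K ⟨ζ, h.zeta_mem hζ⟩)) :
    ∃ w : BT F K, thT F K w = x := by
  have hob_ := QuotientGroup.mk_surjective x
  obtain ⟨x', rfl⟩ := hob_
  have hn2 : 2 ≤ finrank F K := by rw [h.hK]; have := h.hn; omega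
  (simp +singlePass only [thT_apply] at hx)
  have h1 := (cq hn2).comm h.r_odd (by
    apply Subtype.ext
    show Tw ζ ^ r = 1
    simp only [← map_pow, ← hζ, pow_orderOf_eq_one, map_one]) hx
  have h2 : (x' : O (HQ F K)) * Tw ζ = Tw ζ * (x' : O (HQ F K)) := congrArg Subtype.val h1.eq
  have h3 : ζ ^ 2 ≠ 1 := by
    intro h4
    have h5 := orderOf_dvd_of_pow_eq_one h4
    rw [hζ] at h5
    exact h.r_ne_two ((Nat.prime_dvd_prime_iff_eq h.hr Nat.prime_two).1 h5)
  have hob_ := exists_Tw (h.hK ▸ h.hodd) ((degree_of_order h.hK h.ho' hζ).trans h.hK.symm) h3 h2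
  obtain ⟨w, hw⟩ := hob_
  refine ⟨⟨w, ?_⟩, ?_⟩
  · rw [mem_BT, hw]
    exact x'.2
  · (simp +singlePass only [thT_apply])
    congr 1
    exact Subtype.ext hw

/-- **classification** -/
theorem Hy.classify {x : SQ F K} (hx : r ∣ Nat.card (Subgroup.centralizer ({x} : Set (SQ F K)))) (hx1 : x ≠ 1) :
    ∃ w : BT F K, (w : Kˣ) ^ 2 ≠ 1 ∧ Nat.card (Subgroup.centralizer ({x} : Set (SQ F K))) =
      Nat.card (Subgroup.centralizer ({thT F K w} : Set (SQ F K))) ∧ ∃ s, s * x * s⁻¹ = thT F K w := by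
  have := finite_O (F := F) (K := K)
  have hob_ := h.exists_zeta
  obtain ⟨ζ, hζ⟩ := hob_
  have hn2 : 2 ≤ finrank F K := by rw [h.hK]; have := h.hn; omega
  have hz1 : orderOf (thT F K ⟨ζ, h.zeta_mem hζ⟩) = r := by
    have h1 : (thT F K ⟨ζ, h.zeta_mem hζ⟩) ^ r = 1 := by
      simp only [← map_pow]
      have : (⟨ζ, h.zeta_mem hζ⟩ : BT F K) ^ r = 1 := Subtype.ext (by
        show ζ ^ r = 1
        rw [← hζ, pow_orderOf_eq_one])
      simp only [this, map_one]
    have := Fact.mk h.hr
    refine orderOf_eq_prime h1 ?_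
    intro h2
    have h3 := mem_ker_thT hn2 (MonoidHom.mem_ker.2 h2)
    have h4 : ζ ^ 2 = 1 := congrArg Subtype.val h3
    have h5 := orderOf_dvd_of_pow_eq_one h4
    rw [hζ] at h5
    exact h.r_ne_two ((Nat.prime_dvd_prime_iff_eq h.hr Nat.prime_two).1 h5)
  have hob_ := exists_conj h.hr (AT F K) isCyclic_AT h.full ⟨_, rfl⟩ hz1 hx
  obtain ⟨s, hs⟩ := hob_
  have hob_ := h.cent_zeta hζ hs
  obtain ⟨w, hw⟩ := hob_
  refine ⟨w, ?_, ?_, s, hw.symm⟩
  · intro h1
    apply hx1
    have h2 : thT F K w = 1 := mk_Tw_eq_one hn2 h1 w.2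
    simp only [h2] at hw
    have h3 : s * x = s := mul_inv_eq_one.1 hw.symm
    exact mul_eq_left.1 h3
  · simp only [hw, card_cent_conj]

/-- the centralizer of the element of order `r` is the torus -/
theorem Hy.cent_eq {ζ : Kˣ} (hζ : orderOf ζ = r) :
    Subgroup.centralizer ({thT F K ⟨ζ, h.zeta_mem hζ⟩} : Set (SQ F K)) = AT F K := by
  ext x
  constructor
  · intro hx
    have hob_ := h.cent_zeta hζ (Subgroup.mem_centralizer_singleton_iff.1 hx)
    obtain ⟨w, hw⟩ := hob_
    exact ⟨w, hw⟩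
  · rintro ⟨w, rfl⟩
    simp only [Subgroup.mem_centralizer_singleton_iff, ← map_mul, ← map_mul, mul_comm]

/-- the `p`-part of the centralizer in `O` -/
theorem Hy.fact_O {w : Kˣ} (hw : w ^ 2 ≠ 1) : ∃ m, n = (minpoly F (w : K)).natDegree * m ∧
    (Nat.card (Subgroup.centralizer ({Tw w} : Set (O (HQ F K))))).factorization p = f * n * ((m - 1) / 2) := by
  have hob_ := card_gl (F := F) (w : K)
  obtain ⟨m, h1, h2⟩ := hob_
  rw [h.hK] at h1
  refine ⟨m, h1, ?_⟩
  rw [card_comm (h.hK ▸ h.hodd) hw, h2, h.hF, fact_glCard h.hp h.hf (minpoly.natDegree_pos (Algebra.IsIntegral.isIntegral _)),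
    val_eq h1 h.hodd]

/-- the centralizer only depends on the degree -/
theorem Hy.cent_O_eq {w w' : Kˣ} (hw : w ^ 2 ≠ 1) (hw' : w' ^ 2 ≠ 1)
    (hd : (minpoly F (w : K)).natDegree = (minpoly F (w' : K)).natDegree) :
    Subgroup.centralizer ({Tw w} : Set (O (HQ F K))) = Subgroup.centralizer ({Tw w'} : Set (O (HQ F K))) := by
  have hodd : Odd (finrank F K) := h.hK ▸ h.hodd
  ext g
  simp only [Subgroup.mem_centralizer_singleton_iff, Subgroup.mem_centralizer_singleton_iff, mem_comm_iff hodd hw,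
    mem_comm_iff hodd hw']
  refine exists_congr fun A => and_congr_right fun _ => ?_
  exact card_comm_eq hd (A : K →ₗ[F] K)

omit [FiniteDimensional F K] in
theorem Hy.two_ne (hp2 : p ≠ 2) : (2 : F) ≠ 0 := by
  have := Fact.mk h.hp
  have hch : CharP F p := charP_of_card_eq_prime_pow h.hF
  intro h1
  have h4 : ((2 : ℕ) : F) = 0 := by exact_mod_cast h1
  rw [CharP.cast_eq_zero_iff F p] at h4
  exact hp2 ((Nat.prime_dvd_prime_iff_eq h.hp Nat.prime_two).1 h4)

omit [FiniteDimensional F K] in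
theorem Hy.two_eq (hp2 : p = 2) : (2 : F) = 0 := by
  have := Fact.mk h.hp
  have hch : CharP F p := charP_of_card_eq_prime_pow h.hF
  subst hp2
  exact CharTwo.two_eq_zero

/-- no signs -/
theorem Hy.card_ns {w : BT F K} (hw : p = 2 ∨ (minpoly F ((w : Kˣ) : K)).natDegree ≠ 1) :
    Nat.card (Subgroup.centralizer ({thT F K w} : Set (SQ F K))) * Nat.card (Subgroup.center (commutator (O (HQ F K)))) =
      Nat.card (Subgroup.centralizer ({Tw (w : Kˣ)} : Set (O (HQ F K))) ⊓ commutator (O (HQ F K)) :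
        Subgroup (O (HQ F K))) := by
  have := finite_O (F := F) (K := K)
  have hn2 : 2 ≤ finrank F K := by rw [h.hK]; have := h.hn; omega
  have hob_ := (cq (F := F) (K := K) hn2).card_cent ⟨Tw (w : Kˣ), w.2⟩
  obtain ⟨j, h1, h2, h3⟩ := hob_
  have hj : j = 1 := by
    rcases hw with hw | hw
    · have h4 : Nat.card (Subgroup.center (commutator (O (HQ F K)))) = 1 := by
        apply (cq (F := F) (K := K) hn2).card_center_one
        have h5 : (-1 : Kˣ) = 1 := by
          apply Units.ext
          have h6 : (2 : K) = 0 := by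
            have := congrArg (algebraMap F K) (h.two_eq hw)
            rwa [map_ofNat, map_zero] at this
          rw [Units.val_neg, Units.val_one]
          linear_combination -h6
        simp only [h5, map_one]
      rw [h4] at h1
      exact Nat.dvd_one.1 h1
    · by_cases hp2 : p = 2
      · have h4 : Nat.card (Subgroup.center (commutator (O (HQ F K)))) = 1 := by
          apply (cq (F := F) (K := K) hn2).card_center_one
          have h5 : (-1 : Kˣ) = 1 := by
            apply Units.ext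
            have h6 : (2 : K) = 0 := by
              have := congrArg (algebraMap F K) (h.two_eq hp2)
              rwa [map_ofNat, map_zero] at this
            rw [Units.val_neg, Units.val_one]
            linear_combination -h6
          simp only [h5, map_one]
        rw [h4] at h1
        exact Nat.dvd_one.1 h1
      · apply h3
        intro g hg
        apply no_neg (h.two_ne hp2) (h.hK ▸ h.hodd) hw (g : O (HQ F K))
        (simp +singlePass only [← neg_one_mul]; simp only [map_mul])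
        exact mul_inv_eq_iff_eq_mul.1 hg
  ((conv at h2 => enter [@3, @5]; rw [hj]); (conv at h2 => enter [@3]; rw [one_mul]))
  exact h2

theorem Hy.fact_S {w : BT F K} :
    (Nat.card (Subgroup.centralizer ({thT F K w} : Set (SQ F K)))).factorization p ≤
      (Nat.card (Subgroup.centralizer ({Tw (w : Kˣ)} : Set (O (HQ F K))))).factorization p ∧
    (Nat.card (Subgroup.centralizer ({Tw (w : Kˣ)} : Set (O (HQ F K))))).factorization p ≤
      (Nat.card (Subgroup.centralizer ({thT F K w} : Set (SQ F K)))).factorization p + 1 ∧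
    (p ≠ 2 → (Nat.card (Subgroup.centralizer ({thT F K w} : Set (SQ F K)))).factorization p =
      (Nat.card (Subgroup.centralizer ({Tw (w : Kˣ)} : Set (O (HQ F K))))).factorization p) := by
  have := finite_O (F := F) (K := K)
  have hn2 : 2 ≤ finrank F K := by rw [h.hK]; have := h.hn; omega
  have hi := index_dvd_four (F := F) (K := K) h.hp h.hF h.hK (by have := h.hn; omega)
  have hodd := fun hp2 : p ≠ 2 => (cq (F := F) (K := K) hn2).fact_odd h.hp hp2 hi.1 ⟨Tw (w : Kˣ), w.2⟩
  by_cases hp2 : p = 2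
  · have hob_ := card_inf_mul (N := commutator (O (HQ F K)))
      (Subgroup.centralizer ({Tw (w : Kˣ)} : Set (O (HQ F K))))
    obtain ⟨i, h1, h2⟩ := hob_
    rw [hi.2 hp2] at h1
    have h3 := h.card_ns (w := w) (Or.inl hp2)
    have h4 : Nat.card (Subgroup.center (commutator (O (HQ F K)))) = 1 := by
      apply (cq (F := F) (K := K) hn2).card_center_one
      have h5 : (-1 : Kˣ) = 1 := by
        apply Units.ext
        have h6 : (2 : K) = 0 := by
          have := congrArg (algebraMap F K) (h.two_eq hp2)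
          rwa [map_ofNat, map_zero] at this
        rw [Units.val_neg, Units.val_one]
        linear_combination -h6
      simp only [h5, map_one]
    simp only [h4, mul_one] at h3
    simp only [← h3] at h2
    have h5 : i ≠ 0 := by rintro rfl; exact absurd h1 (by norm_num)
    simp only [h2, Nat.factorization_mul h5 Nat.card_pos.ne', Finsupp.add_apply]
    have h6 : i.factorization p ≤ 1 := by
      have h7 := (Nat.factorization_le_iff_dvd h5 two_ne_zero).2 h1 p
      refine h7.trans ?_
      rw [Nat.prime_two.factorization, Finsupp.single_apply]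
      split_ifs <;> omega
    refine ⟨by omega, by omega, fun h8 => absurd hp2 h8⟩
  · have h1 := hodd hp2
    refine ⟨h1.le, ?_, fun _ => h1⟩
    have h2 : (Nat.card (Subgroup.centralizer ({Tw (w : Kˣ)} : Set (O (HQ F K))))).factorization p =
      (Nat.card (Subgroup.centralizer ({thT F K w} : Set (SQ F K)))).factorization p := h1.symm
    omega

set_option maxHeartbeats 1000000 in
/-- **The centralizer orders of `Ω / Z(Ω)`.** -/
theorem Hy.lat : LatW (SQ F K) p r := by
  have := finite_O (F := F) (K := K)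
  have hn5 := h.hn
  have hob_ := h.exists_zeta
  obtain ⟨ζ, hζ⟩ := hob_
  have hpS : p ∣ Nat.card (SQ F K) := by
    rw [h.hp.dvd_iff_one_le_factorization Nat.card_pos.ne', h.fact_p]
    have h1 : 0 < f * (n * (n - 1)) := Nat.mul_pos h.hf (Nat.mul_pos (by omega) (by omega))
    omega
  have h0 : ∃ c ∈ Co (SQ F K), ¬ r ∣ c := by
    have := Fact.mk h.hp
    have hob_ := exists_prime_orderOf_dvd_card' p hpS
    obtain ⟨u, hu⟩ := hob_
    refine ⟨_, mem_co u, fun h1 => ?_⟩
    obtain ⟨w, -, -, s, hs⟩ := h.classify h1 (by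
      rintro rfl
      rw [orderOf_one] at hu
      exact h.hp.one_lt.ne hu)
    apply h.p_not_dvd
    have h2 : orderOf (s * u * s⁻¹) = p := by
      rw [← hu]
      exact orderOf_injective (MulAut.conj s).toMonoidHom (MulAut.conj s).injective _
    have h3 : s * u * s⁻¹ ∈ AT F K := by simp only [hs]; exact ⟨w, rfl⟩
    simp only [← h2, ← Subgroup.orderOf_mk _ h3]
    exact orderOf_dvd_natCard _
  have key : ∀ c ∈ Co (SQ F K), c ≠ Nat.card (SQ F K) → r ∣ c → ∃ w : BT F K, (w : Kˣ) ^ 2 ≠ 1 ∧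
      c = Nat.card (Subgroup.centralizer ({thT F K w} : Set (SQ F K))) := by
    rintro _ ⟨x, rfl⟩ hc hrc
    have hob_ := h.classify hrc (by
      rintro rfl
      apply hc
      have h3 : Subgroup.centralizer ({1} : Set (SQ F K)) = ⊤ :=
        (Subgroup.eq_top_iff' _).2 fun g => Subgroup.mem_centralizer_singleton_iff.2 (by simp only [mul_one, one_mul])
      show Nat.card (Subgroup.centralizer ({1} : Set (SQ F K))) = _
      simp only [h3, Subgroup.card_top])
    obtain ⟨w, h1, h2, -⟩ := hob_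
    exact ⟨w, h1, h2⟩
  refine ⟨h0, ⟨_, mem_co (thT F K ⟨ζ, h.zeta_mem hζ⟩), ?_, ?_⟩, ?_, ?_⟩
  · simp only [h.cent_eq hζ]
    exact h.full
  · simp only [h.cent_eq hζ]
    exact h.p_not_dvd
  · intro c hc h1 h2 h3
    obtain ⟨w, hw, rfl⟩ := key c hc h1 h2
    obtain ⟨m, hm, hv⟩ := h.fact_O hw
    have h4 := h.fact_S (w := w)
    have h5 := (h.hp.pow_dvd_iff_le_factorization Nat.card_pos.ne').1 h3
    simp only [h.fact_p] at h5
    have hmn : m ≤ n := Nat.le_of_dvd (by omega) (Dvd.intro_left _ hm.symm)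
    have h6 : f * n * ((m - 1) / 2) < f * (n * (n - 1)) := by
      rw [mul_assoc]
      exact Nat.mul_lt_mul_of_pos_left (Nat.mul_lt_mul_of_pos_left (by (clear * - hn5 hmn; omega)) (by omega)) h.hf
    omega
  · intro c hc h1 h2 _
    have hob_ := key c hc h1 h2
    obtain ⟨w, hw, rfl⟩ := hob_
    have hob_ := h.fact_O hw
    obtain ⟨m, hm, hv⟩ := hob_
    have h4 := h.fact_S (w := w)
    by_cases hcase : p = 2 ∨ (minpoly F ((w : Kˣ) : K)).natDegree ≠ 1
    · right
      intro c' hc' hr' hdvd hfac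
      have hne : c' ≠ Nat.card (SQ F K) := by
        rintro rfl
        exact h1 (Nat.dvd_antisymm (Subgroup.card_subgroup_dvd_card _) hdvd)
      have hob_ := key c' hc' hne hr'
      obtain ⟨w', hw', rfl⟩ := hob_
      have hob_ := h.fact_O hw'
      obtain ⟨m', hm', hv'⟩ := hob_
      have h4' := h.fact_S (w := w')
      have hmo : Odd m := (Nat.odd_mul.1 (hm ▸ h.hodd)).2
      have hmo' : Odd m' := (Nat.odd_mul.1 (hm' ▸ h.hodd)).2
      have hfn : 5 ≤ f * n := le_trans hn5 (Nat.le_mul_of_pos_left n h.hf)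
      have hmm : m = m' := by
        obtain ⟨j, rfl⟩ := hmo
        obtain ⟨j', rfl⟩ := hmo'
        have e1 : (2 * j + 1 - 1) / 2 = j := by (clear * -; omega)
        have e2 : (2 * j' + 1 - 1) / 2 = j' := by (clear * -; omega)
        rw [e1] at hv
        simp only [e2] at hv'
        rcases lt_trichotomy j j' with h5 | h5 | h5
        · have : f * n * j + f * n ≤ f * n * j' := by
            rw [← Nat.mul_succ]
            exact Nat.mul_le_mul_left _ h5
          omega
        · rw [h5]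
        · have : f * n * j' + f * n ≤ f * n * j := by
            rw [← Nat.mul_succ]
            exact Nat.mul_le_mul_left _ h5
          omega
      have hm0 : 0 < m := by
        rcases Nat.eq_zero_or_pos m with h5 | h5
        · rw [h5, mul_zero] at hm
          omega
        · exact h5
      have hdeg : (minpoly F ((w : Kˣ) : K)).natDegree = (minpoly F ((w' : Kˣ) : K)).natDegree := by
        rw [← hmm, hm] at hm'
        exact Nat.eq_of_mul_eq_mul_right hm0 hm'
      have h5 := h.card_ns (w := w) hcase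
      have h6 := h.card_ns (w := w') (by rw [← hdeg]; exact hcase)
      simp only [← h.cent_O_eq hw hw' hdeg, ← h5] at h6
      exact Nat.eq_of_mul_eq_mul_right Nat.card_pos h6
    · left
      have hc1 : p ≠ 2 := fun h5 => hcase (Or.inl h5)
      have hc2 : (minpoly F ((w : Kˣ) : K)).natDegree = 1 := by
        by_contra h5
        exact hcase (Or.inr h5)
      intro c' hc' hne' hr'
      have hob_ := key c' hc' hne' hr'
      obtain ⟨w', hw', hcc⟩ := hob_
      have hob_ := h.fact_O hw'
      obtain ⟨m', hm', hv'⟩ := hob_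
      have e1 := h4.2.2 hc1
      have e2 := (h.fact_S (w := w')).2.2 hc1
      have hmn : m' ≤ n := Nat.le_of_dvd (by omega) (Dvd.intro_left _ hm'.symm)
      rw [hc2, one_mul] at hm
      have h7 : f * n * ((m' - 1) / 2) ≤ f * n * ((m - 1) / 2) :=
        Nat.mul_le_mul_left _ (Nat.div_le_div_right (by omega))
      rw [hcc]
      exact (e2.trans hv').le.trans (h7.trans (e1.trans hv).ge)

end hy

end final

/-- transport -/
theorem latW_congr {S : Type u} [Group S] {T : Type v} [Group T] (e : S ≃* T) {p r : ℕ} (h : LatW T p r) :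
    LatW S p r := by
  have h1 := co_congr e
  have h2 := Nat.card_congr e.toEquiv
  obtain ⟨a, b, c, d⟩ := h
  rw [← h1] at a b c d
  rw [← h2] at b c d
  exact ⟨a, b, c, d⟩

/-- **L-D-top, `n` odd.** -/
theorem lat_plus_odd {F : Type v} [Field F] [Fintype F] {p f n r : ℕ} (hp : p.Prime) (hf : 1 ≤ f)
    (hF : Fintype.card F = p ^ f) (hn : 5 ≤ n) (hodd : Odd n) (hr : r.Prime)
    (ho : orderOf (((p ^ f : ℕ)) : ZMod r) = n) : LatW (Cfsg.POmega F (Cfsg.quadFormPlus n F)) p r := by
  have := Fact.mk hp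
  have hch : CharP F p := charP_of_card_eq_prime_pow hF
  have : NeZero n := ⟨by omega⟩
  have hK := FiniteField.finrank_extension F p n
  have h : Hy F (FiniteField.Extension F p n) p f n r := ⟨hp, hf, hF, hn, hodd, hr, ho, hK⟩
  exact latW_congr (modelEquiv (finBasisOfFinrankEq F _ hK)) h.lat

end Cfsg.Agent.H237.PL
end

-- part: H221/CD/Num
section
/-!
# S3677, row `PΩ⁺(2n, q)`, `n` even: the numbers (helper221)
-/

set_option autoImplicit false

namespace Cfsg.Agent.H221.CD

open Cfsg.Agent.H60.DE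

theorem pow_mod_four_one {q n : ℕ} (h : q % 4 = 1) : q ^ n % 4 = 1 := by
  rw [Nat.pow_mod, h, one_pow]; rfl

theorem sq_mod_four {q : ℕ} (h : q % 2 = 1) : q ^ 2 % 4 = 1 := by
  rw [Nat.pow_mod]
  have h1 : q % 4 = 1 ∨ q % 4 = 3 := by omega
  rcases h1 with h1 | h1 <;> rw [h1]

theorem pow_even_mod_four {q n : ℕ} (h : q % 2 = 1) (hn : n % 2 = 0) : q ^ n % 4 = 1 := by
  obtain ⟨k, rfl⟩ : ∃ k, n = 2 * k := ⟨n / 2, by omega⟩
  rw [pow_mul]
  exact pow_mod_four_one (sq_mod_four h)

theorem pow_odd_mod_four {q n : ℕ} (h : q % 4 = 3) (hn : n % 2 = 1) : q ^ n % 4 = 3 := by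
  obtain ⟨k, rfl⟩ : ∃ k, n = 2 * k + 1 := ⟨n / 2, by omega⟩
  rw [pow_succ, Nat.mul_mod, pow_even_mod_four (by omega) (by omega), h]

theorem gcd_odd {q n : ℕ} (h : q % 2 = 1) (hn : n % 2 = 0) : Nat.gcd 4 (q ^ n - 1) = 4 := by
  apply Nat.gcd_eq_left
  have := pow_even_mod_four h hn
  omega

theorem gcd_even {q n : ℕ} (h : q % 2 = 0) (hq : 2 ≤ q) (hn : 1 ≤ n) : Nat.gcd 4 (q ^ n - 1) = 1 := by
  have h1 : q ^ n % 2 = 0 := by
    rw [Nat.pow_mod, h, zero_pow (by omega)]; rfl
  have h2 : 1 ≤ q ^ n := Nat.one_le_pow _ _ (by omega)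
  have h3 : Nat.Coprime 2 (q ^ n - 1) := by
    rw [Nat.coprime_two_left]
    exact Nat.odd_iff.2 (by omega)
  exact Nat.Coprime.pow_left 2 h3

/-- the two lattices -/
theorem exists_num {n q : ℕ} (hn : 4 ≤ n) (hev : n % 2 = 0) (hq : 2 ≤ q) (hq2 : q % 2 = 0 → q = 2 ∨ 4 ≤ q) :
    ∃ d m, Num n q d m ∧
      ((d = 2 * (n - 1) ∧ q % 4 ≠ 3 ∧ m = (q ^ (n - 1) + 1) * (q + 1) / Nat.gcd 4 (q ^ n - 1)) ∨
        (d = n - 1 ∧ (q % 4 = 3 ∨ q = 2) ∧ m = (q ^ (n - 1) - 1) * (q - 1) / Nat.gcd 4 (q ^ n - 1))) := by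
  have hdiv : (q % 4 ≠ 3 → Nat.gcd 4 (q ^ n - 1) ∣ (q ^ (n - 1) + 1) * (q + 1)) ∧
      ((q % 4 = 3 ∨ q = 2) → Nat.gcd 4 (q ^ n - 1) ∣ (q ^ (n - 1) - 1) * (q - 1)) := by
    rcases Nat.mod_two_eq_zero_or_one q with h | h
    · rw [gcd_even h hq (by omega)]
      exact ⟨fun _ => one_dvd _, fun _ => one_dvd _⟩
    · rw [gcd_odd h hev]
      have h1 : q ^ (n - 1) % 2 = 1 := by rw [Nat.pow_mod, h, one_pow]; rfl
      refine ⟨fun _ => ?_, fun _ => ?_⟩
      · exact Nat.mul_dvd_mul (show 2 ∣ _ by omega) (show 2 ∣ _ by omega)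
      · exact Nat.mul_dvd_mul (show 2 ∣ _ by omega) (show 2 ∣ _ by omega)
  by_cases h3 : q % 4 = 3 ∨ q = 2
  · exact ⟨n - 1, _, Or.inr ⟨rfl, Nat.div_mul_cancel (hdiv.2 h3), h3⟩, Or.inr ⟨rfl, h3, rfl⟩⟩
  · rw [not_or] at h3
    refine ⟨2 * (n - 1), _, Or.inl ⟨rfl, Nat.div_mul_cancel (hdiv.1 h3.1), ?_⟩, Or.inl ⟨rfl, h3.1, rfl⟩⟩
    rcases Nat.mod_two_eq_zero_or_one q with h | h
    · exact Or.inr ⟨h, (hq2 h).resolve_left h3.2⟩
    · left; omega

theorem num_odd {n q d m : ℕ} (h : Num n q d m) (hn : 4 ≤ n) (hev : n % 2 = 0) (hq : 2 ≤ q) : m % 2 = 1 := by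
  obtain ⟨-, h1, h2⟩ | ⟨-, h1, h2⟩ := h
  · rcases Nat.mod_two_eq_zero_or_one q with h | h
    · rw [gcd_even h hq (by omega), mul_one] at h1
      have h3 : q ^ (n - 1) % 2 = 0 := by rw [Nat.pow_mod, h, zero_pow (by omega)]; rfl
      rw [h1, Nat.mul_mod, show (q ^ (n - 1) + 1) % 2 = 1 by omega, show (q + 1) % 2 = 1 by omega]
    · rw [gcd_odd h hev] at h1
      have h4 : q % 4 = 1 := by omega
      have h5 : q ^ (n - 1) % 4 = 1 := pow_mod_four_one h4
      obtain ⟨a, ha⟩ : ∃ a, q ^ (n - 1) + 1 = 2 * a := ⟨(q ^ (n - 1) + 1) / 2, by omega⟩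
      obtain ⟨b, hb⟩ : ∃ b, q + 1 = 2 * b := ⟨(q + 1) / 2, by (clear * - h4; omega)⟩
      rw [ha, hb] at h1
      have h6 : m = a * b := by
        apply Nat.eq_of_mul_eq_mul_right (show 0 < 4 by norm_num)
        rw [h1]; ring
      rw [h6, Nat.mul_mod, show a % 2 = 1 by omega, show b % 2 = 1 by (clear * - h4 hb; omega)]
  · rcases h2 with h2 | rfl
    · rw [gcd_odd (by omega) hev] at h1
      have h5 : q ^ (n - 1) % 4 = 3 := pow_odd_mod_four h2 (by omega)
      obtain ⟨a, ha⟩ : ∃ a, q ^ (n - 1) - 1 = 2 * a := ⟨(q ^ (n - 1) - 1) / 2, by omega⟩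
      obtain ⟨b, hb⟩ : ∃ b, q - 1 = 2 * b := ⟨(q - 1) / 2, by omega⟩
      rw [ha, hb] at h1
      have h6 : m = a * b := by
        apply Nat.eq_of_mul_eq_mul_right (show 0 < 4 by norm_num)
        rw [h1]; ring
      rw [h6, Nat.mul_mod, show a % 2 = 1 by (clear * - h5 ha; omega), show b % 2 = 1 by omega]
    · rw [gcd_even (by norm_num) (by norm_num) (by omega), mul_one] at h1
      have h3 : 2 ^ (n - 1) % 2 = 0 := by
        obtain ⟨k, hk⟩ : ∃ k, n - 1 = k + 1 := ⟨n - 2, by omega⟩
        rw [hk, pow_succ]; omega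
      have h4 : 1 ≤ 2 ^ (n - 1) := Nat.one_le_pow _ _ (by norm_num)
      rw [h1]
      omega

/-- `3 ∤ m` for `q = 2` -/
theorem num_three {n d m : ℕ} (h : Num n 2 d m) (hn : 4 ≤ n) (hev : n % 2 = 0) : ¬ 3 ∣ m := by
  obtain ⟨-, -, h2⟩ | ⟨-, h1, h2⟩ := h
  · omega
  · rw [gcd_even (by norm_num) (by norm_num) (by omega), mul_one] at h1
    obtain ⟨k, hk⟩ : ∃ k, n - 1 = 2 * k + 1 := ⟨(n - 2) / 2, by omega⟩
    have h3 : ∀ k, 4 ^ k % 3 = 1 := fun k => by rw [Nat.pow_mod]; simp
    rw [hk, pow_succ, pow_mul] at h1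
    have := h3 k
    norm_num only [_root_.mul_one] at h1
    omega

theorem num_d_ge {n q d m : ℕ} (h : Num n q d m) (hn : 4 ≤ n) : 3 ≤ d := by
  obtain ⟨h1, -, -⟩ | ⟨h1, -, -⟩ := h <;> omega

/-- there is a chosen prime -/
theorem num_exists_prime {n q d m : ℕ} (h : Num n q d m) (hn : 4 ≤ n) (hev : n % 2 = 0) (hq : 2 ≤ q) :
    ∃ r : ℕ, r.Prime ∧ orderOf ((q : ℕ) : ZMod r) = d := by
  have h3 := num_d_ge h hn
  refine Cfsg.Agent.Lib.Zsigmondy.exists_prime_orderOf hq (show 2 ≤ d by omega) (fun h => by omega) ?_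
  rintro ⟨rfl, h6⟩
  obtain ⟨h1, -, h2⟩ | ⟨h1, -, h2⟩ := h
  · norm_num at h2
  · omega

end Cfsg.Agent.H221.CD
end

private theorem dce_c72d2e3f5d0a : _root_.True := by
  try have : _root_.True := by simp only [_root_.Cfsg.Agent.H237.PL.BT.eq_1]
  try have : _root_.True := by simp only [_root_.Cfsg.Agent.H237.PL.AT.eq_1]
  exact _root_.True.intro
end

-- part: H402/CS/Generic_mg
section
prune_inst 0x300000000000000000000000000000000
set_option linter.all false
open scoped Cfsg.Agent.FastGrp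

-- part: H402/CS/PslRow
section
/-!
# `PSL_n(q)`, `n ≥ 4`: the simple section (helper402, S3677)
-/

set_option autoImplicit false

namespace Cfsg.Agent.H402.CS.PslRow

open Subgroup Cfsg Cfsg.Agent.H902 Cfsg.Agent.H431.CS Cfsg.Agent.H402.CS.One Cfsg.Agent.H370.AAM Matrix
open Cfsg.Agent.H969.CS (CO Cz mem_Cz mem_CO)

universe u v

theorem ne_of_order {p f s k : ℕ} (hs : s.Prime) (hp : p.Prime) (hf : 1 ≤ f) (hk : 1 ≤ k)
    (ho : orderOf ((p ^ f : ℕ) : ZMod s) = k) : s ≠ p := by
  rintro rfl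
  have h0 : ((s ^ f : ℕ) : ZMod s) = 0 := by
    rw [Nat.cast_pow, ZMod.natCast_self, zero_pow (by omega)]
  rw [h0] at ho
  have h1 : (0 : ZMod s) ^ k = 1 := by rw [← ho]; exact pow_orderOf_eq_one _
  rw [zero_pow (by omega)] at h1
  have := Fact.mk hs
  exact zero_ne_one h1

/-- the centralizer orders of `G` in terms of those of `S` -/
theorem co_bound {G : Type u} [Group G] [Finite G] {S : Type v} [Group S] [Finite S] (hG : Same G S) {P : ℕ → Prop}
    (h : ∀ x : S, x ≠ 1 → P (Nat.card ↥(centralizer ({x} : Set S)))) :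
    ∀ c ∈ CO G, c ≠ Nat.card G → P c := by
  rintro c ⟨g, rfl⟩ hc
  obtain ⟨x, hx⟩ := hG.mem g
  have hx' : Nat.card ↥(centralizer ({x} : Set S)) = Nat.card ↥(Cz g) := hx
  show P (Nat.card ↥(Cz g))
  rw [← hx']
  apply h
  rintro rfl
  apply hc
  show Nat.card ↥(Cz g) = _
  rw [← hx', hG.card]
  have : centralizer ({(1 : S)} : Set S) = ⊤ := by
    rw [eq_top_iff]
    intro w _
    rw [mem_centralizer_singleton_iff, mul_one, one_mul]
  rw [this, Subgroup.card_top]

variable {F : Type} [Field F] [Fintype F] {n p f : ℕ}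

/-- the centre is trivial -/
theorem center_eq_bot_of {G : Type u} [Group G] [Finite G] {S : Type v} [Group S] [Finite S] (hG : Same G S)
    {s m : ℕ} (h : Perf G s p m) (hreg : ∃ k, p ^ k ∈ Co S) : center G = ⊥ := by
  apply center_eq_bot
  intro l hl
  by_cases hlp : l = p
  · obtain ⟨y, hy⟩ := h.exists_y
    refine ⟨_, mem_CO y, ?_⟩
    rw [h.cent y hy, hlp]
    exact h.not_p_m
  · obtain ⟨k, hk⟩ := hreg
    refine ⟨p ^ k, ?_, fun hd => hlp ((Nat.prime_dvd_prime_iff_eq hl h.hp).1 (hl.dvd_of_dvd_pow hd))⟩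
    rw [← hG.co] at hk
    exact hk

/-- **The simple section, `PSL_n(q)`, `n ≥ 4`.** -/
theorem psl_final {G : Type u} [Group G] [Finite G] (hS : Solv.{u}) (hp : p.Prime) (hf : 1 ≤ f)
    (hF : Fintype.card F = p ^ f) (hn : 4 ≤ n) (hG : Same G (ProjectiveSpecialLinearGroup (Fin n) F))
    {s r a b : ℕ} (hs : s.Prime) (hso : orderOf ((p ^ f : ℕ) : ZMod s) = n - 1) (hr : r.Prime)
    (hro : orderOf ((p ^ f : ℕ) : ZMod r) = n) (ha : ∀ j, r ∣ p ^ j - 1 → a ∣ j) (hb : ∀ j, s ∣ p ^ j - 1 → b ∣ j)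
    (hlcm : f * (n * (n - 1) / 2) < Nat.lcm a b) (hreg : ∃ k, p ^ k ∈ Co (ProjectiveSpecialLinearGroup (Fin n) F))
    (hrsize : (p ^ f) ^ (n * (n / 2)) * (p ^ f) ^ (n * (n - 1) / 2) < Nat.card (ProjectiveSpecialLinearGroup (Fin n) F))
    (hcore : ∀ t : ℕ, t.Prime → t ≠ p → pCore t G = ⊥) :
    ∃ (K : Subgroup G) (_ : K.Normal) (N : Subgroup (G ⧸ K)) (_ : N.Normal) (_ : IsSimpleGroup ↥N),
      (¬ ∀ a b : ↥N, a * b = b * a) ∧ p ∣ Nat.card ↥N ∧ s ∣ Nat.card ↥N ∧
      N.index ∣ Nat.card (Cfsg.Out ↥N) ∧ Nat.card ↥K * (N.index * Nat.card ↥N) = Nat.card G ∧ Nat.card ↥K = 1 := by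
  have hY := Names.psl_real (F := F) hp hf hF (by omega : 2 ≤ n) (by omega)
  have hsp := ne_of_order hs hp hf (by omega) hso
  have hrp := ne_of_order hr hp hf (by omega) hro
  set S := ProjectiveSpecialLinearGroup (Fin n) F with hSdef
  have hSf : Finite S := Quotient.finite _
  have hN : (Nat.card G).factorization p = f * (n * (n - 1) / 2) := by
    rw [hG.card]
    have h1 := hY.P_self
    rw [Art.P, ← pow_mul] at h1
    exact Nat.pow_right_injective hp.two_le h1
  have hNpos : 0 < n * (n - 1) / 2 := by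
    apply Nat.div_pos _ (by norm_num)
    nlinarith only [hn, Nat.sub_add_cancel (show 1 ≤ n by omega)]
  have hpS : p ∣ Nat.card S := by
    rw [← hG.card]
    by_contra hcon
    rw [Nat.factorization_eq_zero_of_not_dvd hcon] at hN
    have : 0 < f * (n * (n - 1) / 2) := Nat.mul_pos hf hNpos
    omega
  have hL := Cfsg.Agent.H277.CS.lat_psl_sub (F := F) hp hf hF (by omega : 3 ≤ n) hs hso
  have hP := perf_of_lat hL hs hp hsp hG hpS
  have hZ := center_eq_bot_of hG hP hreg
  have hqF : Nat.card F = p ^ f := by rw [Nat.card_eq_fintype_card, hF]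
  have hdvd : ∀ d, (r ∣ (p ^ f) ^ d - 1 ↔ n ∣ d) := fun d => by
    rw [Cfsg.Agent.Lib.Zsigmondy.dvd_pow_sub_one_iff (Nat.one_le_pow _ _ hp.pos), hro]
  have hrG : r ∣ Nat.card G := by
    rw [hG.card]
    -- the order formula
    have h1 := hY.eq
    have h2 : r ∣ Art.num (.L n) (p ^ f) := by
      show r ∣ ∏ i ∈ Finset.range (n - 1), ((p ^ f) ^ (i + 2) - 1)
      refine dvd_trans ((hdvd n).2 dvd_rfl) ?_
      have := Finset.dvd_prod_of_mem (fun i => (p ^ f) ^ (i + 2) - 1) (Finset.mem_range.2 (show n - 2 < n - 1 by (clear * - hn hro hsp hrp; omega)))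
      simp only [show n - 2 + 2 = n by omega] at this
      exact this
    have h3 : r ∣ Art.dd (.L n) (p ^ f) * Nat.card S := h1 ▸ Dvd.dvd.mul_left h2 _
    refine (hr.dvd_mul.1 h3).resolve_left ?_
    intro h4
    have h5 : r ∣ p ^ f - 1 := h4.trans (Nat.gcd_dvd_right _ _)
    have h6 := (hdvd 1).1 (by rwa [pow_one])
    have := Nat.le_of_dvd one_pos h6
    omega
  have hsize : ∀ c ∈ CO G, c ≠ Nat.card G → r ∣ c → c * p ^ c.factorization p < Nat.card G := by
    intro c hc hcG hrc
    have h1 : c ≤ (p ^ f) ^ (n * (n / 2)) := by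
      revert hrc
      refine co_bound hG (P := fun c => r ∣ c → c ≤ (p ^ f) ^ (n * (n / 2))) ?_ c hc hcG
      intro x hx hrx
      have h2 := PslSize.card_cent_le_top (F := F) (n := n) hr (by rw [hqF]; exact (hdvd n).2 dvd_rfl)
        (by
          intro d hd hdn h3
          rw [hqF] at h3
          have := Nat.le_of_dvd hd ((hdvd d).1 h3)
          omega) hx hrx
      rwa [hqF] at h2
    obtain ⟨g, hg⟩ : ∃ g : G, Nat.card ↥(Cz g) = c := hc
    have h3 : c.factorization p ≤ (Nat.card G).factorization p := by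
      apply (Nat.factorization_le_iff_dvd (hg ▸ Nat.card_pos.ne') Nat.card_pos.ne').2
      rw [← hg]
      exact Subgroup.card_subgroup_dvd_card _
    calc c * p ^ c.factorization p ≤ (p ^ f) ^ (n * (n / 2)) * p ^ (Nat.card G).factorization p :=
          Nat.mul_le_mul h1 (Nat.pow_le_pow_right hp.pos h3)
      _ = (p ^ f) ^ (n * (n / 2)) * (p ^ f) ^ (n * (n - 1) / 2) := by rw [hN, pow_mul p f]
      _ < Nat.card G := by rw [hG.card]; exact hrsize
  have hOp : pCore p G = ⊥ :=
    pCore_eq_bot_of_fpf hp hs hr hP.sG hrG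
      (fun V hVn hV hVc y hy x hx hxy => fpf_of_nonAdj hs hp hsp hP.na V hV hy hx hxy)
      (fun V hVn hV hVc y hy x hx hxy => fpf_of_size hp hZ hsize V hVn hV hVc hy hx hxy) ha hb (by rw [hN]; exact hlcm)
  have hdom := hY.dom (by simp; omega) hs hsp (by simp) (by simp)
  rw [Art.P, ← pow_mul] at hdom
  obtain ⟨K, hKn, N, hNn, hNs, h1, h2, h3, h4, h5, h6, h7, h8, h9⟩ := hP.final hS (by rw [hG.card]; exact hpS)
    (by rw [hN, hG.card]; exact hdom) hOp (fun l hl hlm => hcore l hl (fun h => hP.not_p_m (h ▸ hlm)))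
  refine ⟨K, hKn, N, hNn, hNs, h1, h4, h5, h6, h7, h9 fun l hl => ?_⟩
  by_cases hlp : l = p
  · rw [hlp]; exact hOp
  · exact hcore l hl hlp

end Cfsg.Agent.H402.CS.PslRow
end

-- part: H402/CS/Generic
section
/-!
# The simple section, generic form (helper402, S3677)

`S` has the prime `s` with its lattice of centralizer orders (`Lat S p s m`), a second prime `r` such that the elements
`x ≠ 1` commuting with elements of order `r` have large classes, and a centralizer which is a `p`-group.
-/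

set_option autoImplicit false

namespace Cfsg.Agent.H402.CS.Generic

open Subgroup Cfsg Cfsg.Agent.H902 Cfsg.Agent.H431.CS Cfsg.Agent.H402.CS.One Cfsg.Agent.H370.AAM
open Cfsg.Agent.H402.CS.PslRow
open Cfsg.Agent.H969.CS (CO Cz mem_Cz mem_CO)

universe u v

/-- the data about the simple section -/
structure Sect (G : Type u) [Group G] [Finite G] (p s : ℕ) (K : Subgroup G) [K.Normal] (N : Subgroup (G ⧸ K)) :
    Prop where
  normal : N.Normal
  simple : IsSimpleGroup ↥N
  nab : ¬ ∀ a b : ↥N, a * b = b * a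
  pK : ¬ p ∣ Nat.card ↥K
  sK : ¬ s ∣ Nat.card ↥K
  pN : p ∣ Nat.card ↥N
  sN : s ∣ Nat.card ↥N
  out : N.index ∣ Nat.card (Cfsg.Out ↥N)
  card_eq : Nat.card ↥K * (N.index * Nat.card ↥N) = Nat.card G

variable {G : Type u} [Group G] [Finite G] {S : Type v} [Group S] [Finite S] {p s r m a b N : ℕ}

/-- **`O_p(G) = 1`**, with the size of the centralizers commuting with `r`-elements. -/
theorem pCore_eq_bot (hG : Same G S) (h : Perf G s p m) (hZ : center G = ⊥) (hr : r.Prime)
    (hrS : r ∣ Nat.card S) (ha : ∀ j, r ∣ p ^ j - 1 → a ∣ j) (hb : ∀ j, s ∣ p ^ j - 1 → b ∣ j)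
    (hN : (Nat.card S).factorization p = N) (hlcm : N < Nat.lcm a b)
    (hsize : ∀ x : S, x ≠ 1 → r ∣ Nat.card ↥(centralizer ({x} : Set S)) →
      Nat.card ↥(centralizer ({x} : Set S)) * p ^ (Nat.card ↥(centralizer ({x} : Set S))).factorization p < Nat.card S) :
    pCore p G = ⊥ := by
  have hsize' : ∀ c ∈ CO G, c ≠ Nat.card G → r ∣ c → c * p ^ c.factorization p < Nat.card G := by
    rw [hG.card]
    have := co_bound hG (P := fun c => r ∣ c → c * p ^ c.factorization p < Nat.card S) (fun x hx hrx => hsize x hx hrx)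
    rwa [hG.card] at this
  exact pCore_eq_bot_of_fpf h.hp h.hs hr h.sG (by rw [hG.card]; exact hrS)
      (fun V hVn hV hVc y hy x hx hxy => fpf_of_nonAdj h.hs h.hp h.hsp h.na V hV hy hx hxy)
      (fun V hVn hV hVc y hy x hx hxy => fpf_of_size h.hp hZ hsize' V hVn hV hVc hy hx hxy) ha hb
      (by rw [hG.card, hN]; exact hlcm)

/-- the cores from the least class size -/
theorem pCore_eq_bot_of_class {t : ℕ} (hG : Same G S) (hZ : center G = ⊥) (ht : t.Prime)
    (hidx : ∀ x : S, x ≠ 1 → t ^ (Nat.card S).factorization t * Nat.card ↥(centralizer ({x} : Set S)) ≤ Nat.card S) :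
    pCore t G = ⊥ := by
  apply pCore_eq_bot_of_index ht hZ
  rw [hG.card]
  have := co_bound hG (P := fun c => t ^ (Nat.card S).factorization t * c ≤ Nat.card S) hidx
  rwa [hG.card] at this

/-- the cores from the least index -/
theorem pCore_eq_bot_of_minIndex {t : ℕ} (hG : Same G S) (hZ : center G = ⊥) (ht : t.Prime)
    (hcen : center S = ⊥) (hidx : ∀ H : Subgroup S, H ≠ ⊤ → t ^ (Nat.card S).factorization t ≤ H.index) :
    pCore t G = ⊥ := by
  refine pCore_eq_bot_of_class hG hZ ht fun x hx => ?_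
  have h1 : centralizer ({x} : Set S) ≠ ⊤ := by
    intro h
    apply hx
    rw [← Subgroup.mem_bot, ← hcen, Subgroup.mem_center_iff]
    intro g
    exact mem_centralizer_singleton_iff.1 (h ▸ Subgroup.mem_top g)
  have h2 := hidx _ h1
  calc t ^ (Nat.card S).factorization t * Nat.card ↥(centralizer ({x} : Set S)) ≤
        (centralizer ({x} : Set S)).index * Nat.card ↥(centralizer ({x} : Set S)) := Nat.mul_le_mul_right _ h2
    _ = Nat.card S := by rw [mul_comm, Subgroup.card_mul_index]

/-- the cores from the action of `s`-elements -/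
theorem pCore_eq_bot_of_order {t b : ℕ} (h : Perf G s p m) (hZ : center G = ⊥) (ht : t.Prime) (htm : ¬ t ∣ m)
    (hb : ∀ j, s ∣ t ^ j - 1 → b ∣ j)
    (hidx : ∀ c ∈ CO G, c ≠ Nat.card G → ∀ j, b ∣ j → j ≤ (Nat.card G).factorization t → t ^ j * c ≤ Nat.card G) :
    pCore t G = ⊥ := by
  have := Fact.mk ht
  have hA : (pCore t G).Normal := Cfsg.Agent.Lib.Cores.pCore_normal _
  have hApg : IsPGroup t ↥(pCore t G) := Cfsg.Agent.Lib.Cores.pCore_isPGroup _
  by_contra hne
  obtain ⟨j, hj⟩ := IsPGroup.iff_card.1 hApg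
  have hjle : j ≤ (Nat.card G).factorization t := by
    rw [← ht.pow_dvd_iff_le_factorization Nat.card_pos.ne', ← hj]
    exact Subgroup.card_subgroup_dvd_card _
  obtain ⟨x0, hx0⟩ := Subgroup.ne_bot_iff_exists_ne_one.1 hne
  obtain ⟨x, hx, hx1⟩ : ∃ x ∈ pCore t G, x ≠ 1 := ⟨(x0 : G), x0.2, fun h => hx0 (Subtype.ext h)⟩
  have h1 := index_lt_of_mem hA hx hx1
  have h2 : Nat.card ↥(Cz x) ≠ Nat.card G := by
    intro h3
    have h4 : Cz x = ⊤ := Subgroup.eq_top_of_card_eq _ h3
    apply hx1
    rw [← Subgroup.mem_bot, ← hZ, Subgroup.mem_center_iff]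
    intro g
    exact mem_Cz.1 (h4 ▸ Subgroup.mem_top g)
  have hsj : s ∣ t ^ j - 1 := by
    have := Fact.mk h.hs
    obtain ⟨y, hy⟩ := exists_prime_orderOf_dvd_card' s h.sG
    have hp1 : IsPGroup s ↥(Subgroup.zpowers y) := IsPGroup.of_card (by
      rw [Nat.card_zpowers, hy, pow_one])
    let inst : MulAction ↥(Subgroup.zpowers y) ↥(pCore t G) :=
      { smul := fun g v => ⟨(g : G) * v * (g : G)⁻¹, hA.conj_mem v v.2 g⟩
        one_smul := fun v => Subtype.ext (by
          show ((1 : ↥(Subgroup.zpowers y)) : G) * (v : G) * ((1 : ↥(Subgroup.zpowers y)) : G)⁻¹ = v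
          simp only [_root_.OneMemClass.coe_one, _root_.one_mul, _root_.inv_one, _root_.mul_one])
        mul_smul := fun g k v => Subtype.ext (by
          show ((g * k : ↥(Subgroup.zpowers y)) : G) * (v : G) * ((g * k : ↥(Subgroup.zpowers y)) : G)⁻¹ =
            (g : G) * ((k : G) * v * (k : G)⁻¹) * (g : G)⁻¹
          rw [Subgroup.coe_mul]; group) }
    have hmod := hp1.card_modEq_card_fixedPoints (α := ↥(pCore t G))
    have hfix : MulAction.fixedPoints ↥(Subgroup.zpowers y) ↥(pCore t G) = {1} := by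
      ext v
      constructor
      · intro hv
        have h4 : (y : G) * v * (y : G)⁻¹ = v := congrArg Subtype.val (hv ⟨y, Subgroup.mem_zpowers y⟩)
        have h5 : (v : G) ∈ Cz y := by
          rw [mem_Cz]
          calc (v : G) * y = (y * v * y⁻¹) * y := by rw [h4]
            _ = y * v := by group
        have h6 : orderOf (v : G) ∣ m := by
          rw [← h.cent y hy]
          exact dvd_card_of_mem h5
        obtain ⟨k, hk⟩ := (IsPGroup.iff_orderOf.1 hApg) v
        have h7 : orderOf (v : G) = t ^ k := by rw [Subgroup.orderOf_coe, hk]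
        have h8 : k = 0 := by
          by_contra hk0
          exact htm ((dvd_pow_self t hk0).trans (h7 ▸ h6))
        rw [h8, pow_zero, orderOf_eq_one_iff] at h7
        exact Subtype.ext h7
      · rintro rfl g
        apply Subtype.ext
        show (g : G) * (1 : G) * (g : G)⁻¹ = 1
        group
    have h4 : Nat.card ↑({1} : Set ↥(pCore t G)) = 1 := by simp
    rw [hfix, h4, hj] at hmod
    exact (Nat.modEq_iff_dvd' (Nat.one_le_pow _ _ ht.pos)).1 hmod.symm
  have h3 := hidx _ (mem_CO x) h2 j (hb j hsj) hjle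
  have h5 := Subgroup.card_mul_index (Cz x)
  rw [hj] at h1
  have h6 : (Cz x).index * Nat.card ↥(Cz x) < t ^ j * Nat.card ↥(Cz x) :=
    Nat.mul_lt_mul_of_pos_right h1 Nat.card_pos
  rw [mul_comm, h5] at h6
  omega

/-- **The simple section.** -/
theorem final_of (hS : Solv.{u}) (hG : Same G S) (h : Perf G s p m) (hpS : p ∣ Nat.card S)
    (hdom : s ^ (Nat.card S).factorization s ≤ p ^ (Nat.card S).factorization p) (hOp : pCore p G = ⊥)
    (hOl : ∀ l : ℕ, l.Prime → l ∣ m → pCore l G = ⊥) :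
    ∃ (K : Subgroup G) (_ : K.Normal) (N : Subgroup (G ⧸ K)), Sect G p s K N ∧
      (∀ t : ℕ, t.Prime → ¬ t ∣ m → pCore t G = ⊥ → ¬ t ∣ Nat.card ↥K) ∧
      ((∀ l : ℕ, l.Prime → l ≠ p → pCore l G = ⊥) → Nat.card ↥K = 1) := by
  obtain ⟨K, hKn, N, hNn, hNs, h1, h2, h3, h4, h5, h6, h7, h8, h9⟩ := h.final hS (by rw [hG.card]; exact hpS)
    (by rw [hG.card]; exact hdom) hOp hOl
  refine ⟨K, hKn, N, ⟨hNn, hNs, h1, h2, h3, h4, h5, h6, h7⟩, h8, fun hl => h9 fun l hlp => ?_⟩
  by_cases hlp' : l = p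
  · rw [hlp']; exact hOp
  · exact hl l hlp hlp'

end Cfsg.Agent.H402.CS.Generic
end

-- part: H277/CS/Reg
section
/-!
# S3677: regular unipotent elements of `PSL_n(q)`, `PSU_n(q)`
-/

set_option autoImplicit false
set_option linter.style.haveILetI false

namespace Cfsg.Agent.H277.CS

open Matrix Module Cfsg.Agent.H363.PslSpec Cfsg.Agent.H370.AAM

universe u v

section lin

set_option linter.unusedSectionVars false

variable {F : Type u} {V : Type v} [Field F] [AddCommGroup V] [Module F V] [FiniteDimensional F V]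

/-- an endomorphism commuting with a regular nilpotent one is a scalar plus a nilpotent one -/
theorem exists_scalar_add {N c : Module.End F V} {n : ℕ} (hN : N ^ n = 0) (h1 : finrank F (LinearMap.ker N) = 1)
    (hc : Commute c N) : ∃ l : F, (c - algebraMap F (Module.End F V) l) ^ n = 0 := by
  obtain ⟨e, he⟩ : ∃ e : LinearMap.ker N, e ≠ 0 := by
    have : Nontrivial (LinearMap.ker N) := Module.nontrivial_of_finrank_pos (R := F) (by rw [h1]; norm_num)
    exact exists_ne 0
  have hck : ∀ v ∈ LinearMap.ker N, c v ∈ LinearMap.ker N := by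
    intro v hv
    rw [LinearMap.mem_ker] at hv ⊢
    rw [← Module.End.mul_apply, ← hc.eq, Module.End.mul_apply, hv, map_zero]
  obtain ⟨l, hl⟩ := (finrank_eq_one_iff_of_nonzero' e he).mp h1 ⟨c e, hck e e.2⟩
  refine ⟨l, ?_⟩
  set h := c - algebraMap F (Module.End F V) l with hh
  have hhN : Commute h N := hc.sub_left (Algebra.commute_algebraMap_left l N)
  have hker : ∀ v ∈ LinearMap.ker N, h v = 0 := by
    intro v hv
    obtain ⟨d, hd⟩ := (finrank_eq_one_iff_of_nonzero' e he).mp h1 ⟨v, hv⟩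
    have hd' : v = d • (e : V) := (congrArg Subtype.val hd).symm
    have hl' : l • (e : V) = c e := congrArg Subtype.val hl
    rw [hh, LinearMap.sub_apply, Module.algebraMap_end_apply, hd', map_smul, ← hl', smul_comm, sub_self]
  have key : ∀ i : ℕ, ∀ v, (N ^ i) v = 0 → (h ^ i) v = 0 := by
    intro i
    induction i with
    | zero => intro v hv; exact hv
    | succ i ih =>
      intro v hv
      rw [pow_succ, Module.End.mul_apply]
      apply ih
      rw [← Module.End.mul_apply, ← (hhN.pow_right i).eq, Module.End.mul_apply]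
      apply hker
      rw [LinearMap.mem_ker, ← Module.End.mul_apply, ← pow_succ', hv]
  apply LinearMap.ext
  intro v
  exact key n v (by rw [hN]; rfl)

/-- an endomorphism commuting with a regular nilpotent one is determined by one vector -/
theorem exists_cyclic {N : Module.End F V} {n : ℕ} (hN : N ^ n = 0) (h1 : finrank F (LinearMap.ker N) = 1) :
    ∃ v : V, ∀ c c' : Module.End F V, Commute c N → Commute c' N → c v = c' v → c = c' := by
  -- the image of `N` is a hyperplane
  have hrk := LinearMap.finrank_range_add_finrank_ker N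
  have hr : LinearMap.range N < ⊤ := by
    rw [lt_top_iff_ne_top]
    intro h
    rw [h, finrank_top, h1] at hrk
    omega
  obtain ⟨v, hv⟩ := SetLike.exists_of_lt hr
  refine ⟨v, ?_⟩
  intro c c' hc hc' hcc
  -- the submodule `E` where they agree
  let E : Submodule F V := LinearMap.eqLocus c c'
  have hE : ∀ w, w ∈ E ↔ c w = c' w := fun w => Iff.rfl
  have hNE : ∀ w ∈ E, N w ∈ E := by
    intro w hw
    rw [hE] at hw ⊢
    rw [← Module.End.mul_apply, ← Module.End.mul_apply, hc.eq, hc'.eq, Module.End.mul_apply, Module.End.mul_apply, hw]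
  -- `E + range N = ⊤`
  have hsup : E ⊔ LinearMap.range N = ⊤ := by
    apply Submodule.eq_top_of_finrank_eq
    have h2 : LinearMap.range N < E ⊔ LinearMap.range N := by
      refine lt_of_le_of_ne le_sup_right ?_
      intro h
      apply hv.2
      rw [h]
      exact Submodule.mem_sup_left ((hE v).2 hcc)
    have h3 := Submodule.finrank_lt_finrank_of_lt h2
    have h4 := Submodule.finrank_le (E ⊔ LinearMap.range N)
    omega
  have key : ∀ i : ℕ, ∀ w : V, ∃ e ∈ E, ∃ z : V, w = e + (N ^ i) z := by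
    intro i
    induction i with
    | zero => intro w; exact ⟨0, E.zero_mem, w, by rw [zero_add, pow_zero]; rfl⟩
    | succ i ih =>
      intro w
      obtain ⟨e, he, z, hz⟩ := ih w
      obtain ⟨e', he', _, ⟨z', rfl⟩, hz'⟩ := Submodule.mem_sup.1 (show z ∈ E ⊔ LinearMap.range N by
        rw [hsup]; exact Submodule.mem_top)
      have hNi : ∀ j : ℕ, (N ^ j) e' ∈ E := by
        intro j
        induction j with
        | zero => exact he'
        | succ j ih => rw [pow_succ', Module.End.mul_apply]; exact hNE _ ih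
      refine ⟨e + (N ^ i) e', E.add_mem he (hNi i), z', ?_⟩
      rw [hz, ← hz', map_add, ← add_assoc, pow_succ, Module.End.mul_apply]
  apply LinearMap.ext
  intro w
  obtain ⟨e, he, z, hz⟩ := key n w
  rw [hN, LinearMap.zero_apply, add_zero] at hz
  rw [hz]
  exact (hE e).1 he

end lin

section group

variable {F : Type u} {V : Type v} [Field F] [AddCommGroup V] [Module F V] [FiniteDimensional F V]

/-- **The centralizer of a regular unipotent element modulo the centre.** -/
theorem reg_card {H : Type*} [Group H] [Finite H] [Finite V] {p : ℕ} (hp : p.Prime) [CharP F p] [Nontrivial V]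
    (ρ : H →* Module.End F V) (hρ : Function.Injective ρ)
    (hZ : ∀ z ∈ Subgroup.center H, ∃ l : F, ρ z = algebraMap F (Module.End F V) l) (u : H) {n : ℕ}
    (hN : (ρ u - 1) ^ n = 0) (h1 : finrank F (LinearMap.ker (ρ u - 1)) = 1) :
    ∃ k, Nat.card (Subgroup.centralizer ({(QuotientGroup.mk u : H ⧸ Subgroup.center H)} :
      Set (H ⧸ Subgroup.center H))) = p ^ k ∧ p ^ k ≤ Nat.card V := by
  have := Fact.mk hp
  set N := ρ u - 1 with hNd
  have hu : ρ u = 1 + N := by rw [hNd]; abel
  -- elements commuting modulo the centre commute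
  have hcomm : ∀ c : H, (QuotientGroup.mk c : H ⧸ Subgroup.center H) ∈
      Subgroup.centralizer ({(QuotientGroup.mk u : H ⧸ Subgroup.center H)} : Set (H ⧸ Subgroup.center H)) →
      Commute (ρ c) N := by
    intro c hc
    rw [Subgroup.mem_centralizer_singleton_iff] at hc
    have hz : c * u * c⁻¹ * u⁻¹ ∈ Subgroup.center H := by
      rw [← QuotientGroup.eq_one_iff]
      show (QuotientGroup.mk c * QuotientGroup.mk u * (QuotientGroup.mk c)⁻¹ * (QuotientGroup.mk u)⁻¹ :
        H ⧸ Subgroup.center H) = 1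
      rw [hc]
      group
    set z := c * u * c⁻¹ * u⁻¹ with hzd
    obtain ⟨l, hl⟩ := hZ z hz
    -- `l = 1`
    have e1 : ρ c * ρ u = l • (ρ u * ρ c) := by
      have : c * u = z * (u * c) := by rw [hzd]; group
      rw [← map_mul, this, map_mul, hl, ← Algebra.smul_def, map_mul]
    have hcinj : Function.Injective (ρ c) := by
      intro a b hab
      have e2 : ρ c⁻¹ * ρ c = 1 := by rw [← map_mul, inv_mul_cancel, map_one]
      have e3 : ∀ v, ρ c⁻¹ (ρ c v) = v := fun v => by rw [← Module.End.mul_apply, e2]; rfl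
      rw [← e3 a, hab, e3 b]
    have hcsurj : Function.Surjective (ρ c) := LinearMap.surjective_of_injective hcinj
    have hl1 : l = 1 := by
      by_contra hne
      -- take a vector of the kernel of `N`
      obtain ⟨e, he⟩ : ∃ e : LinearMap.ker N, e ≠ 0 := by
        have : Nontrivial (LinearMap.ker N) := Module.nontrivial_of_finrank_pos (R := F) (by rw [h1]; norm_num)
        exact exists_ne 0
      obtain ⟨w, hw⟩ : ∃ w, ρ c w = ρ c e ∧ w = (e : V) := ⟨e, rfl, rfl⟩
      have hNe : N (e : V) = 0 := LinearMap.mem_ker.1 e.2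
      have e2 := LinearMap.congr_fun e1 (e : V)
      rw [Module.End.mul_apply, LinearMap.smul_apply, Module.End.mul_apply, hu, LinearMap.add_apply,
        Module.End.one_apply, hNe, add_zero, LinearMap.add_apply, Module.End.one_apply, smul_add] at e2
      -- `N (c e) = m (c e)`, `m = (1 - l) / l ≠ 0`
      set w := ρ c (e : V) with hwd
      have hw0 : w ≠ 0 := by
        intro h0
        apply he
        apply Subtype.ext
        apply hcinj
        rw [← hwd, h0]
        simp only [_root_.ZeroMemClass.coe_zero, _root_.map_zero]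
      have hl0 : l ≠ 0 := by
        rintro rfl
        rw [zero_smul, zero_smul, add_zero] at e2
        exact hw0 e2
      have e3 : N w = (l⁻¹ * (1 - l)) • w := by
        have e4 : l • N w = (1 - l) • w := by
          rw [sub_smul, one_smul]
          nth_rw 2 [e2]
          abel
        rw [mul_smul, ← e4, smul_smul, inv_mul_cancel₀ hl0, one_smul]
      have e5 : ∀ i : ℕ, (N ^ i) w = (l⁻¹ * (1 - l)) ^ i • w := by
        intro i
        induction i with
        | zero => simp
        | succ i ih => rw [pow_succ, Module.End.mul_apply, e3, map_smul, ih, smul_smul, ← pow_succ']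
      have e6 := e5 n
      rw [hN, LinearMap.zero_apply] at e6
      have e7 : (l⁻¹ * (1 - l)) ^ n = 0 := (smul_eq_zero.1 e6.symm).resolve_right hw0
      have hn0 : n ≠ 0 := by
        rintro rfl
        rw [pow_zero] at e7
        exact one_ne_zero e7
      have e8 : l⁻¹ * (1 - l) = 0 := (pow_eq_zero_iff hn0).1 e7
      rcases mul_eq_zero.1 e8 with h | h
      · exact inv_ne_zero hl0 h
      · exact hne (sub_eq_zero.1 h).symm
    rw [hl1, one_smul] at e1
    rw [hNd]
    exact (show Commute (ρ c) (ρ u) from e1).sub_right (Commute.one_right _)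
  -- scalars are central
  have hscal : ∀ c : H, (∃ l : F, ρ c = algebraMap F (Module.End F V) l) → c ∈ Subgroup.center H := by
    rintro c ⟨l, hl⟩
    rw [Subgroup.mem_center_iff]
    intro g
    apply hρ
    rw [map_mul, map_mul, hl]
    exact (Algebra.commutes l (ρ g)).symm
  have hpg : IsPGroup p (Subgroup.centralizer ({(QuotientGroup.mk u : H ⧸ Subgroup.center H)} :
      Set (H ⧸ Subgroup.center H))) := by
    rintro ⟨c', hc'⟩
    obtain ⟨c, rfl⟩ := QuotientGroup.mk_surjective c'
    obtain ⟨l, hl⟩ := exists_scalar_add hN h1 (hcomm c hc')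
    have hnp : n ≤ p ^ n := (Nat.lt_pow_self hp.one_lt).le
    refine ⟨n, Subtype.ext ?_⟩
    show (QuotientGroup.mk c : H ⧸ Subgroup.center H) ^ p ^ n = 1
    rw [← QuotientGroup.mk_pow, QuotientGroup.eq_one_iff]
    apply hscal
    refine ⟨l ^ p ^ n, ?_⟩
    have h2 : (ρ c - algebraMap F (Module.End F V) l) ^ p ^ n = 0 := by
      rw [← Nat.sub_add_cancel hnp, pow_add, hl, mul_zero]
    haveI : CharP (Module.End F V) p := charP_of_injective_algebraMap (algebraMap F (Module.End F V)).injective p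
    rw [sub_pow_char_pow_of_commute (p := p) n (Algebra.commute_algebraMap_right l (ρ c))] at h2
    rw [map_pow, map_pow]
    exact sub_eq_zero.1 h2
  obtain ⟨k, hk⟩ := IsPGroup.iff_card.1 hpg
  refine ⟨k, hk, ?_⟩
  rw [← hk]
  obtain ⟨v, hv⟩ := exists_cyclic hN h1
  apply Nat.card_le_card_of_injective (fun c : Subgroup.centralizer ({(QuotientGroup.mk u : H ⧸ Subgroup.center H)} :
    Set (H ⧸ Subgroup.center H)) => ρ (Quotient.out (c : H ⧸ Subgroup.center H)) v)
  intro a b hab
  have ha : (QuotientGroup.mk (Quotient.out (a : H ⧸ Subgroup.center H)) : H ⧸ Subgroup.center H) = a :=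
    QuotientGroup.out_eq' _
  have hb : (QuotientGroup.mk (Quotient.out (b : H ⧸ Subgroup.center H)) : H ⧸ Subgroup.center H) = b :=
    QuotientGroup.out_eq' _
  have h2 := hv _ _ (hcomm _ (ha.symm ▸ a.2)) (hcomm _ (hb.symm ▸ b.2)) hab
  apply Subtype.ext
  rw [← ha, ← hb, hρ h2]

end group

/-! ### `PSL_n` -/

section psl

variable {F : Type u} [Field F] [Fintype F] {p f n : ℕ}

/-- the shift matrix -/
def shift (F : Type u) [Field F] (n : ℕ) : Matrix (Fin n) (Fin n) F :=
  Matrix.of fun i j => if (j : ℕ) = i + 1 then 1 else 0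

omit [Fintype F] in
theorem shift_apply (i j : Fin n) : shift F n i j = if (j : ℕ) = i + 1 then 1 else 0 := rfl

omit [Fintype F] in
theorem shift_mulVec (v : Fin n → F) (i : Fin n) :
    (shift F n *ᵥ v) i = if h : (i : ℕ) + 1 < n then v ⟨i + 1, h⟩ else 0 := by
  rw [Matrix.mulVec, dotProduct]
  split_ifs with h
  · rw [Finset.sum_eq_single ⟨i + 1, h⟩]
    · rw [shift_apply]; simp
    · intro j _ hj
      rw [shift_apply, if_neg (fun h' => hj (Fin.ext h')), zero_mul]
    · intro h'; exact absurd (Finset.mem_univ _) h'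
  · apply Finset.sum_eq_zero
    intro j _
    rw [shift_apply, if_neg (by have := j.2; omega), zero_mul]

omit [Fintype F] in
theorem det_one_add_shift : (1 + shift F n).det = 1 := by
  rw [Matrix.det_of_isUpperTriangular]
  · apply Finset.prod_eq_one
    intro i _
    rw [Matrix.add_apply, Matrix.one_apply_eq, shift_apply, if_neg (by omega), add_zero]
  · intro i j hij
    have hij' : (j : ℕ) < i := hij
    rw [Matrix.add_apply, Matrix.one_apply_ne (by rintro rfl; omega), shift_apply, if_neg (by omega), add_zero]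

omit [Fintype F] in
theorem shift_app (v : Fin n → F) (i : Fin n) : (Matrix.toLinAlgEquiv' (shift F n)) v i =
    if h : (i : ℕ) + 1 < n then v ⟨i + 1, h⟩ else 0 := by
  rw [Matrix.toLinAlgEquiv'_apply, shift_mulVec]

omit [Fintype F] in
theorem shift_pow_app (k : ℕ) : ∀ (v : Fin n → F) (i : Fin n), ((Matrix.toLinAlgEquiv' (shift F n)) ^ k) v i =
    if h : (i : ℕ) + k < n then v ⟨i + k, h⟩ else 0 := by
  induction k with
  | zero => intro v i; rw [pow_zero, dif_pos (by simp)]; rfl
  | succ k ih =>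
    intro v i
    rw [pow_succ, Module.End.mul_apply, ih]
    split_ifs with h h' h'
    · rw [shift_app, dif_pos (by show (i : ℕ) + k + 1 < n; omega)]
      congr 1
    · rw [shift_app, dif_neg (by show ¬ (i : ℕ) + k + 1 < n; omega)]
    · omega
    · rfl

omit [Fintype F] in
theorem shift_pow : (Matrix.toLinAlgEquiv' (shift F n)) ^ n = 0 := by
  apply LinearMap.ext
  intro v
  funext i
  rw [shift_pow_app, dif_neg (by omega)]
  rfl

omit [Fintype F] in
theorem finrank_ker_shift (hn : 1 ≤ n) : finrank F (LinearMap.ker (Matrix.toLinAlgEquiv' (shift F n))) = 1 := by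
  let e : Fin n → F := Pi.single ⟨0, by omega⟩ 1
  have he : e ∈ LinearMap.ker (Matrix.toLinAlgEquiv' (shift F n)) := by
    rw [LinearMap.mem_ker]
    funext i
    rw [shift_app]
    split_ifs
    · exact Pi.single_eq_of_ne (fun h => by simpa using congrArg Fin.val h) _
    · rfl
  have he0 : (⟨e, he⟩ : LinearMap.ker (Matrix.toLinAlgEquiv' (shift F n))) ≠ 0 := by
    intro h
    have h2 := congrFun (congrArg Subtype.val h) ⟨0, by omega⟩
    have h3 : e ⟨0, by omega⟩ = 1 := Pi.single_eq_same _ _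
    rw [show (((⟨e, he⟩ : LinearMap.ker (Matrix.toLinAlgEquiv' (shift F n))) : Fin n → F)) = e from rfl, h3] at h2
    exact one_ne_zero h2
  rw [finrank_eq_one_iff_of_nonzero' _ he0]
  rintro ⟨w, hw⟩
  refine ⟨w ⟨0, by omega⟩, Subtype.ext ?_⟩
  funext i
  show w ⟨0, by omega⟩ * e i = w i
  by_cases hi : (i : ℕ) = 0
  · have : i = ⟨0, by omega⟩ := Fin.ext hi
    rw [this]
    show _ * (Pi.single (⟨0, by omega⟩ : Fin n) (1 : F) : Fin n → F) _ = _
    rw [Pi.single_eq_same, mul_one]
  · have h2 : e i = 0 := Pi.single_eq_of_ne (fun h => hi (by rw [h])) _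
    rw [h2, mul_zero]
    have h3 := congrFun (LinearMap.mem_ker.1 hw) ⟨(i : ℕ) - 1, by omega⟩
    rw [shift_app, dif_pos (by show (i : ℕ) - 1 + 1 < n; omega)] at h3
    rw [Pi.zero_apply] at h3
    rw [← h3]
    congr 1
    apply Fin.ext
    show (i : ℕ) - 1 + 1 = (i : ℕ)
    omega

/-- the regular unipotent element -/
noncomputable def regU (F : Type u) [Field F] (n : ℕ) : _root_.Matrix.SpecialLinearGroup (Fin n) F := ⟨1 + shift F n, det_one_add_shift⟩

omit [Fintype F] in
theorem act_regU : act (regU F n) - 1 = Matrix.toLinAlgEquiv' (shift F n) := by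
  rw [act_apply]
  show Matrix.toLinAlgEquiv' (1 + shift F n) - 1 = _
  rw [map_add, map_one, add_sub_cancel_left]

/-- **REG for `PSL_n`.** -/
theorem reg_psl (hp : p.Prime) (hf : 1 ≤ f) (hF : Fintype.card F = p ^ f) (hn : 1 ≤ n) :
    ∃ k, p ^ k ∈ Co (ProjectiveSpecialLinearGroup (Fin n) F) ∧ p ^ k ≤ (p ^ f) ^ n := by
  have := Fact.mk hp
  have hchar : CharP F p := by
    obtain ⟨p', hp'⟩ := CharP.exists F
    obtain ⟨j, hpr, hj⟩ := FiniteField.card F p'
    rw [hF] at hj
    have h1 : p ∣ p' ^ (j : ℕ) := hj ▸ dvd_pow_self p (by omega)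
    have h2 := (Nat.prime_dvd_prime_iff_eq hp hpr).1 (hp.dvd_of_dvd_pow h1)
    rw [h2]; exact hp'
  have hne : Nonempty (Fin n) := ⟨⟨0, by omega⟩⟩
  have : Nontrivial (Fin n → F) := Function.nontrivial
  obtain ⟨k, hk1, hk2⟩ := reg_card hp act act_injective (fun z hz => by
    obtain ⟨c, hc⟩ := act_center hz
    exact ⟨c, by rw [hc, Algebra.algebraMap_eq_smul_one]⟩) (regU F n) (n := n)
    (by rw [act_regU]; exact shift_pow) (by rw [act_regU]; exact finrank_ker_shift hn)
  have hV : Nat.card (Fin n → F) = (p ^ f) ^ n := by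
    rw [Nat.card_fun, Nat.card_eq_fintype_card, hF, Nat.card_eq_fintype_card, Fintype.card_fin]
  rw [hV] at hk2
  exact ⟨k, hk1 ▸ mem_co (G := ProjectiveSpecialLinearGroup (Fin n) F) (pr F n (regU F n)), hk2⟩

end psl

/-! ### `PSU_n` -/

section psu

variable {F : Type u} [Field F] [Fintype F] {p f n : ℕ}

/-- the action of `SU_n` -/
noncomputable def actU (n : ℕ) (F : Type u) [Field F] (q : ℕ) : SU n F q →* Module.End F (Fin n → F) :=
  act.comp (SU n F q).subtype

omit [Fintype F] in
theorem actU_injective (q : ℕ) : Function.Injective (actU n F q) := by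
  intro a b h
  exact Subtype.ext (act_injective h)

theorem actU_center {q : ℕ} (hF : Fintype.card F = q ^ 2) (hn : 3 ≤ n) {z : SU n F q}
    (hz : z ∈ Subgroup.center (SU n F q)) : ∃ l : F, actU n F q z = algebraMap F (Module.End F (Fin n → F)) l := by
  obtain ⟨c, h1, h2, h3⟩ := (Cfsg.Agent.LieClassical.SUBasic.mem_center_SU_iff hF hn z).1 hz
  refine ⟨c, ?_⟩
  have h4 : ((z : _root_.Matrix.SpecialLinearGroup (Fin n) F) : Matrix (Fin n) (Fin n) F) = c • (1 : Matrix (Fin n) (Fin n) F) := by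
    rw [h3, Matrix.smul_one_eq_diagonal]
    rfl
  show act (z : _root_.Matrix.SpecialLinearGroup (Fin n) F) = _
  rw [act_apply, h4, map_smul, map_one, Algebra.algebraMap_eq_smul_one]

/-- **REG for `PSU_n`.** -/
theorem reg_psu (hp : p.Prime) (hf : 1 ≤ f) (hF : Fintype.card F = (p ^ f) ^ 2) (hn : 3 ≤ n) :
    ∃ k, p ^ k ∈ Co (PSU n F (p ^ f)) ∧ p ^ k ≤ ((p ^ f) ^ 2) ^ n := by
  have := Fact.mk hp
  have hchar : CharP F p := by
    obtain ⟨p', hp'⟩ := CharP.exists F
    obtain ⟨j, hpr, hj⟩ := FiniteField.card F p'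
    rw [hF, ← pow_mul] at hj
    have h1 : p ∣ p' ^ (j : ℕ) := hj ▸ dvd_pow_self p (by omega)
    have h2 := (Nat.prime_dvd_prime_iff_eq hp hpr).1 (hp.dvd_of_dvd_pow h1)
    rw [h2]; exact hp'
  have hne : Nonempty (Fin n) := ⟨⟨0, by omega⟩⟩
  have : Nontrivial (Fin n → F) := Function.nontrivial
  have hcard := S2643.result hF (n := n) (by omega)
  have hpos : 0 < Nat.gcd n (p ^ f + 1) := Nat.gcd_pos_of_pos_left _ (by omega)
  rw [← hcard] at hpos
  obtain ⟨⟨C, u, -, hu1, hu2⟩⟩ := (Nat.card_pos_iff.1 hpos).1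
  have hN : actU n F (p ^ f) u - 1 = Matrix.toLinAlgEquiv' (((u : GL (Fin n) F) : Matrix (Fin n) (Fin n) F) - 1) := by
    rw [map_sub, map_one]
    rfl
  obtain ⟨k, hk1, hk2⟩ := reg_card hp (actU n F (p ^ f)) (actU_injective _) (fun z hz => actU_center hF hn hz) u (n := n)
    (by rw [hN, ← map_pow, hu1, map_zero]) (by
      rw [hN]
      have h1 := LinearMap.finrank_range_add_finrank_ker
        (Matrix.toLinAlgEquiv' (((u : GL (Fin n) F) : Matrix (Fin n) (Fin n) F) - 1))
      have h2 : finrank F (LinearMap.range (Matrix.toLinAlgEquiv' (((u : GL (Fin n) F) : Matrix (Fin n) (Fin n) F) - 1))) =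
          n - 1 := hu2
      rw [h2, finrank_fin_fun] at h1
      omega)
  have hV : Nat.card (Fin n → F) = ((p ^ f) ^ 2) ^ n := by
    rw [Nat.card_fun, Nat.card_eq_fintype_card, hF, Nat.card_eq_fintype_card, Fintype.card_fin]
  rw [hV] at hk2
  exact ⟨k, hk1 ▸ mem_co (G := PSU n F (p ^ f)) (QuotientGroup.mk u), hk2⟩

end psu

end Cfsg.Agent.H277.CS
end

-- part: H277/CS/Comm2
section
/-!
# Commutants over the field with two elements
-/

set_option autoImplicit false

namespace Cfsg.Agent.H277.CS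

open Module

universe u v

section general

variable {F : Type u} {V : Type v} [Field F] [AddCommGroup V] [Module F V] [FiniteDimensional F V]

/-- the commutant as a subspace -/
def comm (x : Module.End F V) : Submodule F (Module.End F V) where
  carrier := {c | Commute c x}
  add_mem' := fun ha hb => ha.add_left hb
  zero_mem' := Commute.zero_left x
  smul_mem' := fun a _ hc => hc.smul_left a

omit [FiniteDimensional F V] in
theorem mem_comm {x c : Module.End F V} : c ∈ comm x ↔ Commute c x := Iff.rfl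

/-- the maps vanishing on `W` -/
def van (W : Submodule F V) : Submodule F (Module.End F V) where
  carrier := {c | ∀ w ∈ W, c w = 0}
  add_mem' := fun ha hb w hw => by rw [LinearMap.add_apply, ha w hw, hb w hw, add_zero]
  zero_mem' := fun w _ => rfl
  smul_mem' := fun a c hc w hw => by rw [LinearMap.smul_apply, hc w hw, smul_zero]

omit [FiniteDimensional F V] in
theorem mem_van {W : Submodule F V} {c : Module.End F V} : c ∈ van W ↔ ∀ w ∈ W, c w = 0 := Iff.rfl

theorem finrank_van (W : Submodule F V) :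
    finrank F (van W) + finrank F W * finrank F V = finrank F V * finrank F V := by
  let res : Module.End F V →ₗ[F] (W →ₗ[F] V) := LinearMap.lcomp F V W.subtype
  have hker : LinearMap.ker res = van W := by
    ext c
    rw [LinearMap.mem_ker, mem_van]
    constructor
    · intro h w hw
      exact LinearMap.congr_fun h ⟨w, hw⟩
    · intro h
      apply LinearMap.ext
      rintro ⟨w, hw⟩
      exact h w hw
  have hsurj : LinearMap.range res = ⊤ := by
    rw [LinearMap.range_eq_top]
    intro g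
    obtain ⟨g', hg'⟩ := LinearMap.exists_extend g
    exact ⟨g', hg'⟩
  have h1 := LinearMap.finrank_range_add_finrank_ker res
  rw [hker, hsurj, finrank_top, Module.finrank_linearMap, Module.finrank_linearMap] at h1
  omega

omit [FiniteDimensional F V] in
/-- a map vanishing on `W` and not commuting with `x` -/
theorem exists_not_commute {x : Module.End F V} (hx : ∀ a : F, ∃ u : V, x u ≠ a • u) {W : Submodule F V} (hW : W ≠ ⊤) :
    ∃ c ∈ van W, c ∉ comm x := by
  obtain ⟨φ, hφ, hφW⟩ := Submodule.exists_le_ker_of_lt_top W (lt_top_iff_ne_top.2 hW)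
  obtain ⟨z, hz⟩ : ∃ z, φ z = 1 := by
    obtain ⟨z, hz⟩ : ∃ z, φ z ≠ 0 := by
      by_contra h
      push Not at h
      exact hφ (LinearMap.ext h)
    exact ⟨(φ z)⁻¹ • z, by rw [map_smul, smul_eq_mul, inv_mul_cancel₀ hz]⟩
  obtain ⟨u, hu⟩ := hx (φ (x z))
  refine ⟨φ.smulRight u, ?_, ?_⟩
  · intro w hw
    rw [LinearMap.smulRight_apply, LinearMap.mem_ker.1 (hφW hw), zero_smul]
  · intro h
    apply hu
    have h2 := LinearMap.congr_fun (mem_comm.1 h).eq z
    rw [Module.End.mul_apply, Module.End.mul_apply, LinearMap.smulRight_apply, LinearMap.smulRight_apply, hz,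
      one_smul] at h2
    exact h2.symm

/-- **The dimension bound.** -/
theorem finrank_comm_le {x : Module.End F V} (hx : ∀ a : F, ∃ u : V, x u ≠ a • u) {r : ℕ} (v : Fin r → V)
    {W : Submodule F V} (hW : W ≠ ⊤) (hv : ∀ c : Module.End F V, Commute c x → (∀ i, c (v i) = 0) → ∀ w ∈ W, c w = 0) :
    finrank F (comm x) + finrank F W * finrank F V + 1 ≤ r * finrank F V + finrank F V * finrank F V := by
  let ev : comm x →ₗ[F] (Fin r → V) :=
    { toFun := fun c i => (c : Module.End F V) (v i)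
      map_add' := fun _ _ => rfl
      map_smul' := fun _ _ => rfl }
  have h1 := LinearMap.finrank_range_add_finrank_ker ev
  have h2 : finrank F (LinearMap.range ev) ≤ r * finrank F V := by
    have := Submodule.finrank_le (LinearMap.range ev)
    rwa [Module.finrank_pi_fintype, Finset.sum_const, Finset.card_univ, Fintype.card_fin, smul_eq_mul] at this
  have h3 : finrank F (LinearMap.ker ev) < finrank F (van W) := by
    have h4 : (LinearMap.ker ev).map (comm x).subtype < van W := by
      refine lt_of_le_of_ne ?_ ?_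
      · rintro _ ⟨⟨c, hc⟩, hc', rfl⟩
        have h5 : ev ⟨c, hc⟩ = 0 := hc'
        exact hv c hc (fun i => congrFun h5 i)
      · intro h
        obtain ⟨c, hc1, hc2⟩ := exists_not_commute hx hW
        rw [← h] at hc1
        obtain ⟨⟨c', hc'⟩, -, rfl⟩ := hc1
        exact hc2 hc'
    have h5 := Submodule.finrank_lt_finrank_of_lt h4
    rwa [LinearEquiv.finrank_eq ((comm x).equivSubtypeMap (LinearMap.ker ev)).symm] at h5
  have h4 := finrank_van W
  omega

end general

section two

variable {F : Type u} {V : Type v} [Field F] [AddCommGroup V] [Module F V] [FiniteDimensional F V]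

omit [FiniteDimensional F V] in
theorem exists_not_mem_two {p q : Submodule F V} (hp : p ≠ ⊤) (hq : q ≠ ⊤) : ∃ v, v ∉ p ∧ v ∉ q := by
  obtain ⟨a, -, ha⟩ := SetLike.exists_of_lt (lt_top_iff_ne_top.2 hp)
  obtain ⟨b, -, hb⟩ := SetLike.exists_of_lt (lt_top_iff_ne_top.2 hq)
  by_cases h1 : a ∈ q
  · by_cases h2 : b ∈ p
    · refine ⟨a + b, fun h => ha ?_, fun h => hb ?_⟩
      · have := p.sub_mem h h2
        rwa [add_sub_cancel_right] at this
      · have := q.sub_mem h h1
        rwa [add_sub_cancel_left] at this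
    · exact ⟨b, h2, hb⟩
  · exact ⟨a, ha, h1⟩

theorem range_one {α : Type*} (a : α) : Set.range ![a] = {a} := by
  ext z
  simp

theorem range_two {α : Type*} (a b : α) : Set.range ![a, b] = {a, b} := by
  ext z
  simp only [Matrix.range_cons, Matrix.range_empty, Set.union_empty, Set.mem_union, Set.mem_singleton_iff,
    Set.mem_insert_iff]

theorem range_three {α : Type*} (a b c : α) : Set.range ![a, b, c] = {a, b, c} := by
  rw [show ![a, b, c] = Matrix.vecCons a ![b, c] from rfl, Matrix.range_cons, range_two]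
  rfl

/-- **Commutants over the field with two elements.** -/
theorem finrank_comm_le_two (h2 : ∀ a : F, a = 0 ∨ a = 1) (hn : 5 ≤ finrank F V) {x : Module.End F V}
    (hinj : Function.Injective x) (hr : 2 ≤ finrank F (LinearMap.range (x - 1))) :
    finrank F (comm x) + 2 * finrank F V + 1 ≤ finrank F V * finrank F V := by
  have hns : ∀ a : F, ∃ u : V, x u ≠ a • u := by
    intro a
    by_contra h
    push Not at h
    rcases h2 a with rfl | rfl
    · have : Nontrivial V := Module.nontrivial_of_finrank_pos (R := F) (by omega)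
      obtain ⟨w, hw⟩ := exists_ne (0 : V)
      apply hw
      apply hinj
      rw [h, zero_smul, map_zero]
    · have h1 : x - 1 = 0 := by
        apply LinearMap.ext
        intro u
        rw [LinearMap.sub_apply, h, one_smul, Module.End.one_apply, sub_self]
        rfl
      rw [h1, LinearMap.range_zero, finrank_bot] at hr
      omega
  by_cases hc : ∃ v, x v ∉ Submodule.span F {v} ∧ x (x v) ∉ Submodule.span F {x v, v}
  · -- a cyclic subspace of dimension three
    obtain ⟨v, hv1, hv2⟩ := hc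
    have hv0 : v ≠ 0 := by
      rintro rfl
      apply hv1
      rw [map_zero]
      exact Submodule.zero_mem _
    have hli0 : LinearIndependent F ![v] := LinearIndependent.of_subsingleton (0 : Fin 1) hv0
    have hli1 : LinearIndependent F ![x v, v] := linearIndependent_finCons.2 ⟨hli0, by rwa [range_one]⟩
    have hli : LinearIndependent F ![x (x v), x v, v] := linearIndependent_finCons.2 ⟨hli1, by rwa [range_two]⟩
    set W := Submodule.span F (Set.range ![x (x v), x v, v]) with hW
    have hWf : finrank F W = 3 := by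
      rw [hW, finrank_span_eq_card hli, Fintype.card_fin]
    have hWt : W ≠ ⊤ := by
      intro h
      rw [h, finrank_top] at hWf
      omega
    have key := finrank_comm_le hns (r := 1) (fun _ => v) hWt (by
      intro c hc hcv w hw
      have hcv' : c v = 0 := hcv 0
      have hcx : c (x v) = 0 := by
        rw [← Module.End.mul_apply, hc.eq, Module.End.mul_apply, hcv', map_zero]
      have hcxx : c (x (x v)) = 0 := by
        rw [← Module.End.mul_apply, hc.eq, Module.End.mul_apply, hcx, map_zero]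
      have : W ≤ LinearMap.ker c := by
        rw [hW, Submodule.span_le]
        rintro _ ⟨i, rfl⟩
        rw [SetLike.mem_coe, LinearMap.mem_ker]
        fin_cases i
        · exact hcxx
        · exact hcx
        · exact hcv'
      exact LinearMap.mem_ker.1 (this hw))
    rw [hWf] at key
    omega
  · push Not at hc
    -- choose `v1`
    obtain ⟨v1, hv1f, hv1r⟩ : ∃ v1, x v1 ≠ v1 ∧ (LinearMap.range (x - 1) = ⊤ ∨ v1 ∉ LinearMap.range (x - 1)) := by
      by_cases ht : LinearMap.range (x - 1) = ⊤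
      · obtain ⟨u, hu⟩ := hns 1
        exact ⟨u, by rwa [one_smul] at hu, Or.inl ht⟩
      · obtain ⟨v, hv, hv'⟩ := exists_not_mem_two (p := LinearMap.ker (x - 1)) (q := LinearMap.range (x - 1)) (by
          intro h
          rw [LinearMap.ker_eq_top] at h
          rw [h, LinearMap.range_zero, finrank_bot] at hr
          omega) ht
        refine ⟨v, fun h => hv ?_, Or.inr hv'⟩
        rw [LinearMap.mem_ker, LinearMap.sub_apply, h, Module.End.one_apply, sub_self]
    have hv10 : v1 ≠ 0 := by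
      rintro rfl
      exact hv1f (map_zero x)
    have hxv10 : x v1 ≠ 0 := by
      intro h
      apply hv10
      apply hinj
      rw [h, map_zero]
    have hv1s : x v1 ∉ Submodule.span F {v1} := by
      rw [Submodule.mem_span_singleton]
      rintro ⟨a, ha⟩
      rcases h2 a with rfl | rfl
      · rw [zero_smul] at ha; exact hxv10 ha.symm
      · rw [one_smul] at ha; exact hv1f ha.symm
    set U := Submodule.span F {x v1, v1} with hU
    have hv1U : v1 ∈ U := Submodule.subset_span (by simp)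
    have hxv1U : x v1 ∈ U := Submodule.subset_span (by simp)
    have hxxU : x (x v1) ∈ U := hc v1 hv1s
    have hxU : U ≤ U.comap x := by
      rw [hU, Submodule.span_le]
      rintro w hw
      rw [Set.mem_insert_iff, Set.mem_singleton_iff] at hw
      rcases hw with rfl | rfl
      · exact hxxU
      · exact hxv1U
    have hli0 : LinearIndependent F ![v1] := LinearIndependent.of_subsingleton (0 : Fin 1) hv10
    have hli1 : LinearIndependent F ![x v1, v1] := linearIndependent_finCons.2 ⟨hli0, by rwa [range_one]⟩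
    have hUf : finrank F U = 2 := by
      have h3 : U = Submodule.span F (Set.range ![x v1, v1]) := by
        rw [hU, range_two]
      rw [h3, finrank_span_eq_card hli1, Fintype.card_fin]
    have hUmap : U.map x = U := by
      apply Submodule.eq_of_le_of_finrank_eq (Submodule.map_le_iff_le_comap.2 hxU)
      exact (Submodule.equivMapOfInjective x hinj U).finrank_eq.symm
    obtain ⟨v2, hv2U, hv2x⟩ : ∃ v2, v2 ∉ U ∧ x v2 ∉ Submodule.span F {v2, x v1, v1} := by
      by_contra hcon
      push Not at hcon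
      have hle : LinearMap.range (x - 1) ≤ U := by
        rintro _ ⟨v, rfl⟩
        by_cases hvU : v ∈ U
        · exact U.sub_mem (hxU hvU) hvU
        · have h3 := hcon v hvU
          rw [Submodule.mem_span_insert] at h3
          obtain ⟨a, z, hz, hxz⟩ := h3
          rcases h2 a with rfl | rfl
          · exfalso
            rw [zero_smul, zero_add] at hxz
            have h4 : x v ∈ U.map x := by rw [hUmap, hxz]; exact hz
            obtain ⟨w, hw, hwv⟩ := h4
            exact hvU (hinj hwv ▸ hw)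
          · rw [one_smul] at hxz
            rw [LinearMap.sub_apply, Module.End.one_apply, hxz, add_sub_cancel_left]
            exact hz
      have heq : LinearMap.range (x - 1) = U := by
        apply Submodule.eq_of_le_of_finrank_le hle
        rw [hUf]; exact hr
      rcases hv1r with h | h
      · rw [h] at heq
        rw [← heq, finrank_top] at hUf
        omega
      · exact h (heq ▸ hv1U)
    have hli1' : LinearIndependent F ![v2, x v1, v1] := linearIndependent_finCons.2 ⟨hli1, by rwa [range_two]⟩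
    have hli2 : LinearIndependent F ![x v2, v2, x v1, v1] :=
      linearIndependent_finCons.2 ⟨hli1', by rwa [range_three]⟩
    set W := Submodule.span F (Set.range ![x v2, v2, x v1, v1]) with hW
    have hWf : finrank F W = 4 := by
      rw [hW, finrank_span_eq_card hli2, Fintype.card_fin]
    have hWt : W ≠ ⊤ := by
      intro h
      rw [h, finrank_top] at hWf
      omega
    have key := finrank_comm_le hns (r := 2) ![v1, v2] hWt (by
      intro c hc hcv w hw
      have hc1 : c v1 = 0 := hcv 0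
      have hc2 : c v2 = 0 := hcv 1
      have hcx1 : c (x v1) = 0 := by
        rw [← Module.End.mul_apply, hc.eq, Module.End.mul_apply, hc1, map_zero]
      have hcx2 : c (x v2) = 0 := by
        rw [← Module.End.mul_apply, hc.eq, Module.End.mul_apply, hc2, map_zero]
      have : W ≤ LinearMap.ker c := by
        rw [hW, Submodule.span_le]
        rintro _ ⟨i, rfl⟩
        rw [SetLike.mem_coe, LinearMap.mem_ker]
        fin_cases i
        · exact hcx2
        · exact hc2
        · exact hcx1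
        · exact hc1
      exact LinearMap.mem_ker.1 (this hw))
    rw [hWf] at key
    omega

end two

end Cfsg.Agent.H277.CS
end

-- part: H277/CS/Two67
section
/-!
# S3677: `PSL_6(2)` and `PSL_7(2)`: `O_2(G) = 1`
-/

set_option autoImplicit false
set_option linter.style.haveILetI false

namespace Cfsg.Agent.H277.CS

open Matrix Module Cfsg Cfsg.Agent.H363.PslSpec Cfsg.Agent.H370.AAM Cfsg.Agent.H431.CS Cfsg.Agent.H364

universe u v

section cls

variable {F : Type v} [Field F] [Fintype F] {n : ℕ}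

theorem eq_zero_or_one (hF : Fintype.card F = 2) (a : F) : a = 0 ∨ a = 1 := by
  classical
  by_contra h
  push Not at h
  have h1 : ({0, 1, a} : Finset F).card ≤ Fintype.card F := Finset.card_le_univ _
  have h2 : ({0, 1, a} : Finset F).card = 3 := by
    rw [Finset.card_eq_three]
    exact ⟨0, 1, a, zero_ne_one, h.1.symm, h.2.symm, rfl⟩
  omega

theorem card_cent_two (hF : Fintype.card F = 2) (hn : 1 ≤ n) (g : _root_.Matrix.SpecialLinearGroup (Fin n) F) :
    Nat.card (Subgroup.centralizer ({pr F n g} : Set (ProjectiveSpecialLinearGroup (Fin n) F))) =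
      Nat.card (Subgroup.centralizer ({g} : Set (_root_.Matrix.SpecialLinearGroup (Fin n) F))) := by
  obtain ⟨e, he, h⟩ := card_cent_psl (F := F) hn g
  have h1 : Nat.gcd n (Nat.card F - 1) = 1 := by rw [Nat.card_eq_fintype_card, hF]; simp
  rw [h1, Nat.dvd_one] at he
  rw [h1, he, mul_one, mul_one] at h
  exact h

/-- transvections -/
theorem card_cent_transvection (hF : Fintype.card F = 2) (hn : 2 ≤ n) (g : _root_.Matrix.SpecialLinearGroup (Fin n) F)
    (h : (act g - 1) ^ 2 = 0) (hr : finrank F (LinearMap.range (act g - 1)) = 1) :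
    Nat.card (Subgroup.centralizer ({g} : Set (_root_.Matrix.SpecialLinearGroup (Fin n) F))) =
      2 ^ (2 * n - 3) * ∏ i : Fin (n - 2), (2 ^ (n - 2) - 2 ^ (i : ℕ)) := by
  let t : GL (Fin n) F := SpecialLinearGroup.toGL g
  have hmat : act g - 1 = Matrix.toLinAlgEquiv' ((t : Matrix (Fin n) (Fin n) F) - 1) := by
    rw [map_sub, map_one]
    rfl
  have ht : IsTransvection (t : Matrix (Fin n) (Fin n) F) := by
    refine ⟨?_, ?_⟩
    · rw [← hr, hmat]
      rfl
    · rw [hmat, ← map_pow, pow_two] at h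
      have h2 := (Matrix.toLinAlgEquiv' : Matrix (Fin n) (Fin n) F ≃ₐ[F] _).injective (h.trans (map_zero _).symm)
      exact h2
  have key := S2572.result hF hn t ht
  have e1 : (2 : ℕ) - 1 = 1 := rfl
  rw [e1, mul_one] at key
  rw [← key]
  let φ : Subgroup.centralizer ({g} : Set (_root_.Matrix.SpecialLinearGroup (Fin n) F)) →
      Subgroup.centralizer ({t} : Set (GL (Fin n) F)) := fun b =>
    ⟨SpecialLinearGroup.toGL (b : _root_.Matrix.SpecialLinearGroup (Fin n) F), by
      rw [Subgroup.mem_centralizer_singleton_iff]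
      have := Subgroup.mem_centralizer_singleton_iff.1 b.2
      show SpecialLinearGroup.toGL (b : _root_.Matrix.SpecialLinearGroup (Fin n) F) * SpecialLinearGroup.toGL g =
        SpecialLinearGroup.toGL g * SpecialLinearGroup.toGL (b : _root_.Matrix.SpecialLinearGroup (Fin n) F)
      rw [← map_mul, this, map_mul]⟩
  apply Nat.card_eq_of_bijective φ
  have hinj : Function.Injective (SpecialLinearGroup.toGL : _root_.Matrix.SpecialLinearGroup (Fin n) F →* GL (Fin n) F) := by
    intro a b hab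
    apply Subtype.ext
    exact congrArg (fun z : GL (Fin n) F => (z : Matrix (Fin n) (Fin n) F)) hab
  constructor
  · intro a b hab
    exact Subtype.ext (hinj (congrArg Subtype.val hab))
  · rintro ⟨b, hb⟩
    have hdet : (b : Matrix (Fin n) (Fin n) F).det = 1 := by
      rcases eq_zero_or_one hF (b : Matrix (Fin n) (Fin n) F).det with h0 | h0
      · exact absurd h0 (b.isUnit.map Matrix.detMonoidHom).ne_zero
      · exact h0
    let c : _root_.Matrix.SpecialLinearGroup (Fin n) F := ⟨b, hdet⟩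
    have hc : SpecialLinearGroup.toGL c = b := Units.ext rfl
    refine ⟨⟨c, ?_⟩, Subtype.ext hc⟩
    rw [Subgroup.mem_centralizer_singleton_iff] at hb ⊢
    apply hinj
    rw [map_mul, map_mul, hc]
    exact hb

/-- **Centralizer orders over the field with two elements.** -/
theorem cent_two (hF : Fintype.card F = 2) (hn : 5 ≤ n) {x : ProjectiveSpecialLinearGroup (Fin n) F} (hx : x ≠ 1) :
    Nat.card (Subgroup.centralizer ({x} : Set (ProjectiveSpecialLinearGroup (Fin n) F))) =
      2 ^ (2 * n - 3) * ∏ i : Fin (n - 2), (2 ^ (n - 2) - 2 ^ (i : ℕ)) ∨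
    Nat.card (Subgroup.centralizer ({x} : Set (ProjectiveSpecialLinearGroup (Fin n) F))) ≤
      2 ^ (n * n - 2 * n - 1) := by
  have h2 := eq_zero_or_one hF
  obtain ⟨g, rfl⟩ := pr_surjective x
  rw [card_cent_two hF (by omega)]
  have hinj := H363.PslTorus.act_injective_apply g
  have hg1 : act g ≠ 1 := by
    intro h
    apply hx
    have : g = 1 := act_injective (by rw [h, map_one])
    rw [this, map_one]
  have hfr : finrank F (Fin n → F) = n := finrank_fin_fun F
  by_cases hr : 2 ≤ finrank F (LinearMap.range (act g - 1))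
  · right
    have key := finrank_comm_le_two h2 (by rw [hfr]; exact hn) hinj hr
    rw [hfr] at key
    have h3 : Nat.card (Subgroup.centralizer ({g} : Set (_root_.Matrix.SpecialLinearGroup (Fin n) F))) ≤ Nat.card (comm (act g)) := by
      have hfin : Finite (Module.End F (Fin n → F)) := Module.finite_of_finite F
      rw [card_cent_sl]
      apply Nat.card_le_card_of_injective
        (fun b : {b : Module.End F (Fin n → F) // LinearMap.det b = 1 ∧ Commute b (act g)} =>
          (⟨b.1, b.2.2⟩ : comm (act g)))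
      intro a b hab
      have hab' := congrArg Subtype.val hab
      exact Subtype.ext hab'
    have h4 : Nat.card (comm (act g)) = 2 ^ finrank F (comm (act g)) := by
      rw [Module.natCard_eq_pow_finrank (K := F), Nat.card_eq_fintype_card, hF]
    refine h3.trans (h4.trans_le (Nat.pow_le_pow_right (by norm_num) ?_))
    omega
  · left
    push Not at hr
    have hr0 : finrank F (LinearMap.range (act g - 1)) ≠ 0 := by
      intro h
      apply hg1
      rw [Submodule.finrank_eq_zero, LinearMap.range_eq_bot] at h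
      exact sub_eq_zero.1 h
    have hr1 : finrank F (LinearMap.range (act g - 1)) = 1 := by omega
    apply card_cent_transvection hF (by omega) g _ hr1
    -- `(g - 1)² = 0`
    obtain ⟨⟨e, he⟩, he0, hspan⟩ := finrank_eq_one_iff'.1 hr1
    have hNe : (act g - 1) e = 0 := by
      obtain ⟨a, ha⟩ := hspan ⟨(act g - 1) e, LinearMap.mem_range_self _ _⟩
      have ha' : a • e = (act g - 1) e := congrArg Subtype.val ha
      rcases h2 a with rfl | rfl
      · rw [← ha', zero_smul]
      · exfalso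
        rw [one_smul, LinearMap.sub_apply, Module.End.one_apply] at ha'
        have h5 : act g e = e + e := by
          rw [eq_sub_iff_add_eq] at ha'
          exact ha'.symm
        have h6 : e + e = 0 := by
          have h7 : (1 : F) + 1 = 0 := by
            rcases h2 ((1 : F) + 1) with h8 | h8
            · exact h8
            · have : (1 : F) = 0 := by
                have := add_left_cancel (h8.trans (add_zero (1 : F)).symm)
                exact this
              exact absurd this one_ne_zero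
          rw [← one_smul F e, ← add_smul, h7, zero_smul]
        apply he0
        apply Subtype.ext
        apply hinj
        show act g e = act g 0
        rw [h5, h6, map_zero]
    apply LinearMap.ext
    intro w
    rw [pow_two, Module.End.mul_apply]
    obtain ⟨a, ha⟩ := hspan ⟨(act g - 1) w, LinearMap.mem_range_self _ _⟩
    have ha' : a • e = (act g - 1) w := congrArg Subtype.val ha
    rw [← ha', map_smul, hNe, smul_zero]
    rfl

end cls

/-! ### The prime 127 for `PSL_7(2)` -/

section seven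

variable {F : Type v} [Field F] [Fintype F]

theorem card_psl_two {n : ℕ} (hF : Fintype.card F = 2) (hn : 2 ≤ n) :
    Nat.card (ProjectiveSpecialLinearGroup (Fin n) F) =
      2 ^ (n * (n - 1) / 2) * ∏ i ∈ Finset.range (n - 1), (2 ^ (i + 2) - 1) := by
  have h := card_psl hF hn
  have h1 : Nat.gcd n (2 - 1) = 1 := by simp
  rwa [h1, one_mul] at h

theorem card_six (hF : Fintype.card F = 2) :
    Nat.card (ProjectiveSpecialLinearGroup (Fin 6) F) = 20158709760 := by
  rw [card_psl_two hF (by norm_num)]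
  decide

theorem card_seven (hF : Fintype.card F = 2) :
    Nat.card (ProjectiveSpecialLinearGroup (Fin 7) F) = 163849992929280 := by
  rw [card_psl_two hF (by norm_num)]
  decide

/-- centralizer orders of `PSL_7(2)` divisible by 127 -/
theorem eq_127 (hF : Fintype.card F = 2) {x : ProjectiveSpecialLinearGroup (Fin 7) F} (hx : x ≠ 1)
    (h : 127 ∣ Nat.card (Subgroup.centralizer ({x} : Set (ProjectiveSpecialLinearGroup (Fin 7) F)))) :
    Nat.card (Subgroup.centralizer ({x} : Set (ProjectiveSpecialLinearGroup (Fin 7) F))) = 127 := by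
  obtain ⟨g, rfl⟩ := pr_surjective x
  have hqF : Nat.card F = 2 := by rw [Nat.card_eq_fintype_card, hF]
  obtain ⟨k, m, hkm, hk, hd⟩ := exists_dvd_top (F := F) (s := 127) (by norm_num) (n := 7) (by norm_num)
    (by rw [hqF]; norm_num) (by
      intro d hd0 hd7
      rw [hqF]
      interval_cases d <;> norm_num) hx h
  rw [card_cent_two hF (by norm_num)] at h ⊢
  have hk7 : k = 7 := by
    have h1 : k ∣ 7 := ⟨m, hkm.symm⟩
    rcases (Nat.dvd_prime (by norm_num)).1 h1 with h2 | h2
    · omega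
    · exact h2
  subst hk7
  have hm : m = 1 := by omega
  subst hm
  rw [hqF] at hd
  have h2 : ∏ i : Fin 1, (((2 : ℕ) ^ 7) ^ 1 - (2 ^ 7) ^ (i : ℕ)) = 127 := by simp
  rw [h2] at hd
  exact Nat.dvd_antisymm hd h

theorem latw_seven (hF : Fintype.card F = 2) : LatW (ProjectiveSpecialLinearGroup (Fin 7) F) 2 127 := by
  have hfin : Finite (ProjectiveSpecialLinearGroup (Fin 7) F) := inferInstance
  have hne1 : ∀ x : ProjectiveSpecialLinearGroup (Fin 7) F,
      Nat.card (Subgroup.centralizer ({x} : Set (ProjectiveSpecialLinearGroup (Fin 7) F))) ≠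
        Nat.card (ProjectiveSpecialLinearGroup (Fin 7) F) → x ≠ 1 := by
    rintro x hc rfl
    apply hc
    have : Subgroup.centralizer ({1} : Set (ProjectiveSpecialLinearGroup (Fin 7) F)) = ⊤ := by
      rw [eq_top_iff]
      intro y _
      rw [Subgroup.mem_centralizer_singleton_iff]
      simp
    rw [this, Subgroup.card_top]
  have h127 : Nat.Prime 127 := by norm_num
  have hfac : (Nat.card (ProjectiveSpecialLinearGroup (Fin 7) F)).factorization 127 = 1 := by
    rw [card_seven hF]
    exact fact_of (d := 1) (X := 1290157424640) h127 (by norm_num) (by norm_num) (by norm_num)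
  obtain ⟨k, hk, -⟩ := reg_psl (F := F) (p := 2) (f := 1) (n := 7) Nat.prime_two le_rfl (by rw [hF]; rfl) (by norm_num)
  refine ⟨⟨_, hk, fun h => ?_⟩, ?_, ?_, ?_⟩
  · have := (Nat.prime_dvd_prime_iff_eq h127 Nat.prime_two).1 (h127.dvd_of_dvd_pow h)
    omega
  · have := Fact.mk h127
    obtain ⟨y, hy⟩ := exists_prime_orderOf_dvd_card' (G := ProjectiveSpecialLinearGroup (Fin 7) F) 127 (by
      rw [card_seven hF]; norm_num)
    refine ⟨_, mem_co y, ?_⟩
    rw [eq_127 hF (by rintro rfl; rw [orderOf_one] at hy; omega) (dvd_cent (Commute.refl y) hy.symm.dvd), hfac]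
    norm_num
  · rintro _ ⟨x, rfl⟩ hcx hrx
    dsimp only at hcx hrx ⊢
    rw [eq_127 hF (hne1 x hcx) hrx]
    intro h
    have h1 : 1 ≤ (Nat.card (ProjectiveSpecialLinearGroup (Fin 7) F)).factorization 2 := by
      apply (Nat.prime_two.dvd_iff_one_le_factorization Nat.card_pos.ne').1
      rw [card_seven hF]; norm_num
    have h2 : 2 ∣ 127 := (dvd_pow_self 2 (by omega)).trans h
    omega
  · rintro _ ⟨x, rfl⟩ hcx hrx hpx
    dsimp only at hcx hrx hpx ⊢
    rw [eq_127 hF (hne1 x hcx) hrx] at hpx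
    omega

end seven

/-! ### Normal 2-subgroups -/

section core

variable {G : Type u} [Group G] [Finite G]

/-- a normal abelian `p`-subgroup -/
theorem exists_abelian {p : ℕ} (hp : p.Prime) (h : pCore p G ≠ ⊥) :
    ∃ V : Subgroup G, V.Normal ∧ V ≠ ⊥ ∧ IsPGroup p V ∧ ∀ a ∈ V, ∀ b ∈ V, Commute a b := by
  have := Fact.mk hp
  have hQn := Lib.Cores.pCore_normal (G := G) p
  have hQp := Lib.Cores.pCore_isPGroup (G := G) p
  set Q := pCore p G
  refine ⟨(Subgroup.center Q).map Q.subtype, ?_, ?_, ?_, ?_⟩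
  · infer_instance
  · intro h0
    have h1 : Nontrivial Q := (Subgroup.nontrivial_iff_ne_bot Q).2 h
    have h2 := hQp.center_nontrivial
    obtain ⟨z, hz⟩ := exists_ne (1 : Subgroup.center Q)
    have h3 : ((z : Q) : G) ∈ (Subgroup.center Q).map Q.subtype := ⟨z, z.2, rfl⟩
    rw [h0, Subgroup.mem_bot] at h3
    exact hz (Subtype.ext (Subtype.ext h3))
  · exact (hQp.to_subgroup _).map _
  · rintro _ ⟨a, ha, rfl⟩ _ ⟨b, hb, rfl⟩
    have h1 := Subgroup.mem_center_iff.1 hb a
    exact congrArg Subtype.val h1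

/-- a fixed point free element of prime order on a normal `p`-subgroup -/
theorem card_modEq {p r : ℕ} (hp : p.Prime) (hr : r.Prime) (hrp : r ≠ p) {V : Subgroup G} (hV : V.Normal)
    (hVp : IsPGroup p V) (hE : NoEdge G r p) {y : G} (hy : orderOf y = r) : Nat.card V ≡ 1 [MOD r] := by
  have := Fact.mk hr
  have := Fact.mk hp
  let P : Subgroup (ConjAct G) := Subgroup.zpowers (ConjAct.toConjAct y)
  have hP : IsPGroup r P := by
    apply IsPGroup.of_card (n := 1)
    rw [Nat.card_zpowers, pow_one, ← hy]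
    exact orderOf_injective (ConjAct.toConjAct (G := G)).toMonoidHom (ConjAct.toConjAct (G := G)).injective y
  have h1 := hP.card_modEq_card_fixedPoints V
  refine h1.trans ?_
  have h2 : Nat.card (MulAction.fixedPoints P V) = 1 := by
    rw [Nat.card_eq_one_iff_unique]
    refine ⟨⟨?_⟩, ⟨⟨1, fun g => smul_one g⟩⟩⟩
    have key : ∀ v : MulAction.fixedPoints P V, (v : V) = 1 := by
      rintro ⟨v, hv⟩
      by_contra hv1
      have h3 := hv ⟨ConjAct.toConjAct y, Subgroup.mem_zpowers _⟩
      have h4 : y * (v : G) * y⁻¹ = v := congrArg Subtype.val h3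
      have h5 : Commute y (v : G) := mul_inv_eq_iff_eq_mul.1 h4
      obtain ⟨j, hj⟩ := hVp v
      have h6 : orderOf v ∣ p ^ j := orderOf_dvd_of_pow_eq_one hj
      obtain ⟨i, -, hi⟩ := (Nat.dvd_prime_pow hp).1 h6
      have hi0 : i ≠ 0 := by
        rintro rfl
        rw [pow_zero, orderOf_eq_one_iff] at hi
        exact hv1 hi
      have h7 : p ∣ orderOf (v : G) := by
        rw [Subgroup.orderOf_coe, hi]
        exact dvd_pow_self p hi0
      exact hE.false_of_dvd hr hp hrp h5 hy.symm.dvd h7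
    intro a b
    exact Subtype.ext ((key a).trans (key b).symm)
  rw [h2]

/-- the class of an element of a normal subgroup -/
theorem index_le {V : Subgroup G} (hV : V.Normal) {v : G} (hv : v ∈ V) (hv1 : v ≠ 1) :
    (Subgroup.centralizer ({v} : Set G)).index + 1 ≤ Nat.card V := by
  have h1 : (MulAction.orbit (ConjAct G) v) ⊆ (V : Set G) \ {1} := by
    rintro _ ⟨g, rfl⟩
    refine ⟨?_, ?_⟩
    · show g • v ∈ V
      rw [ConjAct.smul_def]
      exact hV.conj_mem v hv _
    · intro h
      apply hv1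
      have h2 : g • v = 1 := h
      rwa [smul_eq_iff_eq_inv_smul, smul_one] at h2
  have h2 : (Subgroup.centralizer ({v} : Set G)).index = (MulAction.orbit (ConjAct G) v).ncard := by
    rw [← MulAction.index_stabilizer]
    have h3 := ConjAct.stabilizer_eq_centralizer v
    rw [h3]
    rfl
  have h3 := Set.ncard_le_ncard h1 (Set.toFinite _)
  have h4 := Set.ncard_sdiff_singleton_add_one (s := (V : Set G)) (a := 1) V.one_mem (Set.toFinite _)
  have h5 : (V : Set G).ncard = Nat.card V := rfl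
  omega

end core

/-! ### The theorems -/

section main

variable {G : Type u} [Group G] [Finite G]

/-- the order of a `p`-subgroup -/
theorem exists_pow_of {p N : ℕ} (hp : p.Prime) {V : Subgroup G} (hVp : IsPGroup p V) (hN : ¬ p ^ (N + 1) ∣ Nat.card G) :
    ∃ k, k ≤ N ∧ Nat.card V = p ^ k := by
  have := Fact.mk hp
  obtain ⟨k, hk⟩ := IsPGroup.iff_card.1 hVp
  refine ⟨k, ?_, hk⟩
  by_contra h
  push Not at h
  apply hN
  exact (pow_dvd_pow p h).trans (hk ▸ Subgroup.card_subgroup_dvd_card V)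

/-- a normal abelian Sylow subgroup centralises all `p`-elements -/
theorem le_cent_of {p N : ℕ} (hp : p.Prime) {V : Subgroup G} (hV : V.Normal) (hVp : IsPGroup p V)
    (hVc : ∀ a ∈ V, ∀ b ∈ V, Commute a b) (hN : ¬ p ^ (N + 1) ∣ Nat.card G) (hVN : Nat.card V = p ^ N) {g : G}
    {k : ℕ} (hg : Nat.card (Subgroup.centralizer ({g} : Set G)) = p ^ k) : p ^ N ≤ p ^ k := by
  have := Fact.mk hp
  have h1 : IsPGroup p (Subgroup.zpowers g) := by
    have h2 : g ∈ Subgroup.centralizer ({g} : Set G) := mem_cent.2 (Commute.refl g)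
    exact (IsPGroup.of_card hg).to_le (Subgroup.zpowers_le.2 h2)
  have h2 : IsPGroup p (V ⊔ Subgroup.zpowers g : Subgroup G) := hVp.to_sup_of_normal_left h1
  obtain ⟨j, hj, hj'⟩ := exists_pow_of hp h2 hN
  have h3 : V = V ⊔ Subgroup.zpowers g := by
    apply Subgroup.eq_of_le_of_card_ge le_sup_left
    rw [hj', hVN]
    exact Nat.pow_le_pow_right hp.pos hj
  have h4 : g ∈ V := by
    rw [h3]
    exact (le_sup_right : Subgroup.zpowers g ≤ V ⊔ Subgroup.zpowers g) (Subgroup.mem_zpowers g)
  have h5 : V ≤ Subgroup.centralizer ({g} : Set G) := fun v hv => mem_cent.2 (hVc v hv g h4)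
  rw [← hVN, ← hg]
  exact Subgroup.card_le_of_le h5

/-- the elements of a normal subgroup, seen in `S` -/
theorem exists_in {S : Type v} [Group S] [Finite S] (h : Same G S) {p r : ℕ} (hp : p.Prime) (hr : r.Prime) (hrp : r ≠ p)
    (hE : NoEdge G r p) (hrG : r ∣ Nat.card G) {V : Subgroup G} (hVp : IsPGroup p V) {v : G} (hv : v ∈ V) (hv1 : v ≠ 1) :
    ∃ x : S, x ≠ 1 ∧ Nat.card (Subgroup.centralizer ({x} : Set S)) = Nat.card (Subgroup.centralizer ({v} : Set G)) ∧
      (Subgroup.centralizer ({x} : Set S)).index = (Subgroup.centralizer ({v} : Set G)).index := by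
  have := Fact.mk hr
  obtain ⟨x, hx⟩ := h.mem v
  have hx' : Nat.card (Subgroup.centralizer ({x} : Set S)) = Nat.card (Subgroup.centralizer ({v} : Set G)) := hx
  refine ⟨x, ?_, hx', ?_⟩
  · rintro rfl
    have h1 : Subgroup.centralizer ({1} : Set S) = ⊤ := by
      rw [eq_top_iff]
      intro y _
      rw [Subgroup.mem_centralizer_singleton_iff]
      simp
    rw [h1, Subgroup.card_top, ← h.card] at hx'
    have h2 : Subgroup.centralizer ({v} : Set G) = ⊤ := Subgroup.eq_top_of_card_eq _ hx'.symm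
    obtain ⟨y, hy⟩ := exists_prime_orderOf_dvd_card' r hrG
    have h3 : Commute y v := mem_cent.1 (h2 ▸ Subgroup.mem_top y)
    obtain ⟨j, hj⟩ := hVp ⟨v, hv⟩
    have h6 : orderOf v ∣ p ^ j := orderOf_dvd_of_pow_eq_one (congrArg Subtype.val hj)
    obtain ⟨i, -, hi⟩ := (Nat.dvd_prime_pow hp).1 h6
    have hi0 : i ≠ 0 := by
      rintro rfl
      rw [pow_zero, orderOf_eq_one_iff] at hi
      exact hv1 hi
    exact hE.false_of_dvd hr hp hrp h3 hy.symm.dvd (hi ▸ dvd_pow_self p hi0)
  · have e1 := (Subgroup.centralizer ({x} : Set S)).card_mul_index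
    have e2 := (Subgroup.centralizer ({v} : Set G)).card_mul_index
    rw [h.card, ← e1, hx'] at e2
    exact (Nat.eq_of_mul_eq_mul_left Nat.card_pos e2).symm

variable {F : Type v} [Field F] [Fintype F]

theorem idx_six (hF : Fintype.card F = 2) {x : ProjectiveSpecialLinearGroup (Fin 6) F} (hx : x ≠ 1) :
    1024 ≤ (Subgroup.centralizer ({x} : Set (ProjectiveSpecialLinearGroup (Fin 6) F))).index := by
  have h1 := (Subgroup.centralizer ({x} : Set (ProjectiveSpecialLinearGroup (Fin 6) F))).card_mul_index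
  rw [card_six hF] at h1
  rcases cent_two hF (by norm_num) hx with h | h
  · have h2 : 2 ^ (2 * 6 - 3) * ∏ i : Fin (6 - 2), (2 ^ (6 - 2) - 2 ^ (i : ℕ)) = 10321920 := by decide
    rw [h2] at h
    rw [h] at h1
    omega
  · by_contra hcon
    push Not at hcon
    have h3 : Nat.card (Subgroup.centralizer ({x} : Set (ProjectiveSpecialLinearGroup (Fin 6) F))) *
      (Subgroup.centralizer ({x} : Set (ProjectiveSpecialLinearGroup (Fin 6) F))).index ≤ 2 ^ (6 * 6 - 2 * 6 - 1) * 1023 :=
      Nat.mul_le_mul h (by omega)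
    rw [h1] at h3
    norm_num at h3

theorem idx_seven (hF : Fintype.card F = 2) {x : ProjectiveSpecialLinearGroup (Fin 7) F} (hx : x ≠ 1) :
    (Subgroup.centralizer ({x} : Set (ProjectiveSpecialLinearGroup (Fin 7) F))).index = 8001 ∨
      8383 ≤ (Subgroup.centralizer ({x} : Set (ProjectiveSpecialLinearGroup (Fin 7) F))).index := by
  have h1 := (Subgroup.centralizer ({x} : Set (ProjectiveSpecialLinearGroup (Fin 7) F))).card_mul_index
  rw [card_seven hF] at h1
  rcases cent_two hF (by norm_num) hx with h | h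
  · left
    have h2 : 2 ^ (2 * 7 - 3) * ∏ i : Fin (7 - 2), (2 ^ (7 - 2) - 2 ^ (i : ℕ)) = 20478689280 := by decide
    rw [h2] at h
    rw [h] at h1
    omega
  · right
    by_contra hcon
    push Not at hcon
    have h3 : Nat.card (Subgroup.centralizer ({x} : Set (ProjectiveSpecialLinearGroup (Fin 7) F))) *
      (Subgroup.centralizer ({x} : Set (ProjectiveSpecialLinearGroup (Fin 7) F))).index ≤ 2 ^ (7 * 7 - 2 * 7 - 1) * 8382 :=
      Nat.mul_le_mul h (by omega)
    rw [h1] at h3
    norm_num at h3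

/-- **`O_2(G) = 1` for `G` with the order and the centralizer orders of `PSL_6(2)`.** -/
theorem pCore_six (hF : Fintype.card F = 2) (h : Same G (ProjectiveSpecialLinearGroup (Fin 6) F)) :
    pCore 2 G = ⊥ := by
  have h31 : Nat.Prime 31 := by norm_num
  have hfac := Fact.mk h31
  have hE : NoEdge G 31 2 := by
    refine (lat_psl_sub (F := F) (n := 6) (r := 31) Nat.prime_two le_rfl (by rw [hF]; rfl) (by norm_num) h31
      ?_).toLatW.noEdge h31 Nat.prime_two (by norm_num) h
    have : Fact (Nat.Prime 5) := ⟨by norm_num⟩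
    have h5 : (6 : ℕ) - 1 = 5 := rfl
    rw [h5]
    exact orderOf_eq_prime (by decide) (by decide)
  by_contra hne
  obtain ⟨V, hVn, hV1, hVp, hVc⟩ := exists_abelian Nat.prime_two hne
  have hG : Nat.card G = 20158709760 := h.card.trans (card_six hF)
  have hG31 : 31 ∣ Nat.card G := by rw [hG]; norm_num
  obtain ⟨y, hy⟩ := exists_prime_orderOf_dvd_card' 31 hG31
  have hmod := card_modEq Nat.prime_two h31 (by norm_num) hVn hVp hE hy
  have hN : ¬ 2 ^ (15 + 1) ∣ Nat.card G := by rw [hG]; norm_num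
  obtain ⟨k, hk, hk'⟩ := exists_pow_of Nat.prime_two hVp hN
  obtain ⟨⟨v, hv⟩, hv1'⟩ := Subgroup.ne_bot_iff_exists_ne_one.1 hV1
  have hv1 : v ≠ 1 := fun h => hv1' (Subtype.ext h)
  obtain ⟨x, hx1, -, hxi⟩ := exists_in h Nat.prime_two h31 (by norm_num) hE hG31 hVp hv hv1
  have h1 := index_le hVn hv hv1
  have h2 := idx_six hF hx1
  rw [hxi] at h2
  have hk15 : k = 15 := by
    rw [hk'] at hmod h1
    have h3 : 1024 < 2 ^ k := by omega
    have h4 : 10 < k := by
      by_contra hcon
      have : 2 ^ k ≤ 2 ^ 10 := Nat.pow_le_pow_right (by norm_num) (by omega)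
      omega
    interval_cases k <;> first | rfl | (exfalso; revert hmod; decide)
  subst hk15
  obtain ⟨j, ⟨u, hu⟩, hj⟩ := reg_psl (F := F) (p := 2) (f := 1) (n := 6) Nat.prime_two le_rfl (by rw [hF]; rfl)
    (by norm_num)
  obtain ⟨g, hg⟩ := h.exists_of_mem ⟨u, hu⟩
  have h5 := le_cent_of Nat.prime_two hVn hVp hVc hN hk' hg
  norm_num at h5 hj
  omega

/-- **`O_2(G) = 1` for `G` with the order and the centralizer orders of `PSL_7(2)`.** -/
theorem pCore_seven (hF : Fintype.card F = 2) (h : Same G (ProjectiveSpecialLinearGroup (Fin 7) F)) :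
    pCore 2 G = ⊥ := by
  have h127 : Nat.Prime 127 := by norm_num
  have hfac := Fact.mk h127
  have hE : NoEdge G 127 2 := (latw_seven hF).noEdge h127 Nat.prime_two (by norm_num) h
  by_contra hne
  obtain ⟨V, hVn, hV1, hVp, hVc⟩ := exists_abelian Nat.prime_two hne
  have hG : Nat.card G = 163849992929280 := h.card.trans (card_seven hF)
  have hG127 : 127 ∣ Nat.card G := by rw [hG]; norm_num
  obtain ⟨y, hy⟩ := exists_prime_orderOf_dvd_card' 127 hG127
  have hmod := card_modEq Nat.prime_two h127 (by norm_num) hVn hVp hE hy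
  have hN : ¬ 2 ^ (21 + 1) ∣ Nat.card G := by rw [hG]; norm_num
  obtain ⟨k, hk, hk'⟩ := exists_pow_of Nat.prime_two hVp hN
  have hidx : ∀ v ∈ V, v ≠ 1 → (Subgroup.centralizer ({v} : Set G)).index = 8001 ∨
      8383 ≤ (Subgroup.centralizer ({v} : Set G)).index := by
    intro v hv hv1
    obtain ⟨x, hx1, -, hxi⟩ := exists_in h Nat.prime_two h127 (by norm_num) hE hG127 hVp hv hv1
    rw [← hxi]
    exact idx_seven hF hx1
  obtain ⟨⟨v, hv⟩, hv1'⟩ := Subgroup.ne_bot_iff_exists_ne_one.1 hV1
  have hv1 : v ≠ 1 := fun h => hv1' (Subtype.ext h)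
  have h1 := index_le hVn hv hv1
  have h2 := hidx v hv hv1
  have hk2 : k = 14 ∨ k = 21 := by
    rw [hk'] at hmod h1
    have h3 : 8001 < 2 ^ k := by omega
    have h4 : 12 < k := by
      by_contra hcon
      have : 2 ^ k ≤ 2 ^ 12 := Nat.pow_le_pow_right (by norm_num) (by omega)
      omega
    interval_cases k <;> first | (left; rfl) | (right; rfl) | (exfalso; revert hmod; decide)
  obtain ⟨j, ⟨u, hu⟩, hj⟩ := reg_psl (F := F) (p := 2) (f := 1) (n := 7) Nat.prime_two le_rfl (by rw [hF]; rfl)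
    (by norm_num)
  obtain ⟨g, hg⟩ := h.exists_of_mem ⟨u, hu⟩
  rcases hk2 with rfl | rfl
  · -- `|V| = 2 ^ 14`
    -- orbits
    have horb : ∀ v : G, (Subgroup.centralizer ({v} : Set G)).index = (MulAction.orbit (ConjAct G) v).ncard := by
      intro v
      rw [← MulAction.index_stabilizer]
      have h3 := ConjAct.stabilizer_eq_centralizer v
      rw [h3]
      rfl
    have hsub : ∀ v ∈ V, v ≠ 1 → (MulAction.orbit (ConjAct G) v) ⊆ (V : Set G) \ {1} := by
      rintro v hv hv1 _ ⟨g, rfl⟩
      refine ⟨?_, ?_⟩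
      · show g • v ∈ V
        rw [ConjAct.smul_def]
        exact hVn.conj_mem v hv _
      · intro h
        apply hv1
        have h2 : g • v = 1 := h
        rwa [smul_eq_iff_eq_inv_smul, smul_one] at h2
    have hcardV : ((V : Set G) \ {1}).ncard = 16383 := by
      have h4 := Set.ncard_sdiff_singleton_add_one (s := (V : Set G)) (a := 1) V.one_mem (Set.toFinite _)
      have h5 : (V : Set G).ncard = Nat.card V := rfl
      rw [h5, hk'] at h4
      have h6 : (2 : ℕ) ^ 14 = 16384 := by norm_num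
      omega
    -- the first orbit
    set A := MulAction.orbit (ConjAct G) v with hA
    have hAs := hsub v hv hv1
    have hA1 : A.ncard = 8001 ∨ 8383 ≤ A.ncard := by rw [hA, ← horb]; exact h2
    by_cases hAeq : A = (V : Set G) \ {1}
    · -- the class size `16383` does not divide `|G|`
      have h3 : A.ncard = 16383 := by rw [hAeq, hcardV]
      rw [hA, ← horb] at h3
      have h4 : 16383 ∣ Nat.card G := h3 ▸ Subgroup.index_dvd_card _
      rw [hG] at h4
      norm_num at h4
    · obtain ⟨w, hw, hwA⟩ := Set.exists_of_ssubset (lt_of_le_of_ne hAs hAeq)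
      have hwV : w ∈ V := hw.1
      have hw1 : w ≠ 1 := hw.2
      set B := MulAction.orbit (ConjAct G) w with hB
      have hBs := hsub w hwV hw1
      have hB1 : B.ncard = 8001 ∨ 8383 ≤ B.ncard := by rw [hB, ← horb]; exact hidx w hwV hw1
      have hAB : Disjoint A B := by
        rw [Set.disjoint_left]
        intro z hzA hzB
        apply hwA
        have e1 : MulAction.orbit (ConjAct G) z = MulAction.orbit (ConjAct G) v := MulAction.orbit_eq_iff.2 hzA
        have e2 : MulAction.orbit (ConjAct G) z = MulAction.orbit (ConjAct G) w := MulAction.orbit_eq_iff.2 hzB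
        show w ∈ MulAction.orbit (ConjAct G) v
        rw [← e1, e2]
        exact MulAction.mem_orbit_self w
      have hABs : A ∪ B ⊆ (V : Set G) \ {1} := Set.union_subset hAs hBs
      have h3 := Set.ncard_le_ncard hABs (Set.toFinite _)
      rw [Set.ncard_union_eq hAB (Set.toFinite _) (Set.toFinite _), hcardV] at h3
      have hA2 : A.ncard = 8001 := by omega
      have hB2 : B.ncard = 8001 := by omega
      by_cases hABeq : A ∪ B = (V : Set G) \ {1}
      · have h4 := congrArg Set.ncard hABeq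
        rw [Set.ncard_union_eq hAB (Set.toFinite _) (Set.toFinite _), hcardV, hA2, hB2] at h4
        omega
      · obtain ⟨z, hz, hzAB⟩ := Set.exists_of_ssubset (lt_of_le_of_ne hABs hABeq)
        have hzV : z ∈ V := hz.1
        have hz1 : z ≠ 1 := hz.2
        set D := MulAction.orbit (ConjAct G) z with hD
        have hDs := hsub z hzV hz1
        have hD1 : D.ncard = 8001 ∨ 8383 ≤ D.ncard := by rw [hD, ← horb]; exact hidx z hzV hz1
        have hABD : Disjoint (A ∪ B) D := by
          rw [Set.disjoint_left]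
          intro t ht htD
          apply hzAB
          have h5 : z ∈ MulAction.orbit (ConjAct G) t := by
            rw [MulAction.orbit_eq_iff.2 htD]
            exact MulAction.mem_orbit_self z
          rcases ht with ht | ht
          · left
            have e1 : MulAction.orbit (ConjAct G) t = MulAction.orbit (ConjAct G) v := MulAction.orbit_eq_iff.2 ht
            show z ∈ MulAction.orbit (ConjAct G) v
            rw [← e1]
            exact h5
          · right
            have e1 : MulAction.orbit (ConjAct G) t = MulAction.orbit (ConjAct G) w := MulAction.orbit_eq_iff.2 ht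
            show z ∈ MulAction.orbit (ConjAct G) w
            rw [← e1]
            exact h5
        have h6 := Set.ncard_le_ncard (Set.union_subset hABs hDs) (Set.toFinite _)
        rw [Set.ncard_union_eq hABD (Set.toFinite _) (Set.toFinite _),
          Set.ncard_union_eq hAB (Set.toFinite _) (Set.toFinite _), hcardV] at h6
        omega
  · have h5 := le_cent_of Nat.prime_two hVn hVp hVc hN hk' hg
    norm_num at h5 hj
    omega

end main

end Cfsg.Agent.H277.CS
end

private theorem dce_16cb54d8606c : _root_.True := by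
  try have : _root_.True := by simp only [_root_.Cfsg.Agent.H277.CS.eq_127]
  exact _root_.True.intro
end

section
prune_inst 0xbcecf8ebbc25deffff7e7ff6d8cdfc3b901fffa4dff94bffe863ff0bdf038009c5f38d09e010fe1ec2c01410a87843f9ffceffe26bdc7ffffd5df41ffbee0ff5f7b50811d488340f3e2ff683f0778e7f000000000000000000000000000000000000000000

-- part: H402/CS/Seven
section
set_option linter.all false
open scoped Cfsg.Agent.FastGrp

/-!
# The prime 127 in `PSL_7(2)` (helper402, S3677)
-/

set_option autoImplicit false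

namespace Cfsg.Agent.H402.CS.Seven

open Cfsg Cfsg.Agent.H902 Cfsg.Agent.H431.CS Cfsg.Agent.H370.AAM Matrix Module Cfsg.Agent.H363.PslSpec

universe u v w

/-- the commutant of an element of a field of endomorphisms, `n` prime -/
theorem card_le_prime {F : Type u} {V : Type v} [Field F] [AddCommGroup V] [Module F V] [FiniteDimensional F V]
    {K : Type w} [Field K] [Finite K] [Algebra F K] (f : K →ₐ[F] Module.End F V) (k : K)
    (hk : ∀ a : F, algebraMap F K a ≠ k) (hn : (finrank F V).Prime) :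
    Nat.card {c : Module.End F V // c * f k = f k * c} ≤ Nat.card F ^ finrank F V := by
  have hF : Finite F := Finite.of_injective _ (algebraMap F K).injective
  have hV : Finite V := Module.finite_of_finite F
  let E := IntermediateField.adjoin F {k}
  let g : ↥E →+* Module.End F V := (f.comp E.val).toRingHom
  let instE : Module ↥E V := Module.compHom V g
  have hsmul : ∀ (e : ↥E) (v : V), e • v = (f (e : K)) v := fun e v => rfl
  have htower : IsScalarTower F ↥E V := ⟨fun a e v => by
    rw [hsmul, hsmul]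
    have : ((a • e : ↥E) : K) = a • (e : K) := rfl
    rw [this, map_smul, LinearMap.smul_apply]⟩
  have hE : Finite ↥E := inferInstance
  have hfinE : Module.Finite ↥E V := inferInstance
  have h1 : finrank F ↥E * finrank ↥E V = finrank F V := Module.finrank_mul_finrank F ↥E V
  have h2 : finrank F ↥E ≠ 1 := by
    intro h4
    have h5 : E = ⊥ := IntermediateField.finrank_eq_one_iff.1 h4
    have h6 : k ∈ E := IntermediateField.mem_adjoin_simple_self F k
    rw [h5, IntermediateField.mem_bot] at h6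
    obtain ⟨a, ha⟩ := h6
    exact hk a ha
  have h3 : finrank ↥E V = 1 := by
    rcases (Nat.dvd_prime hn).1 (Dvd.intro _ h1) with h | h
    · exact absurd h h2
    · rw [h] at h1
      exact Nat.eq_of_mul_eq_mul_left hn.pos (by rw [h1, mul_one])
  -- the injection
  let j : {c : Module.End F V // c * f k = f k * c} → (V →ₗ[↥E] V) := fun c =>
    { toFun := fun v => (c : Module.End F V) v
      map_add' := fun v w => map_add _ v w
      map_smul' := fun e v => by
        rw [hsmul, ← Module.End.mul_apply, FieldComm.comm_of_mem f k c.2 e.2, Module.End.mul_apply]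
        rfl }
  have hj : Function.Injective j := by
    intro a b hab
    apply Subtype.ext
    apply LinearMap.ext
    intro v
    exact congrArg (fun l : V →ₗ[↥E] V => l v) hab
  have hfin : Finite (V →ₗ[↥E] V) := Module.finite_of_finite ↥E
  refine (Nat.card_le_card_of_injective j hj).trans (le_of_eq ?_)
  rw [Module.natCard_eq_pow_finrank (K := ↥E) (V := V →ₗ[↥E] V), Module.finrank_linearMap, pow_mul,
    ← Module.natCard_eq_pow_finrank (K := ↥E) (V := V), Module.natCard_eq_pow_finrank (K := F) (V := V), h3, pow_one]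

variable {F : Type} [Field F] [Fintype F]

theorem order_two : orderOf ((2 : ℕ) : ZMod 127) = 7 := by
  have : Fact (Nat.Prime 7) := ⟨by norm_num⟩
  apply orderOf_eq_prime
  · decide
  · decide

/-- the centralizer orders of `PSL_7(2)` divisible by 127 -/
theorem cent (hF : Fintype.card F = 2) {x : ProjectiveSpecialLinearGroup (Fin 7) F} (hx : x ≠ 1)
    (hrx : 127 ∣ Nat.card ↥(Subgroup.centralizer ({x} : Set (ProjectiveSpecialLinearGroup (Fin 7) F)))) :
    Nat.card ↥(Subgroup.centralizer ({x} : Set (ProjectiveSpecialLinearGroup (Fin 7) F))) = 127 := by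
  have hqF : Nat.card F = 2 := by rw [Nat.card_eq_fintype_card, hF]
  have hr : (127 : ℕ).Prime := by norm_num
  obtain ⟨X, rfl⟩ := QuotientGroup.mk_surjective x
  have hX : X ∉ Subgroup.center (SpecialLinearGroup (Fin 7) F) := fun h => hx ((QuotientGroup.eq_one_iff X).2 h)
  have hle : Nat.card ↥(Subgroup.centralizer
      {(X : SpecialLinearGroup (Fin 7) F ⧸ Subgroup.center (SpecialLinearGroup (Fin 7) F))}) ≤ 128 := by
    refine (PslSize.card_cent_le_commutant X).trans ?_
    have := Fact.mk hr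
    obtain ⟨Y, hY⟩ := exists_prime_orderOf_dvd_card' 127 (hrx.trans (Quot.card_cent_dvd X))
    have hYr : (act (Y : SpecialLinearGroup (Fin 7) F)) ^ 127 = 1 := by
      rw [← map_pow]
      have h1 : ((Y : SpecialLinearGroup (Fin 7) F)) ^ 127 = 1 := by
        rw [← Subgroup.coe_pow, ← hY, pow_orderOf_eq_one, Subgroup.coe_one]
      rw [h1, map_one]
    have hY1 : act (Y : SpecialLinearGroup (Fin 7) F) ≠ 1 := by
      intro h
      have h1 : (Y : SpecialLinearGroup (Fin 7) F) = 1 := act_injective (by rw [h, map_one])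
      have h2 : Y = 1 := Subtype.ext h1
      rw [h2, orderOf_one] at hY
      exact hr.one_lt.ne hY
    have hXY : Commute (act X) (act (Y : SpecialLinearGroup (Fin 7) F)) := by
      have h1 : Commute X (Y : SpecialLinearGroup (Fin 7) F) :=
        (Subgroup.mem_centralizer_singleton_iff.1 Y.2).symm
      exact h1.map act
    obtain ⟨K, iK, iKf, iKA, f, -, hf⟩ := Cfsg.Agent.H363.CentField.exists_field (F := F) (V := Fin 7 → F) hr hYr hY1
      (by rw [finrank_fin_fun, hqF]; decide) (by
        rw [finrank_fin_fun, hqF]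
        intro d hd hd7 h
        rw [Cfsg.Agent.Lib.Zsigmondy.dvd_pow_sub_one_iff (by norm_num), order_two] at h
        have := Nat.le_of_dvd hd h
        omega)
    obtain ⟨k, hk⟩ := (hf (act X)).1 hXY
    have hle := card_le_prime f k (by
      intro a ha
      apply PslSize.act_ne_scalar hX a
      rw [← hk, ← ha, AlgHom.commutes]) (by rw [finrank_fin_fun]; norm_num)
    rw [hk, finrank_fin_fun, hqF] at hle
    exact hle
  obtain ⟨c, hc⟩ := hrx
  have hpos : 0 < Nat.card ↥(Subgroup.centralizer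
      {(X : SpecialLinearGroup (Fin 7) F ⧸ Subgroup.center (SpecialLinearGroup (Fin 7) F))}) := by
    have hfin : Finite (SpecialLinearGroup (Fin 7) F ⧸ Subgroup.center (SpecialLinearGroup (Fin 7) F)) :=
      Quotient.finite _
    exact Nat.card_pos
  have hc' : Nat.card ↥(Subgroup.centralizer
      {(X : SpecialLinearGroup (Fin 7) F ⧸ Subgroup.center (SpecialLinearGroup (Fin 7) F))}) = 127 * c := hc
  have hc1 : c = 1 := by
    rw [hc'] at hle hpos
    omega
  rw [hc1, mul_one] at hc'
  exact hc'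

theorem card_seven (hF : Fintype.card F = 2) :
    Nat.card (ProjectiveSpecialLinearGroup (Fin 7) F) = 163849992929280 := by
  have hY := Names.psl_real (F := F) (n := 7) (p := 2) (f := 1) Nat.prime_two le_rfl (by rw [hF, pow_one])
    (by norm_num) (by norm_num)
  have h := hY.eq
  have e1 : Art.dd (.L 7) (2 ^ 1) = 1 := by decide
  have e2 : (2 ^ 1) ^ Art.NN (.L 7) * Art.num (.L 7) (2 ^ 1) = 163849992929280 := by decide +kernel
  rw [e1, e2, one_mul] at h
  exact h

/-- **The lattice of the prime 127.** -/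
theorem lat (hF : Fintype.card F = 2) (hreg : ∃ k, 2 ^ k ∈ Co (ProjectiveSpecialLinearGroup (Fin 7) F)) :
    Lat (ProjectiveSpecialLinearGroup (Fin 7) F) 2 127 127 := by
  have hfin : Finite (ProjectiveSpecialLinearGroup (Fin 7) F) := Quotient.finite _
  have hone : ∀ c ∈ Co (ProjectiveSpecialLinearGroup (Fin 7) F),
      c ≠ Nat.card (ProjectiveSpecialLinearGroup (Fin 7) F) → 127 ∣ c → c = 127 := by
    rintro c ⟨x, rfl⟩ hc hr
    refine cent hF ?_ hr
    rintro rfl
    apply hc
    show Nat.card ↥(Subgroup.centralizer ({(1 : ProjectiveSpecialLinearGroup (Fin 7) F)} : Set _)) = _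
    have : Subgroup.centralizer ({(1 : ProjectiveSpecialLinearGroup (Fin 7) F)} : Set _) = ⊤ := by
      rw [eq_top_iff]
      intro w _
      rw [Subgroup.mem_centralizer_singleton_iff, mul_one, one_mul]
    rw [this, Subgroup.card_top]
  have hcard := card_seven hF
  have hfac : (Nat.card (ProjectiveSpecialLinearGroup (Fin 7) F)).factorization 127 = 1 := by
    rw [hcard]
    have h1 : (163849992929280 : ℕ) = 127 ^ 1 * 1290157424640 := by norm_num
    rw [h1, Nat.factorization_mul (by norm_num) (by norm_num), Finsupp.add_apply,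
      Nat.Prime.factorization_pow (by norm_num), Finsupp.single_eq_same,
      Nat.factorization_eq_zero_of_not_dvd (by norm_num)]
  have hrS : 127 ∣ Nat.card (ProjectiveSpecialLinearGroup (Fin 7) F) := by rw [hcard]; norm_num
  refine ⟨hrS, ?_, ?_, ?_, by norm_num, fun c hc h1 h2 _ => hone c hc h1 h2, ?_, ?_⟩
  · obtain ⟨k, hk⟩ := hreg
    refine ⟨2 ^ k, hk, fun h => ?_⟩
    have := (Nat.prime_dvd_prime_iff_eq (by norm_num) Nat.prime_two).1
      ((by norm_num : (127 : ℕ).Prime).dvd_of_dvd_pow h)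
    norm_num at this
  · have := Fact.mk (by norm_num : (127 : ℕ).Prime)
    obtain ⟨y, hy⟩ := exists_prime_orderOf_dvd_card' 127 hrS
    have h1 : 127 ∣ Nat.card ↥(Subgroup.centralizer ({y} : Set (ProjectiveSpecialLinearGroup (Fin 7) F))) := by
      have h2 : y ∈ Subgroup.centralizer ({y} : Set (ProjectiveSpecialLinearGroup (Fin 7) F)) :=
        Subgroup.mem_centralizer_singleton_iff.2 rfl
      have h3 := orderOf_dvd_natCard (⟨y, h2⟩ : ↥(Subgroup.centralizer ({y} : Set _)))
      rwa [Subgroup.orderOf_mk, hy] at h3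
    have h2 := cent hF (x := y) (by rintro rfl; rw [orderOf_one] at hy; norm_num at hy) h1
    exact ⟨y, h2⟩
  · rw [hfac, pow_one]
  · intro c hc h1 h2
    rw [hone c hc h1 h2]
    intro h
    have h3 : (Nat.card (ProjectiveSpecialLinearGroup (Fin 7) F)).factorization 2 = 21 := by
      rw [hcard]
      have h1 : (163849992929280 : ℕ) = 2 ^ 21 * 78129765 := by norm_num
      rw [h1, Nat.factorization_mul (by norm_num) (by norm_num), Finsupp.add_apply,
        Nat.Prime.factorization_pow (by norm_num), Finsupp.single_eq_same,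
        Nat.factorization_eq_zero_of_not_dvd (by norm_num)]
    rw [h3] at h
    norm_num at h
  · intro c hc h1 h2 h3
    rw [hone c hc h1 h2] at h3
    norm_num at h3

end Cfsg.Agent.H402.CS.Seven
end

-- part: H402/CS/PslAll
section
prune_inst 0x300000000000000000000000000000000
set_option linter.all false
open scoped Cfsg.Agent.FastGrp

/-!
# `PSL_n(q)`, `n ≥ 4`: the simple section (helper402, S3677)
-/

set_option autoImplicit false

namespace Cfsg.Agent.H402.CS.PslAll

open Subgroup Cfsg Cfsg.Agent.H902 Cfsg.Agent.H431.CS Cfsg.Agent.H402.CS.One Cfsg.Agent.H370.AAM Matrix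
open Cfsg.Agent.H402.CS.PslRow Cfsg.Agent.H402.CS.Generic
open Cfsg.Agent.H969.CS (CO Cz mem_Cz mem_CO)

universe u v

/-- the arithmetic input -/
def NumL : Prop :=
  ∀ {q n t M : ℕ}, 2 ≤ q → 4 ≤ n → t.Prime → ¬ t ∣ q → ¬ (n = 4 ∧ q = 3) →
    Nat.gcd n (q - 1) * M = q ^ (n * (n - 1) / 2) * ∏ i ∈ Finset.range (n - 1), (q ^ (i + 2) - 1) →
    t ^ M.factorization t * q ^ ((n - 1) ^ 2 + 1) ≤ M

theorem exists_order {p f k : ℕ} (hp : p.Prime) (hf : 1 ≤ f) (hk : 3 ≤ k) (h : ¬ (p = 2 ∧ f * k = 6)) :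
    ∃ r : ℕ, r.Prime ∧ orderOf ((p ^ f : ℕ) : ZMod r) = k ∧ ∀ j, r ∣ p ^ j - 1 → f * k ∣ j := by
  have h3 : 3 ≤ f * k := hk.trans (Nat.le_mul_of_pos_left _ hf)
  obtain ⟨r, hr, ho⟩ := Cfsg.Agent.Lib.Zsigmondy.exists_prime_orderOf (a := p) (n := f * k) hp.two_le
    (by omega) (fun h => by omega) h
  refine ⟨r, hr, ?_, fun j hj => ?_⟩
  · rw [Nat.cast_pow, orderOf_pow' _ (by omega), ho, Nat.gcd_eq_right (Dvd.intro _ rfl)]
    exact Nat.mul_div_cancel_left _ (by omega)
  · rwa [Cfsg.Agent.Lib.Zsigmondy.dvd_pow_sub_one_iff hp.one_le, ho] at hj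

variable {F : Type} [Field F] [Fintype F] {n p f : ℕ}

theorem real_psl (hp : p.Prime) (hf : 1 ≤ f) (hF : Fintype.card F = p ^ f) (hn : 4 ≤ n) :
    Art.Real (.L n) p f (Nat.card (ProjectiveSpecialLinearGroup (Fin n) F)) :=
  Names.psl_real (F := F) hp hf hF (by omega : 2 ≤ n) (by omega)

theorem fac_psl (hp : p.Prime) (hf : 1 ≤ f) (hF : Fintype.card F = p ^ f) (hn : 4 ≤ n) :
    (Nat.card (ProjectiveSpecialLinearGroup (Fin n) F)).factorization p = f * (n * (n - 1) / 2) := by
  have h1 := (real_psl hp hf hF hn).P_self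
  rw [Art.P, ← pow_mul] at h1
  exact Nat.pow_right_injective hp.two_le h1

theorem p_dvd_psl (hp : p.Prime) (hf : 1 ≤ f) (hF : Fintype.card F = p ^ f) (hn : 4 ≤ n) :
    p ∣ Nat.card (ProjectiveSpecialLinearGroup (Fin n) F) := by
  by_contra hcon
  have hN := fac_psl hp hf hF hn
  rw [Nat.factorization_eq_zero_of_not_dvd hcon] at hN
  have hNpos : 0 < n * (n - 1) / 2 := by
    apply Nat.div_pos _ (by norm_num)
    nlinarith [Nat.sub_add_cancel (show 1 ≤ n by omega)]
  have : 0 < f * (n * (n - 1) / 2) := Nat.mul_pos hf hNpos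
  omega

/-- the cores for the primes different from `p` -/
theorem cores (numL : NumL) {G : Type u} [Group G] [Finite G] (hp : p.Prime) (hf : 1 ≤ f)
    (hF : Fintype.card F = p ^ f) (hn : 4 ≤ n) (hG : Same G (ProjectiveSpecialLinearGroup (Fin n) F))
    (hZ : center G = ⊥) {t : ℕ} (ht : t.Prime) (htp : t ≠ p) (h43 : ¬ (n = 4 ∧ p ^ f = 3)) : pCore t G = ⊥ := by
  have hfin : Finite (ProjectiveSpecialLinearGroup (Fin n) F) := Quotient.finite _
  have hY := real_psl (F := F) (n := n) hp hf hF hn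
  refine pCore_eq_bot_of_class hG hZ ht fun x hx => ?_
  have h1 := PslSize.card_cent_le (F := F) (n := n) (by omega) hx
  rw [Nat.card_eq_fintype_card (α := F), hF] at h1
  have h2 := numL hY.q_ge hn ht (fun h => htp ((Nat.prime_dvd_prime_iff_eq ht hp).1 (ht.dvd_of_dvd_pow h))) h43 hY.eq
  exact (Nat.mul_le_mul_left _ h1).trans h2

theorem lcm_lt {f n : ℕ} (hf : 1 ≤ f) (hn : 4 ≤ n) : f * (n * (n - 1) / 2) < Nat.lcm (f * n) (f * (n - 1)) := by
  rw [Nat.lcm_mul_left]
  have hcop : Nat.Coprime n (n - 1) := by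
    obtain ⟨k, rfl⟩ : ∃ k, n = k + 1 := ⟨n - 1, by omega⟩
    rw [Nat.add_sub_cancel]
    exact (Nat.coprime_self_add_left (m := k) (n := 1)).2 (Nat.coprime_one_left k)
  rw [hcop.lcm_eq_mul]
  apply Nat.mul_lt_mul_of_pos_left _ hf
  have : 0 < n * (n - 1) := Nat.mul_pos (by omega) (by omega)
  omega

end Cfsg.Agent.H402.CS.PslAll
end

-- part: H402/CS/PslOut
section
prune_inst 0x300000000000000000000000000000000
set_option linter.all false
open scoped Cfsg.Agent.FastGrp

/-!
# `PSL_n(q)`, `n ≥ 4`: the simple section, with the perfect prime (helper402, S3677)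
-/

set_option autoImplicit false

namespace Cfsg.Agent.H402.CS.PslOut

open Subgroup Cfsg Cfsg.Agent.H902 Cfsg.Agent.H431.CS Cfsg.Agent.H402.CS.One Cfsg.Agent.H370.AAM Matrix
open Cfsg.Agent.H402.CS.PslRow Cfsg.Agent.H402.CS.Generic Cfsg.Agent.H402.CS.PslAll
open Cfsg.Agent.H969.CS (CO Cz mem_Cz mem_CO)

universe u v

variable {F : Type} [Field F] [Fintype F] {n p f : ℕ}

/-- **The simple section, `PSL_n(q)`, `n ≥ 4`.** -/
theorem psl_sect2 (numL : NumL) {G : Type u} [Group G] [Finite G] (hS : Solv.{u}) (hp : p.Prime) (hf : 1 ≤ f)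
    (hF : Fintype.card F = p ^ f) (hn : 4 ≤ n) (hG : Same G (ProjectiveSpecialLinearGroup (Fin n) F))
    (hreg : ∃ k, p ^ k ∈ Co (ProjectiveSpecialLinearGroup (Fin n) F))
    (h67 : p ^ f = 2 → n = 6 ∨ n = 7 → pCore 2 G = ⊥) :
    ∃ (s m : ℕ) (K : Subgroup G) (_ : K.Normal) (N : Subgroup (G ⧸ K)), Sect G p s K N ∧ Nat.card ↥K = 1 ∧
      Perf G s p m ∧ (orderOf ((p ^ f : ℕ) : ZMod s) = n - 1 ∨ (s = 127 ∧ p = 2 ∧ f = 1 ∧ n = 7)) := by
  have hfin : Finite (ProjectiveSpecialLinearGroup (Fin n) F) := Quotient.finite _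
  have hY := real_psl (F := F) (n := n) hp hf hF hn
  have hpS := p_dvd_psl (F := F) (n := n) hp hf hF hn
  have hfac := fac_psl (F := F) (n := n) hp hf hF hn
  have hdom : ∀ s : ℕ, s.Prime → s ≠ p → s ^ (Nat.card (ProjectiveSpecialLinearGroup (Fin n) F)).factorization s ≤
      p ^ (Nat.card (ProjectiveSpecialLinearGroup (Fin n) F)).factorization p := by
    intro s hs hsp
    have h1 := hY.dom (by simp; omega) hs hsp (by simp) (by simp)
    rw [Art.P, ← pow_mul] at h1
    rw [hfac]
    exact h1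
  by_cases h7 : p ^ f = 2 ∧ n = 7
  · obtain ⟨hq, rfl⟩ := h7
    have hp2 : p = 2 := by
      have : p ∣ 2 := hq ▸ dvd_pow_self p (by omega)
      exact (Nat.prime_dvd_prime_iff_eq hp Nat.prime_two).1 this
    subst hp2
    have hL := Seven.lat (F := F) (by rw [hF, hq]) hreg
    have hP := perf_of_lat hL (by norm_num) hp (by norm_num) hG hpS
    have hZ := center_eq_bot_of hG hP hreg
    obtain ⟨K, hK, N, h1, h2, h3⟩ := final_of hS hG hP hpS (hdom 127 (by norm_num) (by norm_num)) (h67 hq (Or.inr rfl))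
      (fun l hl hlm => cores numL hp hf hF hn hG hZ hl (fun h => hP.not_p_m (h ▸ hlm)) (by omega))
    refine ⟨127, _, K, hK, N, h1, h3 fun l hl hlp => cores numL hp hf hF hn hG hZ hl hlp (by omega), hP,
      Or.inr ⟨rfl, rfl, ?_, rfl⟩⟩
    exact Nat.pow_right_injective (le_refl 2) (by simpa using hq)
  by_cases h6 : p ^ f = 2 ∧ n = 6
  · obtain ⟨hq, rfl⟩ := h6
    have hp2 : p = 2 := by
      have : p ∣ 2 := hq ▸ dvd_pow_self p (by omega)
      exact (Nat.prime_dvd_prime_iff_eq hp Nat.prime_two).1 this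
    subst hp2
    have ho : orderOf ((2 ^ f : ℕ) : ZMod 31) = 6 - 1 := by
      rw [hq]
      have : Fact (Nat.Prime 5) := ⟨by norm_num⟩
      apply orderOf_eq_prime
      · decide
      · decide
    have hL := Cfsg.Agent.H277.CS.lat_psl_sub (F := F) hp hf hF (by norm_num : 3 ≤ 6) (by norm_num : (31 : ℕ).Prime) ho
    have hP := perf_of_lat hL (by norm_num) hp (by norm_num) hG hpS
    have hZ := center_eq_bot_of hG hP hreg
    obtain ⟨K, hK, N, h1, h2, h3⟩ := final_of hS hG hP hpS (hdom 31 (by norm_num) (by norm_num)) (h67 hq (Or.inl rfl))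
      (fun l hl hlm => cores numL hp hf hF hn hG hZ hl (fun h => hP.not_p_m (h ▸ hlm)) (by omega))
    exact ⟨31, _, K, hK, N, h1, h3 fun l hl hlp => cores numL hp hf hF hn hG hZ hl hlp (by omega), hP, Or.inl ho⟩
  -- the generic case
  obtain ⟨r, hr, hro, ha⟩ := exists_order (k := n) hp hf (by omega) (by
    rintro ⟨rfl, h⟩
    have h2 : n ∣ 6 := Dvd.intro_left _ h
    have h3 := Nat.le_of_dvd (by norm_num) h2
    have h4 : n = 6 := by
      rcases (by omega : n = 4 ∨ n = 5 ∨ n = 6) with rfl | rfl | rfl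
      · norm_num at h2
      · norm_num at h2
      · rfl
    subst h4
    have : f = 1 := by omega
    subst this
    exact h6 ⟨by norm_num, rfl⟩)
  obtain ⟨s, b, hs, hso, hb, hlcm⟩ : ∃ s b : ℕ, s.Prime ∧ orderOf ((p ^ f : ℕ) : ZMod s) = n - 1 ∧
      (∀ j, s ∣ p ^ j - 1 → b ∣ j) ∧ f * (n * (n - 1) / 2) < Nat.lcm (f * n) b := by
    by_cases h : p = 2 ∧ f * (n - 1) = 6
    · obtain ⟨rfl, h⟩ := h
      have h2 : n - 1 ∣ 6 := Dvd.intro_left _ h
      have h3 := Nat.le_of_dvd (by norm_num) h2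
      have h4 : n = 4 ∧ f = 2 := by
        rcases (by omega : n = 4 ∨ n = 5 ∨ n = 6 ∨ n = 7) with rfl | rfl | rfl | rfl
        · exact ⟨rfl, by omega⟩
        · norm_num at h2
        · norm_num at h2
        · exfalso
          have : f = 1 := by omega
          subst this
          exact h7 ⟨by norm_num, rfl⟩
      obtain ⟨rfl, rfl⟩ := h4
      refine ⟨7, 3, by norm_num, ?_, ?_, by decide⟩
      · have : Fact (Nat.Prime 3) := ⟨Nat.prime_three⟩
        apply orderOf_eq_prime
        · decide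
        · decide
      · intro j hj
        rw [Cfsg.Agent.Lib.Zsigmondy.dvd_pow_sub_one_iff (by norm_num)] at hj
        have h3 : orderOf ((2 : ℕ) : ZMod 7) = 3 := by
          have : Fact (Nat.Prime 3) := ⟨Nat.prime_three⟩
          apply orderOf_eq_prime
          · decide
          · decide
        rwa [h3] at hj
    · obtain ⟨s, hs, hso, hb⟩ := exists_order (k := n - 1) hp hf (by omega) h
      exact ⟨s, f * (n - 1), hs, hso, hb, lcm_lt hf hn⟩
  have hsp := ne_of_order hs hp hf (by omega) hso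
  have hrp := ne_of_order hr hp hf (by omega) hro
  have hL := Cfsg.Agent.H277.CS.lat_psl_sub (F := F) hp hf hF (by omega : 3 ≤ n) hs hso
  have hP := perf_of_lat hL hs hp hsp hG hpS
  have hZ := center_eq_bot_of hG hP hreg
  have hcore : ∀ t : ℕ, t.Prime → t ≠ p → pCore t G = ⊥ := by
    intro t ht htp
    by_cases h43 : n = 4 ∧ p ^ f = 3
    · obtain ⟨rfl, hq⟩ := h43
      have hp3 : p = 3 := by
        have : p ∣ 3 := hq ▸ dvd_pow_self p (by omega)
        exact (Nat.prime_dvd_prime_iff_eq hp Nat.prime_three).1 this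
      subst hp3
      have hcard : Nat.card (ProjectiveSpecialLinearGroup (Fin 4) F) = 6065280 := by
        have h := hY.eq
        rw [hq] at h
        have e1 : Art.dd (.L 4) 3 = 2 := by decide
        have e2 : (3 : ℕ) ^ Art.NN (.L 4) * Art.num (.L 4) 3 = 12130560 := by decide +kernel
        rw [e1, e2] at h
        omega
      by_cases ht2 : t = 2
      · subst ht2
        -- `s = 13`
        have hs13 : s = 13 := by
          rw [hq] at hso
          have h1 : s ∣ 3 ^ 3 - 1 := by
            rw [Cfsg.Agent.Lib.Zsigmondy.dvd_pow_sub_one_iff (by norm_num), hso]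
          have h2 : s ∣ 2 * 13 := h1
          rcases hs.dvd_mul.1 h2 with h3 | h3
          · exfalso
            have h4 : s ∣ 3 ^ 1 - 1 := h3
            rw [Cfsg.Agent.Lib.Zsigmondy.dvd_pow_sub_one_iff (by norm_num), hso] at h4
            norm_num at h4
          · exact (Nat.prime_dvd_prime_iff_eq hs (by norm_num)).1 h3
        subst hs13
        have hord : orderOf ((2 : ℕ) : ZMod 13) = 12 := by
          rw [orderOf_eq_iff (by norm_num)]
          exact ⟨by decide, by decide⟩
        refine pCore_eq_bot_of_order (b := 12) hP hZ ht ?_ ?_ ?_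
        · rw [hq]; decide
        · intro j hj
          rwa [Cfsg.Agent.Lib.Zsigmondy.dvd_pow_sub_one_iff (by norm_num), hord] at hj
        · intro c hc hcG j hj hjle
          have hfac2 : (Nat.card G).factorization 2 = 7 := by
            rw [hG.card, hcard]
            have h1 : (6065280 : ℕ) = 2 ^ 7 * 47385 := by norm_num
            rw [h1, Nat.factorization_mul (by norm_num) (by norm_num), Finsupp.add_apply,
              Nat.Prime.factorization_pow (by norm_num), Finsupp.single_eq_same,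
              Nat.factorization_eq_zero_of_not_dvd (by norm_num)]
          rw [hfac2] at hjle
          have hj0 : j = 0 := Nat.eq_zero_of_dvd_of_lt hj (by omega)
          rw [hj0, pow_zero, one_mul]
          obtain ⟨g, rfl⟩ := hc
          exact Nat.le_of_dvd Nat.card_pos (Subgroup.card_subgroup_dvd_card _)
      · refine pCore_eq_bot_of_class hG hZ ht fun x hx => ?_
        have h1 := PslSize.card_cent_le (F := F) (n := 4) (by omega) hx
        rw [Nat.card_eq_fintype_card (α := F), hF, hq] at h1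
        have h2 : t ^ (Nat.card (ProjectiveSpecialLinearGroup (Fin 4) F)).factorization t ≤ 13 := by
          rw [hcard]
          by_cases ht5 : t = 5
          · subst ht5
            have h1 : (6065280 : ℕ) = 5 ^ 1 * 1213056 := by norm_num
            rw [h1, Nat.factorization_mul (by norm_num) (by norm_num), Finsupp.add_apply,
              Nat.Prime.factorization_pow (by norm_num), Finsupp.single_eq_same,
              Nat.factorization_eq_zero_of_not_dvd (by norm_num)]
            norm_num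
          by_cases ht13 : t = 13
          · subst ht13
            have h1 : (6065280 : ℕ) = 13 ^ 1 * 466560 := by norm_num
            rw [h1, Nat.factorization_mul (by norm_num) (by norm_num), Finsupp.add_apply,
              Nat.Prime.factorization_pow (by norm_num), Finsupp.single_eq_same,
              Nat.factorization_eq_zero_of_not_dvd (by norm_num)]
            norm_num
          · rw [Nat.factorization_eq_zero_of_not_dvd, pow_zero]
            · norm_num
            · intro h
              have h1 : t ∣ 2 ^ 7 * 3 ^ 6 * 5 * 13 := h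
              rcases ht.dvd_mul.1 h1 with h1 | h1
              · rcases ht.dvd_mul.1 h1 with h1 | h1
                · rcases ht.dvd_mul.1 h1 with h1 | h1
                  · exact ht2 ((Nat.prime_dvd_prime_iff_eq ht Nat.prime_two).1 (ht.dvd_of_dvd_pow h1))
                  · exact htp ((Nat.prime_dvd_prime_iff_eq ht Nat.prime_three).1 (ht.dvd_of_dvd_pow h1))
                · exact ht5 ((Nat.prime_dvd_prime_iff_eq ht (by norm_num)).1 h1)
              · exact ht13 ((Nat.prime_dvd_prime_iff_eq ht (by norm_num)).1 h1)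
        calc t ^ (Nat.card (ProjectiveSpecialLinearGroup (Fin 4) F)).factorization t *
              Nat.card ↥(centralizer ({x} : Set (ProjectiveSpecialLinearGroup (Fin 4) F)))
            ≤ 13 * 3 ^ ((4 - 1) ^ 2 + 1) := Nat.mul_le_mul h2 h1
          _ ≤ _ := by rw [hcard]; norm_num
    · exact cores numL hp hf hF hn hG hZ ht htp h43
  obtain ⟨K, hK, N, hNn, hNs, h1, h2, h3, h4, h5, h8⟩ := psl_final hS hp hf hF hn hG hs hso hr hro ha hb hlcm hreg
    (NumSize.size hY.q_ge hn hY.eq) hcore
  refine ⟨s, _, K, hK, N, ⟨hNn, hNs, h1, ?_, ?_, h2, h3, h4, h5⟩, h8, hP, Or.inl hso⟩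
  · rw [h8]; exact fun h => hp.one_lt.ne' (Nat.dvd_one.1 h)
  · rw [h8]; exact fun h => hs.one_lt.ne' (Nat.dvd_one.1 h)

end Cfsg.Agent.H402.CS.PslOut
end

-- part: H221/CD/Defs
section
set_option linter.all false

/-!
# S3677, row `PΩ⁺(2n, q)`, `n` even: the data of the section (helper221)
-/

set_option autoImplicit false

namespace Cfsg.Agent.H221.CD

open Subgroup Cfsg Cfsg.Agent.H364 Cfsg.Agent.H902.Lte Cfsg.Agent.H902.Art Cfsg.Agent.H60.DE

universe u

/-- the kernel `K` and the simple normal subgroup `S` of `G/K` -/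
structure SD (G : Type u) [Group G] [Finite G] (n p f d m : ℕ) (K : Subgroup G) [K.Normal] (S : Subgroup (G ⧸ K)) :
    Prop where
  hn : 4 ≤ n
  hev : n % 2 = 0
  hY : Real (.D n) p f (Nat.card G)
  num : Num n (p ^ f) d m
  normal : S.Normal
  simple : IsSimpleGroup S
  nonab : ¬ ∀ a b : S, a * b = b * a
  cent : centralizer (S : Set (G ⧸ K)) = ⊥
  card : Nat.card K * (S.index * Nat.card S) = Nat.card G
  out : S.index ∣ Nat.card (Cfsg.Out S)
  solv : Group.IsSolvable K
  /-- the chosen primes are perfect -/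
  pp : ∀ r : ℕ, r.Prime → orderOf ((p ^ f : ℕ) : ZMod r) = d → H429.CS.PP G r m
  noEdge : ∀ r : ℕ, r.Prime → orderOf ((p ^ f : ℕ) : ZMod r) = d → NoEdge G r p
  not_dvd : ∀ r : ℕ, r.Prime → orderOf ((p ^ f : ℕ) : ZMod r) = d → ¬ r ∣ Nat.card K
  ex : ∃ r : ℕ, r.Prime ∧ orderOf ((p ^ f : ℕ) : ZMod r) = d ∧ r ∣ Nat.card S
  /-- the class sizes -/
  min : ∀ x : G, x ≠ 1 → (p ^ f) ^ (2 * (n - 1)) + 1 ≤ (centralizer ({x} : Set G)).index
  /-- `O_t(G) = 1` -/
  core : ∀ t : ℕ, t.Prime → t ≠ p → ¬ (p ^ f = 2 ∧ t = 3) → ¬ (p ^ f = 3 ∧ t = 2) →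
    ∀ N : Subgroup G, N.Normal → IsPGroup t N → N = ⊥
  kap : ∀ t : ℕ, t.Prime → t ∣ Nat.card K → t = p ∨ t ∣ m ∨ (p ^ f = 2 ∧ t = 3) ∨ (p ^ f = 3 ∧ t = 2)
  cong : ∀ r : ℕ, r.Prime → orderOf ((p ^ f : ℕ) : ZMod r) = d →
    r ^ (Nat.card G).factorization r ∣ p ^ (Nat.card K).factorization p - 1

end Cfsg.Agent.H221.CD
end

-- part: H402/CS/PsuAll
section
prune_inst 0x4313071443d80100000000092512020046c0005b00020000138800f420307b32280c229404e801c03422e220110010020030000d0420000000a2004000005002080aa54003300010c040097801084000000000000300000000000000000041004200000000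
set_option linter.all false
open scoped Cfsg.Agent.FastGrp

/-!
# `PSU_n(q)`, `n ≥ 4`: the simple section (helper402, S3677)
-/

set_option autoImplicit false

namespace Cfsg.Agent.H402.CS.PsuAll

open Subgroup Cfsg Cfsg.Agent.H902 Cfsg.Agent.H431.CS Cfsg.Agent.H402.CS.One Cfsg.Agent.H370.AAM
open Cfsg.Agent.H402.CS.PslRow Cfsg.Agent.H402.CS.Generic Cfsg.Agent.H402.CS.NuLight
open Cfsg.Agent.H363.Frat (pow_dvd_of_normal NonAdj)
open Cfsg.Agent.H969.CS (CO Cz mem_Cz mem_CO)

universe u v

/-- the least index of a proper subgroup of `PSU_n(q)` -/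
def mu (n q : ℕ) : ℕ :=
  if n = 4 then (q + 1) * (q ^ 3 + 1) else if Odd n then (q ^ n + 1) * (q ^ (n - 1) - 1) / (q ^ 2 - 1)
    else if q = 2 then 2 ^ (n - 1) * (2 ^ n - 1) / 3 else (q ^ n - 1) * (q ^ (n - 1) + 1) / (q ^ 2 - 1)

/-- the arithmetic input -/
def NumU : Prop :=
  ∀ {q n t M : ℕ}, 2 ≤ q → 4 ≤ n → t.Prime → ¬ t ∣ q → ¬ (n = 4 ∧ q = 3 ∧ t = 2) → ¬ (q = 2 ∧ t = 3) →
    Nat.gcd n (q + 1) * M =
      q ^ (n * (n - 1) / 2) * ∏ i ∈ Finset.range (n - 1), (if Even i then q ^ (i + 2) - 1 else q ^ (i + 2) + 1) →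
    t ^ M.factorization t ≤ mu n q

/-- the centralizer order of the elements of order `s`, `ord_s(-q) = n - 1` -/
def mU (n q : ℕ) : ℕ := ((q : ℤ) ^ (n - 1) - (-1) ^ (n - 1)).natAbs / Nat.gcd n (q + 1)

theorem gcd_dvd_pow (n q : ℕ) : Nat.gcd n (q + 1) ∣ ((q : ℤ) ^ (n - 1) - (-1) ^ (n - 1)).natAbs := by
  refine (Nat.gcd_dvd_right _ _).trans ?_
  rw [← Int.natCast_dvd_natCast, Int.dvd_natAbs]
  have h := sub_dvd_pow_sub_pow (q : ℤ) (-1) (n - 1)
  push_cast
  simpa only [_root_.Int.reduceNeg, _root_.sub_neg_eq_add] using h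

theorem mU_mul (n q : ℕ) : mU n q * Nat.gcd n (q + 1) = ((q : ℤ) ^ (n - 1) - (-1) ^ (n - 1)).natAbs :=
  Nat.div_mul_cancel (gcd_dvd_pow n q)

theorem pow_eq_one_of_dvd {r n q : ℕ} (h : r ∣ ((q : ℤ) ^ (n - 1) - (-1) ^ (n - 1)).natAbs) :
    (-(q : ZMod r)) ^ (n - 1) = 1 := by
  have h1 : (r : ℤ) ∣ (q : ℤ) ^ (n - 1) - (-1) ^ (n - 1) := Int.natCast_dvd.2 h
  have h2 : (((q : ℤ) ^ (n - 1) - (-1) ^ (n - 1) : ℤ) : ZMod r) = 0 := (ZMod.intCast_zmod_eq_zero_iff_dvd _ _).2 h1
  push_cast at h2
  rw [neg_pow, sub_eq_zero.1 h2, ← mul_pow, neg_one_mul, neg_neg, one_pow]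

theorem pow_eq_one {r n q : ℕ} (h : r ∣ mU n q) : (-(q : ZMod r)) ^ (n - 1) = 1 :=
  pow_eq_one_of_dvd (h.trans (Dvd.intro _ (mU_mul n q)))

/-- `3 ∤ m` for `q = 2`, `3 ∣ n` -/
theorem three_not_dvd {n : ℕ} (hn : 4 ≤ n) (h3 : 3 ∣ n) : ¬ 3 ∣ mU n 2 := by
  intro h
  have hg : Nat.gcd n (2 + 1) = 3 := Nat.gcd_eq_right h3
  have h1 := mU_mul n 2
  rw [hg] at h1
  have h9 : 9 ∣ ((2 : ℤ) ^ (n - 1) - (-1) ^ (n - 1)).natAbs := by
    have h2 : 3 * 3 ∣ mU n 2 * 3 := Nat.mul_dvd_mul_right h 3
    rw [h1] at h2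
    exact h2
  have h4 := pow_eq_one_of_dvd (q := 2) (r := 9) (n := n) (by exact_mod_cast h9)
  have h5 : orderOf (-((2 : ℕ) : ZMod 9)) = 3 := by
    rw [orderOf_eq_iff (by norm_num)]
    exact ⟨by decide, by decide⟩
  have h6 := orderOf_dvd_of_pow_eq_one h4
  rw [h5] at h6
  omega

variable {F : Type} [Field F] [Fintype F] {n p f : ℕ}

/-- the least index -/
theorem minIndex {q : ℕ} (hF : Fintype.card F = q ^ 2) (hq : 2 ≤ q) (hn : 4 ≤ n) (h26 : q = 2 → Even n → n ≠ 4 → 6 ∣ n)
    (H : Subgroup (PSU n F q)) (hH : H ≠ ⊤) : mu n q ≤ H.index := by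
  unfold mu
  split_ifs with h1 h2 h3
  · subst h1
    exact (Cfsg.Agent.S2150.result q hF hq).1 H hH
  · have h5 : n ≠ 4 := h1
    exact (Cfsg.Agent.S2151.result q hF hq n (by omega) h2).1 H hH
  · subst h3
    have h6 := h26 rfl (Nat.not_odd_iff_even.1 h2) h1
    exact (Cfsg.Agent.S2153.result (by rw [hF]; norm_num) n h6 (Nat.le_of_dvd (by omega) h6)).1 H hH
  · have h5 : n ≠ 5 := by
      rintro rfl
      exact h2 (by decide)
    exact (Cfsg.Agent.S2152.result q hF (by omega) n (by omega) (Nat.not_odd_iff_even.1 h2)).1 H hH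

theorem real_psu (hp : p.Prime) (hf : 1 ≤ f) (hF : Fintype.card F = (p ^ f) ^ 2) (hn : 4 ≤ n) :
    Art.Real (.U n) p f (Nat.card (PSU n F (p ^ f))) :=
  Names.psu_real (F := F) hp hf hF (by omega : 3 ≤ n) (by omega)

theorem fac_psu (hp : p.Prime) (hf : 1 ≤ f) (hF : Fintype.card F = (p ^ f) ^ 2) (hn : 4 ≤ n) :
    (Nat.card (PSU n F (p ^ f))).factorization p = f * (n * (n - 1) / 2) := by
  have h1 := (real_psu hp hf hF hn).P_self
  rw [Art.P, ← pow_mul] at h1
  exact Nat.pow_right_injective hp.two_le h1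

theorem p_dvd_psu (hp : p.Prime) (hf : 1 ≤ f) (hF : Fintype.card F = (p ^ f) ^ 2) (hn : 4 ≤ n) :
    p ∣ Nat.card (PSU n F (p ^ f)) := by
  by_contra hcon
  have hN := fac_psu hp hf hF hn
  rw [Nat.factorization_eq_zero_of_not_dvd hcon] at hN
  have hNpos : 0 < n * (n - 1) / 2 := by
    apply Nat.div_pos _ (by norm_num)
    nlinarith only [hn, Nat.sub_add_cancel (show 1 ≤ n by omega)]
  have : 0 < f * (n * (n - 1) / 2) := Nat.mul_pos hf hNpos
  omega

theorem center_psu (hp : p.Prime) (hf : 1 ≤ f) (hF : Fintype.card F = (p ^ f) ^ 2) (hn : 4 ≤ n) :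
    center (PSU n F (p ^ f)) = ⊥ := by
  have hfin : Finite (PSU n F (p ^ f)) := Quotient.finite _
  have hsim : IsSimpleGroup (PSU n F (p ^ f)) := Cfsg.Agent.S0283.result hF n (by omega) (by omega)
  rcases hsim.eq_bot_or_eq_top_of_normal (center (PSU n F (p ^ f))) inferInstance with h | h
  · exact h
  · exfalso
    -- a commutative simple group has prime order
    obtain ⟨k, ⟨x, hx⟩, -⟩ := Cfsg.Agent.H277.CS.reg_psu (F := F) (n := n) hp hf hF (by omega)
    have h3 : centralizer ({x} : Set (PSU n F (p ^ f))) = ⊤ := by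
      rw [eq_top_iff]
      intro g _
      rw [mem_centralizer_singleton_iff]
      have : g ∈ center (PSU n F (p ^ f)) := h ▸ mem_top g
      exact (mem_center_iff.1 this x).symm
    have h4 : Nat.card (PSU n F (p ^ f)) = p ^ k := by
      have hx' : Nat.card ↥(centralizer ({x} : Set (PSU n F (p ^ f)))) = p ^ k := hx
      rw [← hx', h3, Subgroup.card_top]
    obtain ⟨r, b, hr, hrp, -, -, -, ho, -⟩ := exists_prime (p := p) (f := f) (v := n) hp hf (by omega) (by omega)
    have h5 := prime_dvd_psu (m := n) hF (by omega) hr (by rw [ho]; omega) (by rw [ho])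
    rw [h4] at h5
    exact hrp ((Nat.prime_dvd_prime_iff_eq hr hp).1 (hr.dvd_of_dvd_pow h5))

/-- the cores for the primes different from `p` -/
theorem cores (numU : NumU) {G : Type u} [Group G] [Finite G] (hp : p.Prime) (hf : 1 ≤ f)
    (hF : Fintype.card F = (p ^ f) ^ 2) (hn : 4 ≤ n) (hG : Same G (PSU n F (p ^ f)))
    (h26 : p ^ f = 2 → Even n → n ≠ 4 → 6 ∣ n)
    (hZ : center G = ⊥) {t : ℕ} (ht : t.Prime) (htp : t ≠ p) (h43 : ¬ (n = 4 ∧ p ^ f = 3 ∧ t = 2))
    (h2 : ¬ (p ^ f = 2 ∧ t = 3)) : pCore t G = ⊥ := by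
  have hfin : Finite (PSU n F (p ^ f)) := Quotient.finite _
  have hY := real_psu (F := F) (n := n) hp hf hF hn
  have hq := hY.q_ge
  refine pCore_eq_bot_of_minIndex hG hZ ht (center_psu hp hf hF hn) fun H hH => ?_
  exact (numU hq hn ht (fun h => htp ((Nat.prime_dvd_prime_iff_eq ht hp).1 (ht.dvd_of_dvd_pow h))) h43 h2 hY.eq).trans
    (minIndex hF hq hn h26 H hH)

/-- `O_2(G) = 1` for `PSU_4(3)` -/
theorem core43 {G : Type u} [Group G] [Finite G] (hF : Fintype.card F = (3 ^ 1) ^ 2) (hG : Same G (PSU 4 F (3 ^ 1)))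
    {s : ℕ} (hso : orderOf (-((3 ^ 1 : ℕ) : ZMod s)) = 4 - 1) (hP : Perf G s 3 (mU 4 (3 ^ 1)))
    (hZ : center G = ⊥) : pCore 2 G = ⊥ := by
  have hfin : Finite (PSU 4 F (3 ^ 1)) := Quotient.finite _
  have hY := real_psu (F := F) (n := 4) Nat.prime_three le_rfl hF le_rfl
  have hcard : Nat.card (PSU 4 F (3 ^ 1)) = 3265920 := by
    have h := hY.eq
    have e1 : Art.dd (.U 4) (3 ^ 1) = 4 := by decide
    have e2 : (3 ^ 1 : ℕ) ^ Art.NN (.U 4) * Art.num (.U 4) (3 ^ 1) = 13063680 := by decide +kernel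
    rw [e1, e2] at h
    omega
  have hs7 : s = 7 := by
    have h1 : (-((3 ^ 1 : ℕ) : ZMod s)) ^ 3 = 1 := by
      have := pow_orderOf_eq_one (-((3 ^ 1 : ℕ) : ZMod s))
      rwa [hso] at this
    have h2 : ((28 : ℕ) : ZMod s) = 0 := by
      push_cast at h1 ⊢
      linear_combination -h1
    have h3 : s ∣ 2 ^ 2 * 7 := (ZMod.natCast_eq_zero_iff 28 s).1 h2
    rcases hP.hs.dvd_mul.1 h3 with h4 | h4
    · exfalso
      have h5 := (Nat.prime_dvd_prime_iff_eq hP.hs Nat.prime_two).1 (hP.hs.dvd_of_dvd_pow h4)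
      subst h5
      have h6 : orderOf (-((3 ^ 1 : ℕ) : ZMod 2)) = 1 := by rw [orderOf_eq_one_iff]; decide
      omega
    · exact (Nat.prime_dvd_prime_iff_eq hP.hs (by norm_num)).1 h4
  subst hs7
  have hord : orderOf ((2 : ℕ) : ZMod 7) = 3 := by
    rw [orderOf_eq_iff (by norm_num)]
    exact ⟨by decide, by decide⟩
  refine pCore_eq_bot_of_order (b := 3) hP hZ Nat.prime_two ?_ ?_ ?_
  · have : mU 4 (3 ^ 1) = 7 := by decide
    rw [this]
    norm_num
  · intro j hj
    rwa [Cfsg.Agent.Lib.Zsigmondy.dvd_pow_sub_one_iff (by norm_num), hord] at hj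
  · intro c hc hcG j hj hjle
    have hfac2 : (Nat.card G).factorization 2 = 7 := by
      rw [hG.card, hcard]
      have h1 : (3265920 : ℕ) = 2 ^ 7 * 25515 := by norm_num
      rw [h1, Nat.factorization_mul (by norm_num) (by norm_num), Finsupp.add_apply,
        Nat.Prime.factorization_pow (by norm_num), Finsupp.single_eq_same,
        Nat.factorization_eq_zero_of_not_dvd (by norm_num)]
    rw [hfac2] at hjle
    have hj6 : 2 ^ j ≤ 2 ^ 6 := Nat.pow_le_pow_right (by norm_num) (by omega)
    have h112 : ∀ c ∈ CO G, c ≠ Nat.card G → 112 * c ≤ Nat.card (PSU 4 F (3 ^ 1)) := by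
      refine co_bound hG (P := fun c => 112 * c ≤ Nat.card (PSU 4 F (3 ^ 1))) ?_
      intro x hx
      have h1 : centralizer ({x} : Set (PSU 4 F (3 ^ 1))) ≠ ⊤ := by
        intro h
        apply hx
        rw [← Subgroup.mem_bot, ← center_psu Nat.prime_three le_rfl hF le_rfl, Subgroup.mem_center_iff]
        intro g
        exact mem_centralizer_singleton_iff.1 (h ▸ Subgroup.mem_top g)
      have h2 := (Cfsg.Agent.S2150.result (3 ^ 1) hF (by norm_num)).1 _ h1
      have h3 := Subgroup.card_mul_index (centralizer ({x} : Set (PSU 4 F (3 ^ 1))))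
      norm_num at h2
      rw [← h3, mul_comm]
      exact Nat.mul_le_mul_left _ h2
    have h1 := h112 c hc hcG
    rw [← hG.card] at h1
    calc 2 ^ j * c ≤ 2 ^ 6 * c := Nat.mul_le_mul_right _ hj6
      _ ≤ 112 * c := Nat.mul_le_mul_right _ (by norm_num)
      _ ≤ _ := h1

theorem neg_two_three : orderOf (-(2 : ZMod 3)) = 1 := by rw [orderOf_eq_one_iff]; decide

/-- the two primes -/
theorem exists_rs (hp : p.Prime) (hf : 1 ≤ f) (hn : 4 ≤ n) (h42 : ¬ (p = 2 ∧ f = 1 ∧ n = 4)) :
    ∃ r a s b : ℕ, r.Prime ∧ s.Prime ∧ r ≠ p ∧ s ≠ p ∧ (∀ j, r ∣ p ^ j - 1 → a ∣ j) ∧ (∀ j, s ∣ p ^ j - 1 → b ∣ j) ∧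
      orderOf (-((p ^ f : ℕ) : ZMod r)) = n ∧ orderOf (-((p ^ f : ℕ) : ZMod s)) = n - 1 ∧
      f * (n * (n - 1) / 2) < Nat.lcm a b := by
  obtain ⟨r, a, hr, hrp, hra, -, -, hro, ha⟩ := exists_prime (p := p) (f := f) (v := n) hp hf (by omega) (by omega)
  obtain ⟨s, b, hs, hsp, hsb, -, -, hso, hb⟩ := exists_prime (p := p) (f := f) (v := n - 1) hp hf (by omega) (by omega)
  refine ⟨r, a, s, b, hr, hs, hrp, hsp, fun j => (hra j).1, fun j => (hsb j).1, hro, hso, ?_⟩
  rcases ha with rfl | ⟨rfl, rfl, rfl, rfl, -⟩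
  · rcases hb with rfl | ⟨rfl, rfl, h6, rfl, -⟩
    · have hpos : 0 < n * (n - 1) := Nat.mul_pos (by omega) (by omega)
      have h1 : f * (n * (n - 1) / 2) < f * (n * (n - 1)) := Nat.mul_lt_mul_of_pos_left (by omega) hf
      refine h1.trans_le ?_
      have hcop : Nat.Coprime n (n - 1) := by
        obtain ⟨k, rfl⟩ : ∃ k, n = k + 1 := ⟨n - 1, by omega⟩
        rw [Nat.add_sub_cancel]
        exact (Nat.coprime_self_add_left (m := k) (n := 1)).2 (Nat.coprime_one_left k)
      rcases Nat.even_or_odd n with he | ho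
      · have ho : Odd (n - 1) := by
          obtain ⟨k, hk⟩ := he
          exact ⟨k - 1, by omega⟩
        rw [mul_comm n, Nat.lcm_comm]
        exact lt_lcm ho he hcop.symm (by omega) (by omega)
      · have he : Even (n - 1) := by
          obtain ⟨k, hk⟩ := ho
          exact ⟨k, by omega⟩
        exact lt_lcm ho he hcop (by omega) (by omega)
    · have h7 : n = 7 := by omega
      subst h7
      have : al 7 = 14 := al_odd (by decide)
      rw [this]
      decide
  · rcases hb with rfl | ⟨-, -, h6, -, -⟩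
    · have : al 5 = 10 := al_odd (by decide)
      show 2 * (6 * (6 - 1) / 2) < Nat.lcm 3 (2 * al 5)
      rw [this]
      decide
    · omega

/-- **The simple section, `PSU_n(q)`, `n ≥ 4`**, for `q ≥ 3`, or `q = 2` and `3 ∣ n`. -/
theorem psu_sect (numU : NumU) {G : Type u} [Group G] [Finite G] (hS : Solv.{u}) (hp : p.Prime) (hf : 1 ≤ f)
    (hF : Fintype.card F = (p ^ f) ^ 2) (hn : 4 ≤ n) (hG : Same G (PSU n F (p ^ f)))
    (hlat : ∀ s : ℕ, s.Prime → orderOf (-((p ^ f : ℕ) : ZMod s)) = n - 1 → Lat (PSU n F (p ^ f)) p s (mU n (p ^ f)))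
    (hcase : 3 ≤ p ^ f ∨ (p = 2 ∧ f = 1 ∧ 3 ∣ n)) :
    ∃ (s : ℕ) (K : Subgroup G) (_ : K.Normal) (N : Subgroup (G ⧸ K)), Sect G p s K N ∧ Perf G s p (mU n (p ^ f)) ∧
      orderOf (-((p ^ f : ℕ) : ZMod s)) = n - 1 ∧
      (∀ r : ℕ, r.Prime → r ≠ p → orderOf (p : ZMod r) = f * Art.DM (.U n) → ¬ r ∣ Nat.card ↥K) := by
  have hfin : Finite (PSU n F (p ^ f)) := Quotient.finite _
  have hY := real_psu (F := F) (n := n) hp hf hF hn
  have hpS := p_dvd_psu (F := F) (n := n) hp hf hF hn
  have hfac := fac_psu (F := F) (n := n) hp hf hF hn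
  have h42 : ¬ (p = 2 ∧ f = 1 ∧ n = 4) := by
    rintro ⟨rfl, rfl, rfl⟩
    rcases hcase with h | ⟨-, -, h⟩
    · norm_num at h
    · norm_num at h
  have hq2 : p ^ f = 2 → p = 2 ∧ f = 1 := by
    intro hq
    have hp2 : p = 2 := by
      have : p ∣ 2 := hq ▸ dvd_pow_self p (by omega)
      exact (Nat.prime_dvd_prime_iff_eq hp Nat.prime_two).1 this
    subst hp2
    exact ⟨rfl, Nat.pow_right_injective (le_refl 2) (by simpa using hq)⟩
  have h26 : p ^ f = 2 → Even n → n ≠ 4 → 6 ∣ n := by
    intro hq he _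
    rcases hcase with h | ⟨-, -, h⟩
    · omega
    · have := he.two_dvd
      omega
  have hdom : ∀ s : ℕ, s.Prime → s ≠ p → s ^ (Nat.card (PSU n F (p ^ f))).factorization s ≤
      p ^ (Nat.card (PSU n F (p ^ f))).factorization p := by
    intro s hs hsp
    have h1 := hY.dom (by simp) hs hsp (by
        rintro ⟨h, -⟩
        have : n = 3 := by simpa using h
        omega) (by
        rintro ⟨h, h', -⟩
        have : n = 4 := by simpa using h
        obtain ⟨h3, h4⟩ := hq2 h'
        exact h42 ⟨h3, h4, this⟩)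
    rw [Art.P, ← pow_mul] at h1
    rw [hfac]
    exact h1
  obtain ⟨kr, hreg, -⟩ := Cfsg.Agent.H277.CS.reg_psu (F := F) (n := n) hp hf hF (by omega)
  obtain ⟨r, a, s, b, hr, hs, hrp, hsp, ha, hb, hro, hso, hlcm⟩ := exists_rs hp hf hn h42
  have hL := hlat s hs hso
  have hP := perf_of_lat hL hs hp hsp hG hpS
  have hZ := center_eq_bot_of hG hP ⟨kr, hreg⟩
  have hrS : r ∣ Nat.card (PSU n F (p ^ f)) := prime_dvd_psu (m := n) hF (by omega) hr (by rw [hro]; omega) (by rw [hro])
  have hOp : pCore p G = ⊥ := pCore_eq_bot hG hP hZ hr hrS ha hb hfac hlcm fun x hx hrx =>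
    Cfsg.Agent.H157.CS.size_psu_top hp hf hF hn hr hro x hx hrx
  -- the cores
  have hcore : ∀ t : ℕ, t.Prime → t ≠ p → ¬ (p ^ f = 2 ∧ t = 3) → pCore t G = ⊥ := by
    intro t ht htp h23
    by_cases h43 : n = 4 ∧ p ^ f = 3 ∧ t = 2
    · obtain ⟨rfl, hq, rfl⟩ := h43
      have hp3 : p = 3 := by
        have : p ∣ 3 := hq ▸ dvd_pow_self p (by omega)
        exact (Nat.prime_dvd_prime_iff_eq hp Nat.prime_three).1 this
      subst hp3
      have hf1 : f = 1 := Nat.pow_right_injective (by norm_num : 2 ≤ 3) (by simpa using hq)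
      subst hf1
      exact core43 hF hG hso hP hZ
    · exact cores numU hp hf hF hn hG h26 hZ ht htp h43 h23
  have h3m : p ^ f = 2 → ¬ 3 ∣ mU n (p ^ f) := by
    intro hq
    rcases hcase with h | ⟨-, -, h⟩
    · omega
    · rw [hq]
      exact three_not_dvd hn h
  obtain ⟨K, hK, N, h1, h2, h3⟩ := final_of hS hG hP hpS (hdom s hs hsp) hOp
    (fun l hl hlm => hcore l hl (fun h => hP.not_p_m (h ▸ hlm)) (by rintro ⟨h, rfl⟩; exact h3m h hlm))
  refine ⟨s, K, hK, N, h1, hP, hso, fun t ht htp hto => ?_⟩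
  rcases Nat.lt_or_ge 2 (p ^ f) with hq | hq
  · -- `K = 1`
    rw [h3 fun l hl hlp => hcore l hl hlp (by omega)]
    exact fun h => ht.one_lt.ne' (Nat.dvd_one.1 h)
  · -- `q = 2`
    have hq' : p ^ f = 2 := le_antisymm hq hY.q_ge
    obtain ⟨rfl, rfl⟩ := hq2 hq'
    have h3n : 3 ∣ n := by
      rcases hcase with h | ⟨-, -, h⟩
      · omega
      · exact h
    have := Fact.mk ht
    have ht2 : (2 : ZMod t) ≠ 0 := by
      intro h
      have h4 : t ∣ 2 := by
        rw [← ZMod.natCast_eq_zero_iff]; exact_mod_cast h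
      exact htp ((Nat.prime_dvd_prime_iff_eq ht Nat.prime_two).1 h4)
    rcases Nat.even_or_odd n with he | ho
    · -- `ord (-2) = n - 1`
      have hDM : Art.DM (.U n) = 2 * (n - 1) := if_pos he
      have hno : Odd (n - 1) := by
        obtain ⟨k, hk⟩ := he
        exact ⟨k - 1, by (clear * - hn hk; omega)⟩
      have h5 : orderOf (-(2 : ZMod t)) = n - 1 := by
        apply orderOf_neg_of ht2
        rw [al_odd hno, ← hDM, ← one_mul (Art.DM _), ← hto]
        norm_cast
      have hL' := hlat t ht (by rw [← h5]; norm_num)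
      have hP' := perf_of_lat hL' ht hp htp hG hpS
      intro htK
      have h6 : 2 ^ (Nat.card G).factorization 2 ∣ K.index := by
        have h7 : 2 ^ (Nat.card G).factorization 2 ∣ Nat.card ↥K * K.index := by
          rw [Subgroup.card_mul_index]; exact Nat.ordProj_dvd _ _
        exact (Nat.Coprime.pow_left _ ((Nat.Prime.coprime_iff_not_dvd Nat.prime_two).2 h1.pK)).dvd_of_dvd_mul_left h7
      have h8 := pow_dvd_of_normal Nat.prime_two ht htp.symm hP'.na.symm K h6
      have h9 := hdom t ht htp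
      have h10 : t ^ (Nat.card ↥K).factorization t ≤ t ^ (Nat.card G).factorization t := by
        apply Nat.pow_le_pow_right ht.pos
        exact (Nat.factorization_le_iff_dvd Nat.card_pos.ne' Nat.card_pos.ne').2 (Subgroup.card_subgroup_dvd_card K) t
      rw [← hG.card] at h9
      have h11 : 1 < t ^ (Nat.card ↥K).factorization t :=
        Nat.one_lt_pow ((ht.factorization_pos_of_dvd Nat.card_pos.ne' htK).ne') ht.one_lt
      have h12 := Nat.le_of_dvd (by omega) h8
      omega
    · -- `ord (-2) = n`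
      have hDM : Art.DM (.U n) = 2 * n := if_neg (Nat.not_even_iff_odd.2 ho)
      have h5 : orderOf (-(2 : ZMod t)) = n := by
        apply orderOf_neg_of ht2
        rw [al_odd ho, ← hDM, ← one_mul (Art.DM _), ← hto]
        norm_cast
      refine h2 t ht ?_ (hcore t ht htp ?_)
      · intro h
        have h6 := orderOf_dvd_of_pow_eq_one (pow_eq_one h)
        have h7 : orderOf (-((2 ^ 1 : ℕ) : ZMod t)) = n := by rw [← h5]; norm_num
        rw [h7] at h6
        have := Nat.le_of_dvd (by omega) h6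
        omega
      · rintro ⟨-, rfl⟩
        have h6 : n = 1 := h5.symm.trans neg_two_three
        omega

end Cfsg.Agent.H402.CS.PsuAll
end

-- part: H402/CS/LightAll
section
set_option linter.all false
open scoped Cfsg.Agent.FastGrp

/-!
# S3677: the light parts of the rows `PSL_n(q)`, `PSU_n(q)`, `n ≥ 4` (helper402)
-/

set_option autoImplicit false

namespace Cfsg.Agent.H402.CS.LightAll

open Subgroup Cfsg Cfsg.Agent.H902 Cfsg.Agent.H431.CS Cfsg.Agent.H402.CS.One Cfsg.Agent.H370.AAM Matrix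
open Cfsg.Agent.H402.CS.Generic
open Cfsg.Agent.H363.Frat (NonAdj)

universe u v

theorem numL : PslAll.NumL := fun hq hn ht htq h43 hM => Cfsg.Agent.H365.NumL.num_psl hq hn ht htq h43 hM

theorem numU : PsuAll.NumU := fun hq hn ht htq h43 h2 hM => Cfsg.Agent.H365.NumU.num_psu hq hn ht htq h43 h2 hM

variable {F : Type} [Field F] [Fintype F] {n p f : ℕ}

/-- **`PSL_n(q)`, `n ≥ 4`.** -/
theorem psl {G : Type u} [Group G] [Finite G] (hS : Solv.{u}) (hp : p.Prime) (hf : 1 ≤ f)
    (hF : Fintype.card F = p ^ f) (hn : 4 ≤ n) (hG : Same G (ProjectiveSpecialLinearGroup (Fin n) F)) :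
    ∃ (s : ℕ) (K : Subgroup G) (_ : K.Normal) (N : Subgroup (G ⧸ K)), Sect G p s K N ∧ Nat.card ↥K = 1 ∧
      s.Prime ∧ s ≠ p ∧ NonAdj (G ⧸ K) s p ∧
      (orderOf ((p ^ f : ℕ) : ZMod s) = n - 1 ∨ (s = 127 ∧ p = 2 ∧ f = 1 ∧ n = 7)) := by
  obtain ⟨k, hk, -⟩ := Cfsg.Agent.H277.CS.reg_psl (F := F) (n := n) hp hf hF (by omega)
  obtain ⟨s, m, K, hK, N, h1, h2, h3, h4⟩ := PslOut.psl_sect2 numL hS hp hf hF hn hG ⟨k, hk⟩ (by
    intro hq h67
    rcases h67 with rfl | rfl
    · exact Cfsg.Agent.H277.CS.pCore_six (by rw [hF, hq]) hG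
    · exact Cfsg.Agent.H277.CS.pCore_seven (by rw [hF, hq]) hG)
  exact ⟨s, K, hK, N, h1, h2, h3.hs, h3.hsp, h3.na.quotient K, h4⟩

/-- **`PSU_n(q)`, `n ≥ 4`**, `q ≥ 3` or `q = 2`, `3 ∣ n`. -/
theorem psu {G : Type u} [Group G] [Finite G] (hS : Solv.{u}) (hp : p.Prime) (hf : 1 ≤ f)
    (hF : Fintype.card F = (p ^ f) ^ 2) (hn : 4 ≤ n) (hG : Same G (PSU n F (p ^ f)))
    (hcase : 3 ≤ p ^ f ∨ (p = 2 ∧ f = 1 ∧ 3 ∣ n)) :
    ∃ (s : ℕ) (K : Subgroup G) (_ : K.Normal) (N : Subgroup (G ⧸ K)), Sect G p s K N ∧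
      s.Prime ∧ s ≠ p ∧ NonAdj (G ⧸ K) s p ∧ orderOf (-((p ^ f : ℕ) : ZMod s)) = n - 1 ∧
      (∀ r : ℕ, r.Prime → r ≠ p → orderOf (p : ZMod r) = f * Art.DM (.U n) → ¬ r ∣ Nat.card ↥K) := by
  obtain ⟨s, K, hK, N, h1, h2, h3, h4⟩ := PsuAll.psu_sect numU hS hp hf hF hn hG
    (fun s hs hso => Cfsg.Agent.H446.CS.lat_psu_sub hp hf hF hn hs hso) hcase
  exact ⟨s, K, hK, N, h1, h2.hs, h2.hsp, h2.na.quotient K, h3, h4⟩

/-- the lattices for `PSU_n(2)`, `3 ∤ n` -/
theorem lat_two (hF : Fintype.card F = 4) (hn : 4 ≤ n) (h3 : ¬ 3 ∣ n) :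
    ∀ t : ℕ, t.Prime → t ≠ 2 → (orderOf (-(2 : ZMod t)) = n ∨ orderOf (-(2 : ZMod t)) = n - 1) →
      LatW (PSU n F 2) 2 t := by
  intro t ht _ ho
  rcases ho with ho | ho
  · exact (Cfsg.Agent.H157.CS.lat_psu_two hF (by omega) h3 ht ho).toLatW
  · have h := Cfsg.Agent.H446.CS.lat_psu_sub (F := F) (f := 1) Nat.prime_two le_rfl (by rw [hF]; norm_num) hn ht
      (by rw [← ho]; norm_num)
    have h' := h.toLatW
    simpa using h'

end Cfsg.Agent.H402.CS.LightAll
end

-- part: H370/AAM/OutP
section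
prune_inst 0x43130414035a2000000000092132020047c0005b000200001798009420b07f362808221404e801803426aa28110410060030000d0420000000a2004000005002080a8560033500d0c040097801084000000000000300000000000000000041004200000000
set_option linter.all false
open scoped Cfsg.Agent.FastGrp

/-!
# The `p`-part of `|Out S|` for the simple groups not of Lie type in characteristic `p` (helper370)
-/

set_option autoImplicit false

namespace Cfsg.Agent.H370.AAM

open Cfsg Cfsg.Agent.OrdDiv Finset
open Cfsg.Agent.H365.PPart Cfsg.Agent.H365.CubeA Cfsg.Agent.H365.CubeF Cfsg.Agent.H365.CubeR Cfsg.Agent.H365.Cube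
  Cfsg.Agent.H365.CubeS Cfsg.Agent.H364.Slack Cfsg.Agent.H934.OutB

universe u v

theorem not_isMulComm {S : Type u} [Group S] (hna : ¬ ∀ a b : S, a * b = b * a) : ¬ IsMulCommutative S :=
  fun h => hna fun a b => h.is_comm.comm a b

/-- `2 ^ |Out S|_p ≤ (|S|_{p'}) ^ 3` -/
theorem two_pow_out {S : Type u} [Group S] [Finite S] [IsSimpleGroup S] (hk : IsKnownSimple' S)
    (hna : ¬ ∀ a b : S, a * b = b * a) {p δ B : ℕ} (hp : p.Prime) (hd : p ^ δ ∣ Nat.card (Cfsg.Out S))
    (hB : Nat.card S ≤ p ^ (Nat.card S).factorization p * B) : 2 ^ (p ^ δ) ≤ B ^ 3 := by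
  have := Fact.mk hp
  have hna' := not_isMulComm hna
  obtain ⟨P⟩ : Nonempty (Sylow p S) := inferInstance
  have hP : Nat.card P = p ^ (Nat.card S).factorization p := P.card_eq_multiplicity
  have hne : (P : Subgroup S) ≠ ⊤ := by
    intro h
    have hS : IsPGroup p S := by
      have h1 := P.isPGroup'
      intro x
      obtain ⟨k, hk⟩ := h1 ⟨x, by rw [h]; exact Subgroup.mem_top x⟩
      exact ⟨k, congrArg Subtype.val hk⟩
    have hnt : Nontrivial (Subgroup.center S) := hS.center_nontrivial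
    rcases IsSimpleGroup.eq_bot_or_eq_top_of_normal (Subgroup.center S) inferInstance with h1 | h1
    · rw [h1] at hnt
      exact not_nontrivial _ hnt
    · apply hna
      intro a b
      have h2 : b ∈ Subgroup.center S := by rw [h1]; exact Subgroup.mem_top b
      exact (Subgroup.mem_center_iff.1 h2 a)
  have h1 := Cfsg.Agent.H934.OutAll.bd hna' hk (P : Subgroup S) hne
  have h2 := (P : Subgroup S).card_mul_index
  have h3 : (P : Subgroup S).index ≤ B := by
    have h4 : Nat.card (P : Subgroup S) = p ^ (Nat.card S).factorization p := hP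
    have h5 : 0 < p ^ (Nat.card S).factorization p := pow_pos hp.pos _
    refine Nat.le_of_mul_le_mul_left ?_ h5
    calc p ^ (Nat.card S).factorization p * (P : Subgroup S).index = Nat.card S := by rw [← h4]; exact h2
      _ ≤ _ := hB
  have h4 : p ^ δ ≤ Nat.card (Cfsg.Out S) := by
    refine Nat.le_of_dvd ?_ hd
    have h5 := card_out_mul S hna'
    have h6 : Finite (MulAut S) := Finite.of_injective (fun f : MulAut S => (f : S → S)) DFunLike.coe_injective
    rcases Nat.eq_zero_or_pos (Nat.card (Cfsg.Out S)) with h7 | h7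
    · rw [h7, zero_mul] at h5
      exact absurd h5.symm Nat.card_pos.ne'
    · exact h7
  calc 2 ^ (p ^ δ) ≤ 2 ^ Nat.card (Cfsg.Out S) := Nat.pow_le_pow_right (by norm_num) h4
    _ ≤ _ := h1
    _ ≤ B ^ 3 := Nat.pow_le_pow_left h3 3

/-! ### the orders of the outer automorphism groups -/

section out

variable {S : Type u} [Group S] [Finite S] [IsSimpleGroup S] (hna : ¬ ∀ a b : S, a * b = b * a)
include hna

theorem out_psl {F : Type} [Field F] [Fintype F] {n q p f : ℕ} (hp : p.Prime) (hf : 1 ≤ f) (hF : Fintype.card F = p ^ f)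
    (hn : 2 ≤ n) (h2 : n = 2 → 4 ≤ p ^ f) (e : S ≃* Matrix.ProjectiveSpecialLinearGroup (Fin n) F) (hq : q = p ^ f) :
    Nat.card (Cfsg.Out S) = (if n = 2 then 1 else 2) * Nat.gcd n (q - 1) * f := by
  have := Fact.mk hp
  have h1 := Cfsg.Agent.S0813.result p f hf hF n hn h2
  rw [Cfsg.Agent.H364.OutLie.card_pgl hn, hF] at h1
  refine card_out_of_aut (not_isMulComm hna) ?_
  rw [Cfsg.Agent.H364.OutLie.mulaut_congr e, h1, Nat.card_congr e.toEquiv, hq]; ring

theorem out_psu {F : Type} [Field F] [Fintype F] {n q p f : ℕ} (hp : p.Prime) (hf : 1 ≤ f) (hq : q = p ^ f)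
    (hF : Fintype.card F = q ^ 2) (hn : 3 ≤ n) (h32 : ¬ (n = 3 ∧ q = 2)) (e : S ≃* PSU n F q) :
    Nat.card (Cfsg.Out S) = Nat.gcd n (q + 1) * (2 * f) := by
  have := Fact.mk hp
  have h1 := Cfsg.Agent.S0815.result p f hf hq hF n hn h32
  refine card_out_of_aut (not_isMulComm hna) ?_
  rw [Cfsg.Agent.H364.OutLie.mulaut_congr e, h1, Nat.card_congr e.toEquiv]

theorem out_alt {n : ℕ} (hn : 5 ≤ n) (e : S ≃* ↥(alternatingGroup (Fin n))) :
    (n ≠ 6 → Nat.card (Cfsg.Out S) = 2) ∧ Nat.card (Cfsg.Out S) ∣ 4 := by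
  have hs := Cfsg.Agent.H934.OutAll.simple_of e
  have hna' := Cfsg.Agent.H934.OutAll.not_comm_of (not_isMulComm hna) e
  have h1 : n ≠ 6 → Nat.card (Cfsg.Out S) = 2 := fun h6 => by
    rw [card_out_congr e]
    exact Cfsg.Agent.H934.OutAll.card_out_alt hn h6 hna'
  refine ⟨h1, ?_⟩
  by_cases h6 : n = 6
  · subst h6
    have : Fact (Nat.Prime 3) := ⟨by norm_num⟩
    have : Fintype (GaloisField 3 2) := Fintype.ofFinite _
    have hF : Fintype.card (GaloisField 3 2) = 9 := by
      rw [← Nat.card_eq_fintype_card, GaloisField.card 3 2 (by norm_num)]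
      norm_num
    obtain ⟨e'⟩ := Cfsg.Agent.S0254.result hF
    rw [out_psl hna (F := GaloisField 3 2) (n := 2) (q := 9) (p := 3) (f := 2) Nat.prime_three (by norm_num)
      (by rw [hF]; norm_num) le_rfl (fun _ => by norm_num) (e.trans e'.symm) (by norm_num)]
    norm_num
  · rw [h1 h6]; norm_num

omit hna [Finite S] [IsSimpleGroup S] in
theorem out_key {X : Type v} [Group X] (h : Nat.card (Cfsg.Out X) ≤ 2) (e : Nonempty (S ≃* X)) :
    Nat.card (Cfsg.Out S) ≤ 2 := by
  obtain ⟨e⟩ := e
  rwa [card_out_congr e]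

omit hna [Finite S] [IsSimpleGroup S] in
theorem out_sporadic (h : Cfsg.IsSporadicGroup S) : Nat.card (Cfsg.Out S) ≤ 2 := by
  rcases h with h | h | h | h | h | h | h | h | h | h | h | h | h | h | h | h | h | h | h | h | h | h | h | h | h | h
  · exact out_key (by rw [Cfsg.Agent.S2060.result]; try norm_num) h
  · exact out_key (by rw [Cfsg.Agent.S2061.result]; try norm_num) h
  · exact out_key (by rw [Cfsg.Agent.S2062.result]; try norm_num) h
  · exact out_key (by rw [Cfsg.Agent.S2063.result]; try norm_num) h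
  · exact out_key (by rw [Cfsg.Agent.S2064.result]; try norm_num) h
  · exact out_key (by rw [Cfsg.Agent.S2065.result]; try norm_num) h
  · exact out_key (by rw [Cfsg.Agent.S2066.result]; try norm_num) h
  · obtain ⟨F, _, _, ω, hF, hω, e⟩ := h
    exact out_key (by rw [Cfsg.Agent.S2067.result hF ω hω]) e
  · exact out_key (by rw [Cfsg.Agent.S2068.result]; try norm_num) h
  · exact out_key (by rw [Cfsg.Agent.S2069.result]; try norm_num) h
  · exact out_key (by rw [Cfsg.Agent.S2070.result]; try norm_num) h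
  · exact out_key (by rw [Cfsg.Agent.S2071.result]; try norm_num) h
  · exact out_key (by rw [Cfsg.Agent.S2073.result]; try norm_num) h
  · exact out_key (by rw [Cfsg.Agent.S2072.result]; try norm_num) h
  · exact out_key (by rw [Cfsg.Agent.S2074.result]; try norm_num) h
  · exact out_key (by rw [Cfsg.Agent.S2075.result]; try norm_num) h
  · exact out_key (by rw [Cfsg.Agent.S2077.result]; try norm_num) h
  · exact out_key (by rw [Cfsg.Agent.S2078.result]; try norm_num) h
  · exact out_key (by rw [Cfsg.Agent.S2076.result]; try norm_num) h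
  · exact out_key (by rw [Cfsg.Agent.S2079.result]; try norm_num) h
  · exact out_key (by rw [Cfsg.Agent.S2080.result]; try norm_num) h
  · exact out_key (by rw [Cfsg.Agent.S2081.result]; try norm_num) h
  · exact out_key (by rw [Cfsg.Agent.S2082.result]; try norm_num) h
  · exact out_key (by rw [Cfsg.Agent.S2083.result]; try norm_num) h
  · exact out_key (by rw [Cfsg.Agent.S2084.result]; try norm_num) h
  · exact out_key (by rw [Cfsg.Agent.S2085.result]; try norm_num) h

theorem out_tits (h : Cfsg.Lie.IsoTits S) : Nat.card (Cfsg.Out S) ≤ 2 := by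
  obtain ⟨e⟩ := h
  obtain ⟨e'⟩ := Cfsg.Agent.TitsK.exists_equiv
  have hfin : Finite Cfsg.Agent.FourTwo.Base.LL := by infer_instance
  have h1 : Nat.card (Cfsg.Out ↥Cfsg.Agent.TitsK.TT) ∣ 2 := Cfsg.Agent.TitsK.tdata.index_inn
  exact out_key ((Nat.le_of_dvd (by norm_num) h1).trans (by norm_num)) ⟨e.trans e'⟩

end out

/-! ### numbers -/

/-- `2 ^ g + 1` a power of the odd prime `p ∣ g`: only `9` -/
theorem fermat_case {p g k : ℕ} (hp : p.Prime) (hp2 : p ≠ 2) (hg : 1 ≤ g) (hpg : p ∣ g) (h : 2 ^ g + 1 = p ^ k) :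
    p = 3 ∧ g = 3 := by
  have := Fact.mk hp
  have hodd : Odd p := hp.odd_of_ne_two hp2
  obtain ⟨m, rfl⟩ := hpg
  have hm : 1 ≤ m := Nat.pos_of_ne_zero (by rintro rfl; omega)
  have hx : (2 ^ (p * m) : ℕ) = (2 ^ m) ^ p := by rw [← pow_mul, mul_comm]
  rw [hx] at h
  set x := 2 ^ m with hxd
  have hx2 : 2 ≤ x := by
    rw [hxd]; calc 2 = 2 ^ 1 := rfl
      _ ≤ 2 ^ m := Nat.pow_le_pow_right (by norm_num) hm
  have hdv : x + 1 ∣ x ^ p + 1 := by
    have := hodd.nat_add_dvd_pow_add_pow x 1
    rwa [one_pow] at this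
  rw [h] at hdv
  obtain ⟨i, hi, hxi⟩ := (Nat.dvd_prime_pow hp).1 hdv
  have hi1 : 1 ≤ i := by
    by_contra hcon
    have : i = 0 := by omega
    rw [this, pow_zero] at hxi
    omega
  have hpx : p ∣ x + 1 := by rw [hxi]; exact dvd_pow_self p (by omega)
  have hnx : ¬ p ∣ x := fun h1 => by
    have h2 := (Nat.dvd_add_right h1).1 hpx
    exact hp.one_lt.ne' (Nat.dvd_one.1 h2)
  have hl := padicValNat.pow_add_pow (p := p) hodd hpx hnx hodd
  rw [one_pow, h, hxi, padicValNat.prime_pow, padicValNat.prime_pow, padicValNat_self] at hl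
  have hx3 : x ^ p + 1 = p * (x + 1) := by rw [h, hl, hxi, pow_succ]; ring
  have hp3 : 3 ≤ p := by have := hp.two_le; omega
  -- size
  by_cases h5 : p = 3
  · subst h5
    have h6 : x = 2 := by
      by_contra hne
      have h7 : 3 ≤ x := by (clear * - hx2 hne; omega)
      nlinarith only [hx3, Nat.mul_le_mul h7 h7, Nat.mul_le_mul (Nat.mul_le_mul h7 h7) h7]
    have h7 : m = 1 := by
      rw [hxd] at h6
      have : (2 : ℕ) ^ m = 2 ^ 1 := by rw [h6]; rfl
      exact Nat.pow_right_injective (le_refl 2) this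
    subst h7
    exact ⟨rfl, rfl⟩
  · exfalso
    have hp5 : 5 ≤ p := by
      have h4 : p ≠ 4 := by rintro rfl; norm_num at hp
      omega
    have key : ∀ t, 5 ≤ t → t * 3 < 2 ^ t := by
      intro t ht
      induction t, ht using Nat.le_induction with
      | base => norm_num
      | succ t ht ih => rw [pow_succ]; omega
    have h6 : 2 ^ (p - 1) ≤ x ^ (p - 1) := Nat.pow_le_pow_left hx2 _
    have h7 : p * 3 < 2 * 2 ^ (p - 1) := by
      rw [← pow_succ', Nat.sub_add_cancel (by omega)]; exact key p hp5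
    have h8 : x ^ p = x ^ (p - 1) * x := by rw [← pow_succ, Nat.sub_add_cancel (by omega)]
    rw [h8] at hx3
    nlinarith only [hx2, hx3, h6, h7]

theorem alt_pow_dvd {p δ n : ℕ} (hp : p.Prime) (h : p ^ δ ∣ n) (hn : n ∣ 4) : (p = 2 → δ ≤ 2) ∧ (p ≠ 2 → δ = 0) := by
  have h1 : p ^ δ ∣ 2 ^ 2 := h.trans hn
  constructor
  · rintro rfl
    exact (Nat.pow_dvd_pow_iff_le_right (by norm_num)).1 h1
  · intro hp2
    by_contra h0
    have h2 : p ∣ 2 ^ 2 := (dvd_pow_self p h0).trans h1
    exact hp2 ((Nat.prime_dvd_prime_iff_eq hp Nat.prime_two).1 (hp.dvd_of_dvd_pow h2))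

theorem le_two_pow_dvd {p δ n : ℕ} (hp : p.Prime) (h : p ^ δ ∣ n) (hn : n ≤ 2) (hn0 : n ≠ 0) :
    (p = 2 → δ ≤ 1) ∧ (p ≠ 2 → δ = 0) := by
  have h1 := Nat.le_of_dvd (by omega) h
  constructor
  · rintro rfl
    by_contra h0
    have h2 : 2 ^ 2 ≤ 2 ^ δ := Nat.pow_le_pow_right (by norm_num) (by omega)
    omega
  · intro hp2
    by_contra h0
    have h2 : p ^ 1 ≤ p ^ δ := Nat.pow_le_pow_right hp.pos (by omega)
    have := hp.two_le
    rw [pow_one] at h2
    omega

/-- the constant -/
def ce (p : ℕ) : ℕ := if p = 2 then 14 else 3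

/-- combination of the slack with the bound for `δ` -/
theorem combine {p N P δ : ℕ} (hp : p.Prime) (h : P ^ 3 < p ^ cc p * N) (h1 : (p = 2 → δ ≤ 1) ∧ (p ≠ 2 → δ = 0)) :
    P ^ 3 * p ^ (2 * δ) < p ^ ce p * N := by
  have h2 : cc p + 2 * δ ≤ ce p := by
    unfold cc ce
    by_cases hp2 : p = 2
    · have := h1.1 hp2
      rw [if_pos hp2, if_pos hp2]; omega
    · have := h1.2 hp2
      rw [if_neg hp2, if_neg hp2]
      split_ifs <;> omega
  calc P ^ 3 * p ^ (2 * δ) < p ^ cc p * N * p ^ (2 * δ) := Nat.mul_lt_mul_of_pos_right h (pow_pos hp.pos _)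
    _ = p ^ (cc p + 2 * δ) * N := by rw [pow_add]; ring
    _ ≤ _ := Nat.mul_le_mul_right _ (Nat.pow_le_pow_right hp.pos h2)

theorem exc_out (T : OrderTable.{u}) {G : Type u} [Group G] [Finite G] [IsSimpleGroup G]
    (hna : ¬ ∀ a b : G, a * b = b * a) {p : ℕ} (hp : p.Prime)
    (hlie : ¬ IsLieTypeChar p G) (h : Exc p G) {δ : ℕ} (hd : p ^ δ ∣ Nat.card (Cfsg.Out G)) :
    pt p (Nat.card G) ^ 3 * p ^ (2 * δ) < p ^ (ce p) * Nat.card G := by
  have hG0 : Nat.card G ≠ 0 := Nat.card_pos.ne'
  have hs := exc_slack T hp hlie h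
  have hO0 : Nat.card (Cfsg.Out G) ≠ 0 := by
    have h5 := card_out_mul G (not_isMulComm hna)
    have h6 : Finite (MulAut G) := Finite.of_injective (fun f : MulAut G => (f : G → G)) DFunLike.coe_injective
    intro h7
    rw [h7, zero_mul] at h5
    exact absurd h5.symm Nat.card_pos.ne'
  have small : Nat.card (Cfsg.Out G) ≤ 2 → pt p (Nat.card G) ^ 3 * p ^ (2 * δ) < p ^ (ce p) * Nat.card G := fun h2 =>
    combine hp hs (le_two_pow_dvd hp hd h2 hO0)
  rcases h with ⟨n, hn, ⟨e⟩⟩ | ⟨F, _, _, hq, hpt, ⟨e⟩⟩ | ⟨rfl, F, _, _, hF, ⟨e⟩⟩ | ⟨rfl, F, _, _, hF, ⟨e⟩⟩ |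
    ⟨rfl, F, _, _, hF, h⟩ | ⟨rfl, F, _, _, hF, ⟨e⟩⟩ | ⟨rfl, x, hx, hb, hr⟩
  · have h5 : 5 ≤ n := by
      simp only [altEx, Bool.or_eq_true, Bool.and_eq_true, beq_iff_eq] at hn
      omega
    obtain ⟨ho1, ho2⟩ := out_alt hna h5 e
    by_cases h6 : n = 6
    · obtain ⟨h7, h8⟩ := alt_pow_dvd hp hd ho2
      subst h6
      have h1 := alt_card h5 e
      have h4 : Nat.card G = 360 := by
        have : (6 : ℕ).factorial = 720 := by norm_num [Nat.factorial]
        omega
      by_cases hp2 : p = 2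
      · subst hp2
        have h9 : pt 2 (Nat.card G) ≤ 2 ^ 3 := pt_le_pow hp hG0 (by rw [h4]; norm_num)
        have h10 := h7 rfl
        calc pt 2 (Nat.card G) ^ 3 * 2 ^ (2 * δ) ≤ (2 ^ 3) ^ 3 * 2 ^ (2 * 2) :=
              Nat.mul_le_mul (Nat.pow_le_pow_left h9 3) (Nat.pow_le_pow_right (by norm_num) (by omega))
          _ < _ := by rw [h4]; norm_num [ce]
      · exact combine hp hs ⟨fun h => absurd h hp2, h8⟩
    · exact small (by rw [ho1 h6])
  · -- `L₂(Q)`
    obtain ⟨v, g, hv, hg, hF⟩ := Cfsg.Agent.H934.OutCl.exists_pf F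
    have hout := out_psl hna hv hg hF le_rfl (fun _ => by rw [← hF]; exact hq) e rfl
    rw [if_pos rfl, one_mul] at hout
    have h1 := psl_eq (F := F) (n := 2) (by norm_num)
    rw [← Nat.card_congr e.toEquiv, hF] at h1
    rw [hF] at hq hpt
    rw [hout] at hd
    by_cases hp2 : p = 2
    · subst hp2
      have hvodd : Odd v := by
        by_contra hcon
        have h2 : v = 2 := by
          rcases hv.eq_two_or_odd' with h3 | h3
          · exact h3
          · exact absurd h3 hcon
        subst h2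
        apply hlie
        exact Or.inl ⟨F, inferInstance, inferInstance, charP_of_dvd Nat.prime_two (by rw [hF]; exact dvd_pow_self 2 (by omega)), 2,
          le_rfl, fun _ => by rw [hF]; exact hq, ⟨e⟩⟩
      have hgcd : Nat.gcd 2 (v ^ g - 1) ∣ 2 := Nat.gcd_dvd_left _ _
      rcases Nat.even_or_odd g with hge | hgo
      · -- `Q = w ^ 2`
        obtain ⟨t, rfl⟩ := hge
        have hw : v ^ (t + t) = v ^ t * v ^ t := pow_add _ _ _
        have hwo : Odd (v ^ t) := hvodd.pow
        set w := v ^ t with hwd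
        have hw3 : 3 ≤ w := by
          have h3 : v ^ 1 ≤ v ^ t := Nat.pow_le_pow_right hv.pos (by omega)
          have h4 := hv.two_le
          obtain ⟨k, hk⟩ := hwo
          rw [pow_one] at h3
          omega
        obtain ⟨k, hk⟩ := hwo
        rw [hw] at hpt hout h1 hd hq
        rcases hpt with h2 | ⟨-, h2⟩
        · exfalso
          rw [pt] at h2
          have h3 : w * w + 1 = 2 * (2 * (k * k + k) + 1) := by rw [hk]; ring
          have h4 : ¬ 2 ^ 2 ∣ w * w + 1 := by rw [h3]; omega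
          have h5 : (w * w + 1).factorization 2 ≤ 1 := by
            by_contra hcon
            exact h4 ((Nat.prime_two.pow_dvd_iff_le_factorization (by (clear * -; omega))).2 (by omega))
          have h6 : 2 ^ (w * w + 1).factorization 2 ≤ 2 ^ 1 := Nat.pow_le_pow_right (by norm_num) h5
          linarith only [hw3, hk, h2, h3, h6, _root_.mul_self_nonneg (↑k : ℤ)]
        · have h3 : w * w - 1 = (w - 1) * (w + 1) := by
            obtain ⟨x, hx⟩ : ∃ x, w = x + 1 := ⟨w - 1, by omega⟩
            have : (x + 1) * (x + 1) = x * (x + 1 + 1) + 1 := by ring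
            rw [hx, this]; simp only [_root_.add_tsub_cancel_right]
          rw [pt] at h2
          have h4 : w - 1 ∣ 2 ^ (w * w - 1).factorization 2 := by rw [h2, h3]; exact dvd_mul_right _ _
          have h5 : w + 1 ∣ 2 ^ (w * w - 1).factorization 2 := by rw [h2, h3]; exact dvd_mul_left _ _
          obtain ⟨a, -, ha⟩ := (Nat.dvd_prime_pow Nat.prime_two).1 h4
          obtain ⟨b, -, hb⟩ := (Nat.dvd_prime_pow Nat.prime_two).1 h5
          have h6 : w = 3 := by
            have hb2 : 2 ≤ b := by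
              by_contra hcon
              have : 2 ^ b ≤ 2 ^ 1 := Nat.pow_le_pow_right (by norm_num) (by omega)
              omega
            have h7 : (4 : ℕ) ∣ w + 1 := by rw [hb]; exact pow_dvd_pow 2 hb2
            have ha1 : a ≤ 1 := by
              by_contra hcon
              have h8 : (4 : ℕ) ∣ w - 1 := by rw [ha]; exact pow_dvd_pow 2 (show 2 ≤ a by omega)
              (clear * - h7 h8; omega)
            have h8 : 2 ^ a ≤ 2 ^ 1 := Nat.pow_le_pow_right (by norm_num) ha1
            (clear * - hw3 ha h8; omega)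
          have ht : t = 1 := by
            have h7 : v ∣ 3 := by rw [← h6, hwd]; exact dvd_pow_self v (by omega)
            have h8 := (Nat.prime_dvd_prime_iff_eq hv Nat.prime_three).1 h7
            subst h8
            exact Nat.pow_right_injective (le_refl 2 |>.trans (by norm_num)) (by rw [← hwd, h6]; norm_num : 3 ^ t = 3 ^ 1)
          rw [h6] at h1 hd
          rw [ht] at hd
          have h7 : Nat.card G = 360 := by
            have h8 : sA (3 * 3) (2 - 1) = 720 := by decide +kernel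
            rw [h8] at h1
            norm_num at h1
            omega
          have h8 : δ ≤ 2 := by
            have h9 : 2 ^ δ ∣ 2 ^ 2 := by simpa using hd
            exact (Nat.pow_dvd_pow_iff_le_right (by norm_num)).1 h9
          have h9 : pt 2 (Nat.card G) ≤ 2 ^ 3 := pt_le_pow hp hG0 (by rw [h7]; norm_num)
          calc pt 2 (Nat.card G) ^ 3 * 2 ^ (2 * δ) ≤ (2 ^ 3) ^ 3 * 2 ^ (2 * 2) :=
                Nat.mul_le_mul (Nat.pow_le_pow_left h9 3) (Nat.pow_le_pow_right (by norm_num) (by omega))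
            _ < _ := by rw [h7]; norm_num [ce]
      · refine combine hp hs ⟨fun _ => ?_, fun h => absurd rfl h⟩
        by_contra hcon
        have h2 : 2 ^ 2 ∣ 2 * g := ((pow_dvd_pow 2 (by omega : 2 ≤ δ)).trans hd).trans (Nat.mul_dvd_mul_right hgcd g)
        obtain ⟨k, hk⟩ := hgo
        omega
    · rcases hpt with h2 | ⟨h2, -⟩
      swap
      · exact absurd h2 hp2
      rw [pt] at h2
      have hv2 : v = 2 := by
        by_contra hcon
        have hvodd : Odd v := hv.odd_of_ne_two hcon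
        have h3 : Odd (v ^ g) := hvodd.pow
        have h4 : Odd (p ^ (v ^ g + 1).factorization p) := (hp.odd_of_ne_two hp2).pow
        rw [h2] at h4
        exact (Nat.not_even_iff_odd.2 h4) (h3.add_odd odd_one)
      subst hv2
      have hgcd : Nat.gcd 2 (2 ^ g - 1) = 1 := by
        have h3 : Odd (2 ^ g - 1) := by
          have h4 : (2 : ℕ) ∣ 2 ^ g := dvd_pow_self 2 (by omega)
          have h5 : 1 ≤ 2 ^ g := Nat.one_le_two_pow
          rw [Nat.odd_iff]; omega
        exact (Nat.coprime_two_left).2 h3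
      rw [hgcd, one_mul] at hd
      by_cases hδ : δ = 0
      · exact combine hp hs ⟨fun h => absurd h hp2, fun _ => hδ⟩
      · have hpg : p ∣ g := (dvd_pow_self p hδ).trans hd
        obtain ⟨rfl, rfl⟩ := fermat_case hp hp2 hg hpg h2.symm
        have hδ1 : δ ≤ 1 := by
          by_contra hcon
          have h3 : 3 ^ 2 ∣ 3 := (pow_dvd_pow 3 (by omega : 2 ≤ δ)).trans hd
          omega
        have h7 : Nat.card G = 504 := by
          have h8 : sA (2 ^ 3) (2 - 1) = 504 := by decide +kernel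
          rw [h8] at h1
          norm_num at h1
          omega
        have h9 : pt 3 (Nat.card G) ≤ 3 ^ 2 := pt_le_pow hp hG0 (by rw [h7]; norm_num)
        calc pt 3 (Nat.card G) ^ 3 * 3 ^ (2 * δ) ≤ (3 ^ 2) ^ 3 * 3 ^ (2 * 1) :=
              Nat.mul_le_mul (Nat.pow_le_pow_left h9 3) (Nat.pow_le_pow_right (by norm_num) (by omega))
          _ < _ := by rw [h7]; norm_num [ce]
  · obtain ⟨v, g, hv, hg, hF'⟩ := Cfsg.Agent.H934.OutCl.exists_pf F
    have hv2 : v = 2 ∧ g = 1 := by
      have h1 : v ^ g = 2 := by rw [← hF', hF]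
      have h2 : v ∣ 2 := by rw [← h1]; exact dvd_pow_self v (by omega)
      have h3 := (Nat.prime_dvd_prime_iff_eq hv Nat.prime_two).1 h2
      subst h3
      exact ⟨rfl, Nat.pow_right_injective (le_refl 2) (by simpa using h1)⟩
    obtain ⟨rfl, rfl⟩ := hv2
    have hout := out_psl hna hv le_rfl hF' (by norm_num : 2 ≤ 3) (fun h => absurd h (by norm_num)) e rfl
    exact small (by rw [hout]; norm_num)
  · have hout := out_psu hna Nat.prime_three le_rfl (q := 3) (by norm_num) (by rw [hF]; norm_num) (by norm_num) (by norm_num) e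
    exact small (by rw [hout]; norm_num)
  · rcases h with ⟨⟨e⟩⟩ | ⟨⟨e⟩⟩
    · have hout := out_psu hna Nat.prime_two le_rfl (q := 2) (by norm_num) (by rw [hF]; norm_num) (by norm_num) (by norm_num) e
      exact small (by rw [hout]; norm_num)
    · have hout := out_psu hna Nat.prime_two le_rfl (q := 2) (by norm_num) (by rw [hF]; norm_num) (by norm_num) (by norm_num) e
      exact small (by rw [hout]; norm_num)
  · have := Fact.mk Nat.prime_three
    have h1 := Cfsg.Agent.S0814.result 3 1 le_rfl (by rw [hF]; norm_num) 2 le_rfl (fun _ => by norm_num) (F := F)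
    have hout : Nat.card (Cfsg.Out G) = 2 := by
      refine card_out_of_aut (not_isMulComm hna) ?_
      rw [Cfsg.Agent.H364.OutLie.mulaut_congr e, h1, Nat.card_congr e.toEquiv]
      norm_num
    exact small (by rw [hout])
  · simp only [big2, List.contains_iff_mem, List.mem_cons, List.not_mem_nil, or_false] at hb
    rcases hb with h | h | h | h | h | h | h | h | h | h | h | h
    · rw [h] at hr
      exact small (out_tits hna hr)
    · rw [h] at hr
      exact small (out_sporadic (Or.inr (Or.inl hr)))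
    · rw [h] at hr
      exact small (out_sporadic (Or.inr (Or.inr (Or.inl hr))))
    · rw [h] at hr
      exact small (out_sporadic (Or.inr (Or.inr (Or.inr (Or.inr (Or.inl hr))))))
    · rw [h] at hr
      exact small (out_sporadic (Or.inr (Or.inr (Or.inr (Or.inr (Or.inr (Or.inr (Or.inl hr))))))))
    · rw [h] at hr
      exact small (out_sporadic (Or.inr (Or.inr (Or.inr (Or.inr (Or.inr (Or.inr (Or.inr (Or.inr (Or.inr (Or.inr (Or.inr (Or.inr (Or.inr (Or.inl hr)))))))))))))))
    · rw [h] at hr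
      exact small (out_sporadic (Or.inr (Or.inr (Or.inr (Or.inr (Or.inr (Or.inr (Or.inr (Or.inr (Or.inr (Or.inr (Or.inr (Or.inr (Or.inr (Or.inr (Or.inl hr))))))))))))))))
    · rw [h] at hr
      exact small (out_sporadic (Or.inr (Or.inr (Or.inr (Or.inr (Or.inr (Or.inr (Or.inr (Or.inr (Or.inr (Or.inr (Or.inr (Or.inr (Or.inr (Or.inr (Or.inr (Or.inr (Or.inl hr))))))))))))))))))
    · rw [h] at hr
      exact small (out_sporadic (Or.inr (Or.inr (Or.inr (Or.inr (Or.inr (Or.inr (Or.inr (Or.inr (Or.inr (Or.inr (Or.inr (Or.inr (Or.inr (Or.inr (Or.inr (Or.inr (Or.inr (Or.inr (Or.inr (Or.inl hr)))))))))))))))))))))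
    · rw [h] at hr
      exact small (out_sporadic (Or.inr (Or.inr (Or.inr (Or.inr (Or.inr (Or.inr (Or.inr (Or.inr (Or.inr (Or.inr (Or.inl hr))))))))))))
    · rw [h] at hr
      exact small (out_sporadic (Or.inr (Or.inr (Or.inr (Or.inr (Or.inr (Or.inr (Or.inr (Or.inr (Or.inr (Or.inl hr)))))))))))
    · rw [h] at hr
      exact small (out_sporadic (Or.inr (Or.inr (Or.inr (Or.inr (Or.inr (Or.inr (Or.inr (Or.inr (Or.inr (Or.inr (Or.inr (Or.inr (Or.inr (Or.inr (Or.inr (Or.inr (Or.inr (Or.inr (Or.inr (Or.inr (Or.inr (Or.inr (Or.inr (Or.inr (Or.inl hr))))))))))))))))))))))))))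

end Cfsg.Agent.H370.AAM

private theorem dce_f6bb7f935840 : _root_.True := by
  try have : _root_.True := by simp only [_root_.Cfsg.Agent.H365.CubeS.big2.eq_1]
  try have : _root_.True := by simp only [_root_.Cfsg.Agent.H370.AAM.ce.eq_1]
  exact _root_.True.intro
end

-- part: H783/CS/Core
section
prune_inst 0x1103004088010000018008251201c4682000080004800000000000004800c0000800861b02000135030804440380060020000004000000000200000011c0080000046008248a10c040090000080000000000000300000000000000000000000200000000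
set_option linter.all false
open scoped Cfsg.Agent.FastGrp

-- part: H783/CS/Grp
section
/-!
# S3677: the lattice condition `LatW` from the centralizer of one element of order `r` (helper783)
-/

set_option autoImplicit false
set_option linter.unusedSectionVars false

namespace Cfsg.Agent.H783.CS

open Subgroup Cfsg.Agent.H364 Cfsg.Agent.H370.AAM Cfsg.Agent.H431.CS

universe u v

/-- if every `p`-element of `H` lies in `K` then `|H|_p ≤ |K|_p` -/
theorem fact_le {G : Type u} [Group G] [Finite G] {p : ℕ} (hp : p.Prime) {H K : Subgroup G}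
    (h : ∀ g ∈ H, ∀ j : ℕ, g ^ p ^ j = 1 → g ∈ K) :
    (Nat.card H).factorization p ≤ (Nat.card K).factorization p := by
  have := Fact.mk hp
  obtain ⟨P⟩ : Nonempty (Sylow p H) := inferInstance
  have hle : (P : Subgroup H).map H.subtype ≤ K := by
    rintro _ ⟨x, hx, rfl⟩
    obtain ⟨j, hj⟩ := P.isPGroup' ⟨x, hx⟩
    refine h _ x.2 j ?_
    have h1 := congrArg (fun t : P => ((t : H) : G)) hj
    simpa only [_root_.Subgroup.subtype_apply, _root_.SubmonoidClass.mk_pow, _root_.SubmonoidClass.coe_pow, _root_.OneMemClass.coe_one] using h1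
  have h1 : Nat.card ((P : Subgroup H).map H.subtype) = p ^ (Nat.card H).factorization p := by
    rw [← P.card_eq_multiplicity]
    exact (Nat.card_congr ((P : Subgroup H).equivMapOfInjective H.subtype H.subtype_injective).toEquiv).symm
  have h2 := Subgroup.card_dvd_of_le hle
  rw [h1] at h2
  exact (hp.pow_dvd_iff_le_factorization Nat.card_pos.ne').1 h2

/-- a homomorphism with kernel of order prime to `p` whose range contains the `p`-elements preserves the `p`-part of the order -/
theorem fact_hom {A : Type u} [Group A] [Finite A] {B : Type v} [Group B] [Finite B] {p : ℕ} (hp : p.Prime) (f : A →* B)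
    (hk : ¬ p ∣ Nat.card f.ker) (h : ∀ b : B, ∀ j : ℕ, b ^ p ^ j = 1 → b ∈ f.range) :
    (Nat.card A).factorization p = (Nat.card B).factorization p := by
  have h1 : Nat.card A = Nat.card f.ker * Nat.card f.range := by
    rw [← f.ker.card_mul_index, Subgroup.index_ker]
  rw [h1, Nat.factorization_mul Nat.card_pos.ne' Nat.card_pos.ne', Finsupp.add_apply,
    Nat.factorization_eq_zero_of_not_dvd hk, zero_add]
  apply le_antisymm
  · exact (hp.pow_dvd_iff_le_factorization Nat.card_pos.ne').1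
      ((Nat.ordProj_dvd _ p).trans (Subgroup.card_subgroup_dvd_card f.range))
  · have := fact_le hp (H := (⊤ : Subgroup B)) (K := f.range) (fun g _ j hj => h g j hj)
    rwa [Subgroup.card_top] at this

variable {S : Type u} [Group S] [Finite S]

theorem cent_one : Subgroup.centralizer ({1} : Set S) = ⊤ := by
  rw [eq_top_iff]
  intro y _
  rw [Subgroup.mem_centralizer_singleton_iff]
  simp

theorem ne_one_of_card {x : S} (h : Nat.card (Subgroup.centralizer ({x} : Set S)) ≠ Nat.card S) : x ≠ 1 := by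
  rintro rfl
  apply h
  rw [cent_one, Subgroup.card_top]

theorem card_cent_conj (s x : S) : Nat.card (Subgroup.centralizer ({s * x * s⁻¹} : Set S)) =
    Nat.card (Subgroup.centralizer ({x} : Set S)) :=
  (card_cent_congr (MulAut.conj s) x).symm

/-- every element commuting with an element of order `r` is conjugate to one commuting with `y₀` -/
theorem exists_conj {r : ℕ} (hr : r.Prime) {y₀ : S} (hy : orderOf y₀ = r) (P : Sylow r S)
    (hyZ : ∀ z ∈ P, Commute z y₀) (huniq : ∀ y : S, orderOf y = r → Commute y y₀ → y ∈ zpowers y₀) {x : S}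
    (hx : r ∣ Nat.card (Subgroup.centralizer ({x} : Set S))) :
    ∃ x₁ : S, Commute x₁ y₀ ∧ (x ≠ 1 → x₁ ≠ 1) ∧
      Nat.card (Subgroup.centralizer ({x₁} : Set S)) = Nat.card (Subgroup.centralizer ({x} : Set S)) := by
  have := Fact.mk hr
  obtain ⟨⟨y, hy1⟩, hy2⟩ := exists_prime_orderOf_dvd_card' r hx
  rw [Subgroup.orderOf_mk] at hy2
  have hpg : IsPGroup r (zpowers y) := by
    apply IsPGroup.of_card (n := 1)
    rw [Nat.card_zpowers, hy2, pow_one]
  obtain ⟨Q, hQ⟩ := hpg.exists_le_sylow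
  obtain ⟨s, hs⟩ := MulAction.exists_smul_eq S Q P
  have hsy : s * y * s⁻¹ ∈ (P : Subgroup S) := by
    rw [← hs, Sylow.coe_subgroup_smul]
    exact Subgroup.smul_mem_pointwise_smul y (MulAut.conj s) _ (hQ (mem_zpowers y))
  have ho : orderOf (s * y * s⁻¹) = r := by
    rw [← hy2]
    exact orderOf_injective (MulAut.conj s).toMonoidHom (MulAut.conj s).injective y
  have hmem := huniq _ ho (hyZ _ hsy)
  -- `y₀` is a power of the conjugate
  have hz : zpowers (s * y * s⁻¹) = zpowers y₀ := by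
    apply Subgroup.eq_of_le_of_card_ge (zpowers_le.2 hmem)
    rw [Nat.card_zpowers, Nat.card_zpowers, ho, hy]
  have hy0 : y₀ ∈ zpowers (s * y * s⁻¹) := hz ▸ mem_zpowers y₀
  obtain ⟨k, hk⟩ := mem_zpowers_iff.1 hy0
  refine ⟨s * x * s⁻¹, ?_, ?_, card_cent_conj s x⟩
  · have h1 : Commute (s * x * s⁻¹) (s * y * s⁻¹) := (mem_cent.1 hy1).symm.map (MulAut.conj s).toMonoidHom
    rw [← hk]
    exact h1.zpow_right k
  · intro hx1 h
    apply hx1
    have h2 : s * x = s := by rw [← mul_inv_eq_one, h]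
    exact mul_eq_left.1 h2

/-- **The abstract form of the lattices.** -/
theorem latW_of {p r : ℕ} (hp : p.Prime) (hr : r.Prime) (hrp : r ≠ p) (hpS : p ∣ Nat.card S) (hE : NoEdge S r p)
    {y₀ : S} (hy : orderOf y₀ = r) (P : Sylow r S) (hyZ : ∀ z ∈ P, Commute z y₀)
    (huniq : ∀ y : S, orderOf y = r → Commute y y₀ → y ∈ zpowers y₀)
    (h3 : ∀ x : S, x ≠ 1 → Commute x y₀ →
      (Nat.card (Subgroup.centralizer ({x} : Set S))).factorization p < (Nat.card S).factorization p)
    (h4 : ∀ x : S, x ≠ 1 → Commute x y₀ →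
      (∀ x' : S, x' ≠ 1 → Commute x' y₀ → (Nat.card (Subgroup.centralizer ({x'} : Set S))).factorization p ≤
        (Nat.card (Subgroup.centralizer ({x} : Set S))).factorization p) ∨
      (∀ x' : S, x' ≠ 1 → Commute x' y₀ → (Nat.card (Subgroup.centralizer ({x'} : Set S))).factorization p =
        (Nat.card (Subgroup.centralizer ({x} : Set S))).factorization p →
        Nat.card (Subgroup.centralizer ({x'} : Set S)) = Nat.card (Subgroup.centralizer ({x} : Set S)))) :
    LatW S p r := by
  have := Fact.mk hr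
  have := Fact.mk hp
  have hpos : ∀ x : S, Nat.card (Subgroup.centralizer ({x} : Set S)) ≠ 0 := fun x => Nat.card_pos.ne'
  refine ⟨?_, ?_, ?_, ?_⟩
  · obtain ⟨u, hu⟩ := exists_prime_orderOf_dvd_card' p hpS
    refine ⟨_, mem_co u, fun hd => ?_⟩
    obtain ⟨⟨y, hy1⟩, hy2⟩ := exists_prime_orderOf_dvd_card' r hd
    rw [Subgroup.orderOf_mk] at hy2
    exact hE.false_of_commute hr hp hrp (mem_cent.1 hy1) hy2 hu
  · refine ⟨_, mem_co y₀, ?_, fun hd => ?_⟩
    · rw [← P.card_eq_multiplicity]
      exact Subgroup.card_dvd_of_le fun z hz => mem_cent.2 (hyZ z hz)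
    · obtain ⟨⟨u, hu1⟩, hu2⟩ := exists_prime_orderOf_dvd_card' p hd
      rw [Subgroup.orderOf_mk] at hu2
      exact hE.false_of_commute hr hp hrp (mem_cent.1 hu1).symm hy hu2
  · rintro _ ⟨x, rfl⟩ hc hrx hd
    dsimp only at hc hrx hd
    obtain ⟨x₁, h1, h2, h5⟩ := exists_conj hr hy P hyZ huniq hrx
    have h6 := h3 x₁ (h2 (ne_one_of_card hc)) h1
    rw [h5] at h6
    rw [hp.pow_dvd_iff_le_factorization (hpos x)] at hd
    omega
  · rintro _ ⟨x, rfl⟩ hc hrx -
    dsimp only at hc hrx ⊢
    obtain ⟨x₁, h1, h2, h5⟩ := exists_conj hr hy P hyZ huniq hrx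
    have h6 := h4 x₁ (h2 (ne_one_of_card hc)) h1
    rw [h5] at h6
    rcases h6 with h6 | h6
    · left
      rintro _ ⟨x', rfl⟩ hc' hrx'
      dsimp only at hc' hrx' ⊢
      obtain ⟨x₁', h1', h2', h5'⟩ := exists_conj hr hy P hyZ huniq hrx'
      rw [← h5']
      exact h6 x₁' (h2' (ne_one_of_card hc')) h1'
    · right
      rintro _ ⟨x', rfl⟩ hrx' hd hf
      dsimp only at hrx' hd hf ⊢
      have hc' : Nat.card (Subgroup.centralizer ({x'} : Set S)) ≠ Nat.card S := by
        intro h
        apply hc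
        exact Nat.dvd_antisymm (Subgroup.card_subgroup_dvd_card _) (h ▸ hd)
      obtain ⟨x₁', h1', h2', h5'⟩ := exists_conj hr hy P hyZ huniq hrx'
      rw [← h5'] at hf ⊢
      exact h6 x₁' (h2' (ne_one_of_card hc')) h1' hf

end Cfsg.Agent.H783.CS
end

-- part: H783/CS/Iso
section
/-!
# S3677: centralizers in `PΩ(Q)` and in the isometry group (helper783)
-/

set_option autoImplicit false
set_option linter.unusedSectionVars false
set_option linter.style.haveILetI false

namespace Cfsg.Agent.H783.CS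

open Module QuadraticMap Cfsg
open Cfsg.Agent.H420.Lift (opHom opHom_apply opHom_injective opHom_iso opHom_eq_one_iff exists_lift)
open Cfsg.Agent.LieClassical.OrthCount (isometryGroupEquiv)
open Cfsg.Agent.LieClassical.OmegaCenter (omegaMat omega_ext mem_center_omega_iff)
open Cfsg.Agent.ClassicalGeometry.OrthCharTwo (fixSp mem_fixSp)
open Cfsg.Agent.ClassicalGeometry.OrthDickson (dsign dsign_def dsignHom dsignHom_apply dsign_refl refl_notMem_commutator
  index_commutator_two dsign_eq_one_of_mem_commutator)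

variable {F : Type*} [Field F] {ι : Type} [Fintype ι] [DecidableEq ι]

theorem exists_isom (Q : QuadraticForm F (ι → F)) {T : Module.End F (ι → F)} (hT : ∀ v, Q (T v) = Q v)
    (hi : Function.Injective T) : ∃ g : isometryGroup F ⇑Q, opHom (⇑Q) g = T := by
  refine ⟨(isometryGroupEquiv Q).symm ⟨LinearEquiv.ofInjectiveEndo T hi, hT⟩, ?_⟩
  apply LinearMap.ext
  intro v
  have h1 := congrArg Subtype.val ((isometryGroupEquiv Q).apply_symm_apply ⟨LinearEquiv.ofInjectiveEndo T hi, hT⟩)
  exact LinearEquiv.congr_fun h1 v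

theorem comm_iff {Q : (ι → F) → F} {g X : isometryGroup F Q} :
    Commute g X ↔ ∀ v, opHom Q g (opHom Q X v) = opHom Q X (opHom Q g v) := by
  constructor
  · intro h v
    rw [← Module.End.mul_apply, ← Module.End.mul_apply, ← map_mul, ← map_mul, h.eq]
  · intro h
    apply opHom_injective Q
    rw [map_mul, map_mul]
    exact LinearMap.ext h

theorem fix_eq {Q : (ι → F) → F} (g : isometryGroup F Q) : fixSp g = LinearMap.ker (opHom Q g - 1) := by
  ext v
  rw [mem_fixSp, LinearMap.mem_ker, LinearMap.sub_apply, Module.End.one_apply, sub_eq_zero, opHom_apply]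
  rfl

theorem even_fix [Finite F] {Q : QuadraticForm F (ι → F)} (hQ : (polarBilin Q).Nondegenerate) (h4 : Fintype.card ι ≠ 4)
    (hev : Even (Fintype.card ι)) {g : isometryGroup F ⇑Q} (hg : g ∈ Omega F ⇑Q) :
    Even (finrank F (LinearMap.ker (opHom (⇑Q) g - 1))) := by
  have h1 := dsign_eq_one_of_mem_commutator Q hQ (Or.inr h4) g hg
  rw [dsign_def, fix_eq, pow_add, hev.neg_one_pow, mul_one] at h1
  rcases Nat.even_or_odd (finrank F (LinearMap.ker (opHom (⇑Q) g - 1))) with h | h
  · exact h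
  · rw [h.neg_one_pow] at h1
    exact absurd h1 (by decide)

/-- isometries of odd order lie in `Ω` -/
theorem mem_omega_of_odd [Finite F] {Q : QuadraticForm F (ι → F)} (hQ : (polarBilin Q).Nondegenerate)
    (h5 : 5 ≤ Fintype.card ι) {g : isometryGroup F ⇑Q} {N : ℕ} (hN : Odd N) (hg : g ^ N = 1) : g ∈ Omega F ⇑Q := by
  have h1 := H377.mul_self_mem_Omega Q (Cfsg.Agent.LieClassical.OrthCore.nondeg_of_nondegenerate hQ) h5 g
  obtain ⟨k, hk⟩ := hN
  have h2 : g = (g * g) ^ (k + 1) := by
    have h3 : g ^ (N + 1) = g := by rw [pow_succ, hg, one_mul]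
    rw [← pow_two, ← pow_mul]
    rw [show 2 * (k + 1) = N + 1 by omega, h3]
  rw [h2]
  exact Subgroup.pow_mem _ h1 _

/-- in characteristic two, `Ω` is the kernel of the Dickson invariant -/
theorem mem_omega_of_even [Finite F] (h2 : (2 : F) = 0) {Q : QuadraticForm F (ι → F)}
    (hQ : (polarBilin Q).Nondegenerate) (h5 : 5 ≤ Fintype.card ι) (hev : Even (Fintype.card ι)) {g : isometryGroup F ⇑Q}
    (hg : Even (finrank F (LinearMap.ker (opHom (⇑Q) g - 1)))) : g ∈ Omega F ⇑Q := by
  have : Nonempty ι := Fintype.card_pos_iff.1 (by omega)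
  have h4 : (∃ θ : F, θ ≠ 0 ∧ θ ≠ 1) ∨ Fintype.card ι ≠ 4 := Or.inr (by omega)
  have hd : dsign Q g = 1 := by
    rw [dsign_def, fix_eq, pow_add, hev.neg_one_pow, mul_one, hg.neg_one_pow]
  have hi := index_commutator_two Q h2 hQ h4
  obtain ⟨v, hv⟩ : ∃ v, Q v ≠ 0 := by
    by_contra hcon
    push Not at hcon
    obtain ⟨v, hv⟩ := _root_.exists_ne (0 : ι → F)
    apply hv
    apply Cfsg.Agent.LieClassical.OrthCore.nondeg_of_nondegenerate hQ
    intro w
    unfold polar
    rw [hcon, hcon, hcon]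
    ring
  by_contra hg'
  have h3 := refl_notMem_commutator Q hQ h4 v hv
  have h6 : g * ClassicalGeometry.Reflection.reflIso Q v hv ∈ commutator (isometryGroup F ⇑Q) := by
    rw [Subgroup.mul_mem_iff_of_index_two hi]
    exact ⟨fun h => absurd h hg', fun h => absurd h h3⟩
  have h7 := dsign_eq_one_of_mem_commutator Q hQ h4 _ h6
  rw [← dsignHom_apply Q hQ h4, map_mul, dsignHom_apply, dsignHom_apply, hd, dsign_refl Q hQ v hv] at h7
  exact absurd h7 (by decide)

section omega

variable {Q : QuadraticForm F (ι → F)} (hQ : (polarBilin Q).Nondegenerate) (hn : 5 ≤ Fintype.card ι)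
  (hs : ∃ u : ι → F, u ≠ 0 ∧ Q u = 0)

include hQ hn hs

theorem center_cases {z : Omega F ⇑Q} (hz : z ∈ Subgroup.center (Omega F ⇑Q)) :
    (∀ v, opHom (⇑Q) z v = v) ∨ ∀ v, opHom (⇑Q) z v = -v := by
  rcases (mem_center_omega_iff Q hQ (by omega) hs z).1 hz with h | h
  · left
    intro v
    rw [opHom_apply]
    have h1 : ((z : isometryGroup F ⇑Q) : Matrix.GeneralLinearGroup ι F).1 = 1 := h
    rw [h1, Matrix.one_mulVec]
  · right
    intro v
    rw [opHom_apply]
    have h1 : ((z : isometryGroup F ⇑Q) : Matrix.GeneralLinearGroup ι F).1 = -1 := h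
    rw [h1, Matrix.neg_mulVec, Matrix.one_mulVec]

theorem center_sq {z : Omega F ⇑Q} (hz : z ∈ Subgroup.center (Omega F ⇑Q)) : z ^ 2 = 1 :=
  H364.OrthUnip.sq_eq_one_of_center Q hQ (by omega) hs hz

theorem center_two (h2 : (2 : F) = 0) {z : Omega F ⇑Q} (hz : z ∈ Subgroup.center (Omega F ⇑Q)) : z = 1 := by
  apply Subtype.ext
  apply opHom_injective
  rw [OneMemClass.coe_one, map_one]
  apply LinearMap.ext
  intro v
  rcases center_cases hQ hn hs hz with h | h
  · exact h v
  · rw [h v]
    have h3 : v + v = 0 := by rw [← two_smul F v, h2, zero_smul]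
    exact neg_eq_of_add_eq_zero_left h3

seal _root_.Finset.sum _root_.dotProduct in
/-- commuting modulo the centre -/
theorem comm_center {g X : Omega F ⇑Q} (h : Commute (QuotientGroup.mk g : POmega F ⇑Q) (QuotientGroup.mk X)) :
    g * X * g⁻¹ * X⁻¹ ∈ Subgroup.center (Omega F ⇑Q) := by
  rw [← QuotientGroup.eq_one_iff]
  have h1 : (QuotientGroup.mk (g * X * g⁻¹ * X⁻¹) : POmega F ⇑Q) =
      QuotientGroup.mk g * QuotientGroup.mk X * (QuotientGroup.mk g)⁻¹ * (QuotientGroup.mk X)⁻¹ := rfl
  rw [h1, h.eq]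
  group

theorem comm_neg {g X : Omega F ⇑Q} (h : Commute (QuotientGroup.mk g : POmega F ⇑Q) (QuotientGroup.mk X)) :
    Commute g X ∨ ∀ v, opHom (⇑Q) g (opHom (⇑Q) X v) = - opHom (⇑Q) X (opHom (⇑Q) g v) := by
  set z := g * X * g⁻¹ * X⁻¹ with hz
  have h1 : g * X = z * (X * g) := by rw [hz]; group
  have h3 : ∀ v, opHom (⇑Q) g (opHom (⇑Q) X v) = opHom (⇑Q) z (opHom (⇑Q) X (opHom (⇑Q) g v)) := by
    intro v
    have h4 := congrArg (fun t : Omega F ⇑Q => opHom (⇑Q) (t : isometryGroup F ⇑Q) v) h1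
    simpa only [_root_.Subgroup.coe_mul, _root_.map_mul, _root_.Module.End.mul_apply] using h4
  rcases center_cases hQ hn hs (comm_center hQ hn hs h) with h2 | h2
  · left
    have h4 : Commute (g : isometryGroup F ⇑Q) (X : isometryGroup F ⇑Q) := comm_iff.2 fun v => by rw [h3, h2]
    exact Subtype.ext h4.eq
  · right
    intro v
    rw [h3, h2]

theorem comm_of_odd {g X : Omega F ⇑Q} {N : ℕ} (hN : Odd N) (hg : g ^ N = 1)
    (h : Commute (QuotientGroup.mk g : POmega F ⇑Q) (QuotientGroup.mk X)) : Commute g X := by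
  set z := g * X * g⁻¹ * X⁻¹ with hz
  have hzc := comm_center hQ hn hs h
  rw [← hz] at hzc
  have hz2 := center_sq hQ hn hs hzc
  have h1 : g * X * g⁻¹ = z * X := by rw [hz]; group
  have h2 : Commute (g * g) X := by
    have h3 : g * g * X * (g * g)⁻¹ = X := by
      calc g * g * X * (g * g)⁻¹ = g * (g * X * g⁻¹) * g⁻¹ := by group
        _ = g * (z * X) * g⁻¹ := by rw [h1]
        _ = z * (g * X * g⁻¹) := by
          have := (Subgroup.mem_center_iff.1 hzc) g
          calc g * (z * X) * g⁻¹ = (g * z) * X * g⁻¹ := by group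
            _ = (z * g) * X * g⁻¹ := by rw [this]
            _ = z * (g * X * g⁻¹) := by group
        _ = z * (z * X) := by rw [h1]
        _ = X := by rw [← mul_assoc, ← pow_two, hz2, one_mul]
    exact mul_inv_eq_iff_eq_mul.1 h3
  obtain ⟨k, hk⟩ := hN
  have h4 : g = (g * g) ^ (k + 1) := by
    have h3 : g ^ (N + 1) = g := by rw [pow_succ, hg, one_mul]
    rw [← pow_two, ← pow_mul]
    rw [show 2 * (k + 1) = N + 1 by omega, h3]
  rw [h4]
  exact h2.pow_left _

/-- **the `p`-part of a centralizer order of `PΩ(Q)`** -/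
theorem fact_cent [Finite F] {p : ℕ} (hp : p.Prime) [CharP F p] (X : Omega F ⇑Q) :
    (Nat.card (Subgroup.centralizer ({(QuotientGroup.mk X : POmega F ⇑Q)} : Set (POmega F ⇑Q)))).factorization p =
      (Nat.card (Subgroup.centralizer ({X} : Set (Omega F ⇑Q)))).factorization p := by
  have h2p : p = 2 ∨ Odd p := hp.eq_two_or_odd'
  have h2F : p = 2 → (2 : F) = 0 := by
    rintro rfl
    exact_mod_cast CharP.cast_eq_zero F 2
  set f : Subgroup.centralizer ({X} : Set (Omega F ⇑Q)) →*
      Subgroup.centralizer ({(QuotientGroup.mk X : POmega F ⇑Q)} : Set (POmega F ⇑Q)) :=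
    ((QuotientGroup.mk' (Subgroup.center (Omega F ⇑Q))).comp (Subgroup.subtype _)).codRestrict _ (by
      intro g
      rw [H370.AAM.mem_cent]
      exact (H370.AAM.mem_cent.1 g.2).map (QuotientGroup.mk' (Subgroup.center (Omega F ⇑Q)))) with hf
  have hfin : Finite (Omega F ⇑Q) := inferInstance
  have hfin' : Finite (POmega F ⇑Q) := inferInstance
  symm
  apply fact_hom hp f
  · intro hd
    have := Fact.mk hp
    obtain ⟨⟨⟨g, hg⟩, hg1⟩, hg2⟩ := exists_prime_orderOf_dvd_card' p hd
    rw [Subgroup.orderOf_mk, Subgroup.orderOf_mk] at hg2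
    have h1 : g ∈ Subgroup.center (Omega F ⇑Q) := by
      rw [← QuotientGroup.eq_one_iff]
      exact congrArg Subtype.val (MonoidHom.mem_ker.1 hg1)
    rcases h2p with h | h
    · have := center_two hQ hn hs (h2F h) h1
      rw [this, orderOf_one] at hg2
      exact hp.one_lt.ne hg2
    · have h3 := orderOf_dvd_of_pow_eq_one (center_sq hQ hn hs h1)
      rw [hg2] at h3
      have := (Nat.prime_dvd_prime_iff_eq hp Nat.prime_two).1 h3
      rw [this] at h
      exact absurd h (by decide)
  · rintro ⟨b, hb⟩ j hj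
    have hbj : b ^ p ^ j = 1 := congrArg Subtype.val hj
    have hbX := H370.AAM.mem_cent.1 hb
    rcases h2p with h | h
    · obtain ⟨g, rfl⟩ := QuotientGroup.mk_surjective b
      have h3 : Commute g X := by
        have h4 := center_two hQ hn hs (h2F h) (comm_center hQ hn hs hbX)
        rw [mul_inv_eq_one, mul_inv_eq_iff_eq_mul] at h4
        exact h4
      exact ⟨⟨g, H370.AAM.mem_cent.2 h3⟩, rfl⟩
    · have hodd : Odd (orderOf b) := Odd.of_dvd_nat (h.pow) (orderOf_dvd_of_pow_eq_one hbj)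
      obtain ⟨g, rfl, hgo⟩ := exists_lift Q hQ (by omega) hs hodd rfl
      have h3 : Commute g X := comm_of_odd hQ hn hs hodd (hgo ▸ pow_orderOf_eq_one g) hbX
      exact ⟨⟨g, H370.AAM.mem_cent.2 h3⟩, rfl⟩

/-- equal centralizers -/
theorem card_cent_eq [Finite F] {X X' : Omega F ⇑Q}
    (h1 : ∀ g : Omega F ⇑Q, Commute (QuotientGroup.mk g : POmega F ⇑Q) (QuotientGroup.mk X) → Commute g X)
    (h2 : ∀ g : Omega F ⇑Q, Commute (QuotientGroup.mk g : POmega F ⇑Q) (QuotientGroup.mk X') → Commute g X')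
    (h3 : ∀ g : Omega F ⇑Q, Commute g X ↔ Commute g X') :
    Nat.card (Subgroup.centralizer ({(QuotientGroup.mk X : POmega F ⇑Q)} : Set (POmega F ⇑Q))) =
      Nat.card (Subgroup.centralizer ({(QuotientGroup.mk X' : POmega F ⇑Q)} : Set (POmega F ⇑Q))) := by
  have key : Subgroup.centralizer ({(QuotientGroup.mk X : POmega F ⇑Q)} : Set (POmega F ⇑Q)) =
      Subgroup.centralizer ({(QuotientGroup.mk X' : POmega F ⇑Q)} : Set (POmega F ⇑Q)) := by
    ext b
    obtain ⟨g, rfl⟩ := QuotientGroup.mk_surjective b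
    rw [H370.AAM.mem_cent, H370.AAM.mem_cent]
    constructor
    · intro h
      exact ((h3 g).1 (h1 g h)).map (QuotientGroup.mk' (Subgroup.center (Omega F ⇑Q)))
    · intro h
      exact ((h3 g).2 (h2 g h)).map (QuotientGroup.mk' (Subgroup.center (Omega F ⇑Q)))
  rw [key]

end omega

end Cfsg.Agent.H783.CS
end

-- part: H783/CS/Core
section
/-!
# S3677: elements of `Ω(Q)` commuting with `y`, `V = W ⊥ C` (helper783)
-/

set_option autoImplicit false
set_option linter.unusedSectionVars false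
set_option linter.style.haveILetI false

namespace Cfsg.Agent.H783.CS

open Module QuadraticMap Cfsg
open Cfsg.Agent.H420.Lift (opHom opHom_apply opHom_injective opHom_iso opHom_eq_one_iff exists_lift)

theorem fix_of_pow {F : Type*} [Field F] {V : Type*} [AddCommGroup V] [Module F V] {T : Module.End F V} {v : V}
    {M N : ℕ} (hM : T ^ M = 1) (hMN : Nat.Coprime M N) (hN : (T ^ N) v = v) : T v = v := by
  have h1 : Function.IsPeriodicPt T M v := by
    rw [Function.IsPeriodicPt, Function.IsFixedPt, ← Module.End.coe_pow, hM]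
    rfl
  have h2 : Function.IsPeriodicPt T N v := by
    rw [Function.IsPeriodicPt, Function.IsFixedPt, ← Module.End.coe_pow, hN]
  have h3 := h1.gcd h2
  rw [hMN] at h3
  exact h3

variable {F : Type*} [Field F] [Finite F] {ι : Type} [Fintype ι] [DecidableEq ι]
  {K : Type*} [Field K] [Finite K] [Algebra F K]

/-- the data attached to `y` -/
structure Dat (Q : QuadraticForm F (ι → F)) (y : isometryGroup F ⇑Q) (W C : Submodule F (ι → F)) (e₁ e₂ : ι → F)
    (φ : K →ₐ[F] Module.End F W) : Prop where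
  geo : Geo Q W C e₁ e₂
  hW : W = LinearMap.range (opHom (⇑Q) y - 1)
  hC : C = LinearMap.ker (opHom (⇑Q) y - 1)
  cen : ∀ A : Module.End F (ι → F), (∀ v, A (opHom (⇑Q) y v) = opHom (⇑Q) y (A v)) → ∃ a : K, ∀ w : W, A w = φ a w
  ev : Even (finrank F W)
  nt : Nontrivial W
  hQ : (polarBilin Q).Nondegenerate
  hn : 6 ≤ Fintype.card ι
  hev : Even (Fintype.card ι)

namespace Dat

variable {Q : QuadraticForm F (ι → F)} {y : isometryGroup F ⇑Q} {W C : Submodule F (ι → F)} {e₁ e₂ : ι → F}
  {φ : K →ₐ[F] Module.End F W} (D : Dat Q y W C e₁ e₂ φ)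

include D

theorem keep {g : Module.End F (ι → F)} (hg : ∀ v, g (opHom (⇑Q) y v) = opHom (⇑Q) y (g v)) :
    (∀ v ∈ W, g v ∈ W) ∧ ∀ v ∈ C, g v ∈ C := by
  rw [D.hW, D.hC]
  exact H150.range_inv fun v => (hg v).symm

/-- elements of `Ω` commuting with `y` -/
theorem lift {X : isometryGroup F ⇑Q} (hX : X ∈ Omega F ⇑Q) (hXy : Commute X y) :
    ∃ a : K, (∀ w : W, opHom (⇑Q) X w = φ a w) ∧ Dg e₁ e₂ (opHom (⇑Q) X) := by
  have hnt := D.nt
  have h1 := comm_iff.1 hXy
  obtain ⟨a, ha⟩ := D.cen _ h1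
  obtain ⟨hW, hC⟩ := D.keep h1
  refine ⟨a, ha, D.geo.dg_of_even (opHom_iso _ X) hC ?_⟩
  have h2 := even_fix D.hQ (by have := D.hn; omega) D.hev hX
  rw [D.geo.fix_split hW hC] at h2
  refine (Nat.even_add.1 h2).1 ?_
  by_cases ha1 : a = 1
  · have h3 : (LinearMap.ker (opHom (⇑Q) X - 1) ⊓ W : Submodule F (ι → F)) = W := by
      rw [inf_eq_right]
      intro w hw
      rw [LinearMap.mem_ker, LinearMap.sub_apply, Module.End.one_apply, ha ⟨w, hw⟩, ha1, map_one]
      exact sub_self w
    rw [h3]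
    exact D.ev
  · have h3 : (LinearMap.ker (opHom (⇑Q) X - 1) ⊓ W : Submodule F (ι → F)) = ⊥ := by
      rw [eq_bot_iff]
      rintro w ⟨hw1, hw2⟩
      rw [SetLike.mem_coe, LinearMap.mem_ker, LinearMap.sub_apply, Module.End.one_apply, ha ⟨w, hw2⟩] at hw1
      have h4 : φ (a - 1) ⟨w, hw2⟩ = 0 := by
        apply Subtype.ext
        rw [map_sub, map_one, LinearMap.sub_apply, Module.End.one_apply]
        exact hw1
      exact congrArg Subtype.val (inv_smul (sub_ne_zero.2 ha1) h4)
    rw [h3, finrank_bot]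
    exact Even.zero

/-- type B: elements of `Ω` commuting with `X` -/
theorem typeB {X : isometryGroup F ⇑Q} {a : K} (ha : ∀ w : W, opHom (⇑Q) X w = φ a w)
    (hna : ∀ l : F, a ≠ algebraMap F K l) (hX : Dg e₁ e₂ (opHom (⇑Q) X)) {g : isometryGroup F ⇑Q}
    (hg : g ∈ Omega F ⇑Q) (hgX : Commute g X) :
    (∀ v ∈ W, opHom (⇑Q) g v ∈ W) ∧ (∀ v ∈ C, opHom (⇑Q) g v ∈ C) ∧ Dg e₁ e₂ (opHom (⇑Q) g) := by
  have hnt := D.nt
  have h1 := comm_iff.1 hgX
  have hC := D.geo.canon (g := opHom (⇑Q) g) ha hna hX (ε := 1) one_ne_zero (fun v => by rw [one_smul]; exact h1 v)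
  have hW := D.geo.keepW (opHom_iso _ g) hC
  refine ⟨hW, hC, ?_⟩
  have hXC : ∀ v ∈ C, opHom (⇑Q) X v ∈ C := fun v hv => D.geo.dg_keep hX hv
  have hXW := D.geo.keepW (opHom_iso _ X) hXC
  obtain ⟨k, m, -, -, -, hk, -⟩ := D.geo.count (opHom_iso _ X) hXW ha hna
  exact D.geo.dg_of_fix ha (by rw [hk]; exact even_two_mul k) (opHom_iso _ g) hC h1
    (even_fix D.hQ (by have := D.hn; omega) D.hev hg)

/-- type B: elements with the same degree have the same centralizer in `Ω` -/
theorem same {X X' : isometryGroup F ⇑Q} {a a' : K} (ha : ∀ w : W, opHom (⇑Q) X w = φ a w)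
    (hna : ∀ l : F, a ≠ algebraMap F K l) (hX : Dg e₁ e₂ (opHom (⇑Q) X)) (ha' : ∀ w : W, opHom (⇑Q) X' w = φ a' w)
    (hX' : Dg e₁ e₂ (opHom (⇑Q) X')) (hd : (minpoly F a).natDegree = (minpoly F a').natDegree)
    {g : isometryGroup F ⇑Q} (hg : g ∈ Omega F ⇑Q) (hgX : Commute g X) : Commute g X' := by
  obtain ⟨P, hP⟩ := exists_poly hd
  obtain ⟨hW, -, hgd⟩ := D.typeB ha hna hX hg hgX
  exact comm_iff.2 (D.geo.same ha ha' hP hX' hgd hW (comm_iff.1 hgX))

/-- type A: operators commuting with `X` preserve `W` -/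
theorem typeA {X : isometryGroup F ⇑Q} {l : F} (hl : ∀ w ∈ W, opHom (⇑Q) X w = l • w)
    (hX : Dg e₁ e₂ (opHom (⇑Q) X)) (hXl : ∃ v, opHom (⇑Q) X v ≠ l • v) {g : isometryGroup F ⇑Q} (hgX : Commute g X) :
    (∀ v ∈ W, opHom (⇑Q) g v ∈ W) ∧ (∀ v ∈ C, opHom (⇑Q) g v ∈ C) ∧
      ∃ m : F, m ≠ 0 ∧ opHom (⇑Q) X e₁ = m • e₁ ∧ opHom (⇑Q) X e₂ = m⁻¹ • e₂ ∧ m ≠ l ∧ polar Q e₁ e₂ = 1 := by
  have hnt := D.nt
  have h1 := comm_iff.1 hgX
  have hl1 := D.geo.scalar (opHom_iso _ X) hl
  have hll : l * l = 1 := by rcases hl1 with h | h <;> rw [h] <;> ring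
  obtain ⟨m, hm, h3, h4⟩ := hX
  have hml : m ≠ l ∧ polar Q e₁ e₂ = 1 := by
    obtain ⟨v, hv⟩ := hXl
    constructor
    · rintro rfl
      apply hv
      obtain ⟨w, hw, c, hc, rfl⟩ := D.geo.ex v
      obtain ⟨x, z, rfl⟩ := D.geo.memC hc
      have hinv : m⁻¹ = m := inv_eq_of_mul_eq_one_right hll
      rw [hinv] at h4
      simp only [map_add, map_smul, hl w hw, h3, h4, smul_add, smul_smul]
      rw [mul_comm x m, mul_comm z m]
    · rcases D.geo.pr with hp | ⟨h5, h6⟩
      · exact hp
      · exfalso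
        apply hv
        obtain ⟨w, hw, c, hc, rfl⟩ := D.geo.ex v
        obtain ⟨x, z, rfl⟩ := D.geo.memC hc
        rw [h5, h6]
        simp only [hl w hw, _root_.smul_zero, _root_.add_zero]
  have hW : ∀ v ∈ W, opHom (⇑Q) g v ∈ W := by
    intro v hv
    have h5 : opHom (⇑Q) X (opHom (⇑Q) g v) = l • opHom (⇑Q) g v := by
      rw [← h1, hl v hv, map_smul]
    obtain ⟨w, hw, c, hc, hwc⟩ := D.geo.ex (opHom (⇑Q) g v)
    rw [hwc] at h5 ⊢
    obtain ⟨x, z, rfl⟩ := D.geo.memC hc
    have h6 : x • (m • e₁) + z • (m⁻¹ • e₂) = l • (x • e₁ + z • e₂) := by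
      rw [map_add, hl w hw, smul_add] at h5
      have h7 := add_left_cancel h5
      rwa [map_add, map_smul, map_smul, h3, h4] at h7
    have hinv : m⁻¹ ≠ l := by
      intro h
      apply hml.1
      rw [← inv_inv m, h]
      exact inv_eq_of_mul_eq_one_right hll
    have e11 : polar Q e₁ e₁ = 0 := by
      rw [polar_self]; simp [D.geo.q1]
    have e22 : polar Q e₂ e₂ = 0 := by
      rw [polar_self]; simp [D.geo.q2]
    have e21 : polar Q e₂ e₁ = 1 := by rw [polar_comm]; exact hml.2
    have hx : x = 0 := by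
      have h8 := congrArg (fun v => polar Q v e₂) h6
      simp only [polar_add_left, polar_smul_left, e22, hml.2, smul_eq_mul, mul_zero, add_zero, mul_one] at h8
      have h9 : x * (m - l) = 0 := by linear_combination h8
      exact (mul_eq_zero.1 h9).resolve_right (sub_ne_zero.2 hml.1)
    have hz : z = 0 := by
      have h8 := congrArg (fun v => polar Q v e₁) h6
      simp only [polar_add_left, polar_smul_left, e11, e21, smul_eq_mul, mul_zero, zero_add, mul_one] at h8
      have h9 : z * (m⁻¹ - l) = 0 := by linear_combination h8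
      exact (mul_eq_zero.1 h9).resolve_right (sub_ne_zero.2 hinv)
    rw [hx, hz, zero_smul, zero_smul, add_zero, add_zero]
    exact hw
  exact ⟨hW, D.geo.keepC (opHom_iso _ g) hW, m, hm, h3, h4, hml.1, hml.2⟩

/-- **the `p`-elements of the centralizers fix `C`** -/
theorem pelem {p : ℕ} (hp : p.Prime) [CharP F p] {X : isometryGroup F ⇑Q} (hXΩ : X ∈ Omega F ⇑Q) (hXy : Commute X y)
    (hX1 : ∀ l : F, ∃ v, opHom (⇑Q) X v ≠ l • v) {g : isometryGroup F ⇑Q} (hg : g ∈ Omega F ⇑Q) (hgX : Commute g X)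
    {j : ℕ} (hj : g ^ p ^ j = 1) :
    (∀ v ∈ W, opHom (⇑Q) g v ∈ W) ∧ ∀ v ∈ C, opHom (⇑Q) g v = v := by
  have hnt := D.nt
  have hFt := Fintype.ofFinite F
  have hqp : ∃ f : ℕ, 0 < f ∧ Nat.card F = p ^ f := by
    obtain ⟨f, -, hf⟩ := FiniteField.card F p
    exact ⟨f, f.2, by rw [Nat.card_eq_fintype_card]; exact hf⟩
  obtain ⟨f, hf0, hf⟩ := hqp
  set N := Nat.card F - 1 with hN
  have hN1 : ∀ l : F, l ≠ 0 → l ^ N = 1 := by
    intro l hl
    rw [hN, Nat.card_eq_fintype_card]
    exact FiniteField.pow_card_sub_one_eq_one l hl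
  have hpN : ¬ p ∣ N := by
    intro hd
    have h1 : p ∣ Nat.card F := by rw [hf]; exact dvd_pow_self p hf0.ne'
    have h2 : 1 ≤ Nat.card F := Nat.card_pos
    have h3 : p ∣ 1 := by
      have := Nat.dvd_sub h1 hd
      rwa [hN, Nat.sub_sub_self h2] at this
    exact hp.one_lt.ne' (Nat.dvd_one.1 h3)
  have hgT : (opHom (⇑Q) g) ^ p ^ j = 1 := by rw [← map_pow, hj, map_one]
  have hcop : Nat.Coprime (p ^ j) N := Nat.Coprime.pow_left j ((Nat.Prime.coprime_iff_not_dvd hp).2 hpN)
  obtain ⟨a, ha, hXd⟩ := D.lift hXΩ hXy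
  -- it suffices to know that `g` preserves `W` and `C`, and is diagonal in characteristic two
  have key : (∀ v ∈ W, opHom (⇑Q) g v ∈ W) → (∀ v ∈ C, opHom (⇑Q) g v ∈ C) → (p = 2 → Dg e₁ e₂ (opHom (⇑Q) g)) →
      (∀ v ∈ W, opHom (⇑Q) g v ∈ W) ∧ ∀ v ∈ C, opHom (⇑Q) g v = v := by
    intro hW hC hd
    refine ⟨hW, fun v hv => ?_⟩
    by_cases h2 : p = 2
    · exact fix_of_pow hgT hcop (D.geo.dg_pow (hd h2) N hN1 hv)
    · have hcop' : Nat.Coprime (p ^ j) (2 * N) := by
        apply Nat.Coprime.mul_right _ hcop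
        exact Nat.Coprime.pow_left j ((Nat.coprime_primes hp Nat.prime_two).2 h2)
      exact fix_of_pow hgT hcop' (D.geo.pow_two_mul (opHom_iso _ g) hC N hN1 hv)
  by_cases hA : ∃ l : F, a = algebraMap F K l
  · obtain ⟨l, rfl⟩ := hA
    have hl : ∀ w ∈ W, opHom (⇑Q) X w = l • w := by
      intro w hw
      rw [ha ⟨w, hw⟩, AlgHom.commutes]
      rfl
    obtain ⟨hW, hC, m, hm, h3, h4, hml, hpr⟩ := D.typeA hl hXd (hX1 l) hgX
    refine key hW hC fun h2 => ?_
    subst h2
    have h2F : (2 : F) = 0 := by exact_mod_cast CharP.cast_eq_zero F 2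
    rcases D.geo.dg_or_sw (opHom_iso _ g) hC with hd | ⟨c, hc, h5, h6⟩
    · exact hd
    · exfalso
      have h7 := (comm_iff.1 hgX) e₁
      rw [h3, map_smul, h5, map_smul, h4, smul_smul, smul_smul] at h7
      have h8 : m * c = c * m⁻¹ := by
        have e22 : polar Q e₁ e₂ = 1 := hpr
        have h9 := congrArg (fun v => polar Q e₁ v) h7
        simp only [polar_smul_right, e22, smul_eq_mul, mul_one] at h9
        exact h9
      have h9 : m = m⁻¹ := by
        have h10 : c * (m - m⁻¹) = 0 := by linear_combination h8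
        exact sub_eq_zero.1 ((mul_eq_zero.1 h10).resolve_left hc)
      have h10 : m * m = 1 := by
        nth_rewrite 1 [h9]
        exact inv_mul_cancel₀ hm
      have hl1 := D.geo.scalar (opHom_iso _ X) hl
      have hneg : (-1 : F) = 1 := by
        rw [neg_eq_iff_add_eq_zero, one_add_one_eq_two, h2F]
      have hl2 : l = 1 := by
        rcases hl1 with h | h
        · exact h
        · rw [h, hneg]
      have hm1 : m = 1 := by
        rcases mul_self_eq_one_iff.1 h10 with h | h
        · exact h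
        · rw [h, hneg]
      exact hml (hm1.trans hl2.symm)
  · have hna : ∀ l : F, a ≠ algebraMap F K l := fun l h => hA ⟨l, h⟩
    obtain ⟨hW, hC, hd⟩ := D.typeB ha hna hXd hg hgX
    exact key hW hC fun _ => hd

end Dat

end Cfsg.Agent.H783.CS
end
end

-- part: H783/CS/Count
section
prune_inst 0x4313071042d2210000000001252201c46ba0004000048000000c00b020781240200820061be90001350b2004450380060021000804000000000200400011d00a080801200b048a004040097800000000000000000300000000000000000000000200000000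
set_option linter.all false
open scoped Cfsg.Agent.FastGrp

/-!
# S3677: the `p`-parts of the centralizers (helper783)
-/

set_option autoImplicit false
set_option linter.unusedSectionVars false
set_option linter.style.haveILetI false

namespace Cfsg.Agent.H783.CS

open Module QuadraticMap Cfsg
open Cfsg.Agent.H420.Lift (opHom opHom_apply opHom_injective opHom_iso opHom_eq_one_iff exists_lift)

variable {F : Type*} [Field F] [Finite F] {ι : Type} [Fintype ι] [DecidableEq ι]
  {K : Type*} [Field K] [Finite K] [Algebra F K]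

/-- the isometries fixing `C` pointwise -/
def fixC (Q : QuadraticForm F (ι → F)) (C : Submodule F (ι → F)) : Subgroup (isometryGroup F ⇑Q) where
  carrier := {g | ∀ v ∈ C, opHom (⇑Q) g v = v}
  mul_mem' {g h} hg hh := by
    intro v hv
    rw [map_mul, Module.End.mul_apply, hh v hv, hg v hv]
  one_mem' := by
    intro v _
    rw [map_one]
    rfl
  inv_mem' {g} hg := by
    intro v hv
    have h1 : opHom (⇑Q) g⁻¹ (opHom (⇑Q) g v) = v := by
      rw [← Module.End.mul_apply, ← map_mul, inv_mul_cancel, map_one]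
      rfl
    rwa [hg v hv] at h1

theorem mem_fixC {Q : QuadraticForm F (ι → F)} {C : Submodule F (ι → F)} {g : isometryGroup F ⇑Q} :
    g ∈ fixC Q C ↔ ∀ v ∈ C, opHom (⇑Q) g v = v := Iff.rfl

/-- those commuting with `X` -/
def fixer (Q : QuadraticForm F (ι → F)) (C : Submodule F (ι → F)) (X : isometryGroup F ⇑Q) :
    Subgroup (isometryGroup F ⇑Q) := fixC Q C ⊓ Subgroup.centralizer {X}

theorem mem_fixer {Q : QuadraticForm F (ι → F)} {C : Submodule F (ι → F)} {g X : isometryGroup F ⇑Q} :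
    g ∈ fixer Q C X ↔ (∀ v ∈ C, opHom (⇑Q) g v = v) ∧ Commute g X := by
  rw [fixer, Subgroup.mem_inf, mem_fixC, H370.AAM.mem_cent]

namespace Dat

variable {Q : QuadraticForm F (ι → F)} {y : isometryGroup F ⇑Q} {W C : Submodule F (ι → F)} {e₁ e₂ : ι → F}
  {φ : K →ₐ[F] Module.End F W} (D : Dat Q y W C e₁ e₂ φ)

include D

theorem card_fixer {X : isometryGroup F ⇑Q} (hXW : ∀ v ∈ W, opHom (⇑Q) X v ∈ W) {a : K}
    (ha : ∀ w : W, opHom (⇑Q) X w = φ a w) (ha1 : a ≠ 1) (hXC : ∀ v ∈ C, opHom (⇑Q) X v ∈ C) :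
    Nat.card (fixer Q C X) = Nat.card {g : W ≃ₗ[F] W //
      (∀ u v : W, polar Q (g u : ι → F) (g v) = polar Q (u : ι → F) v) ∧
        ∀ v, g (resW D.geo (opHom_iso _ X) hXW v) = resW D.geo (opHom_iso _ X) hXW (g v)} := by
  have hkeep : ∀ g : fixer Q C X, ∀ v ∈ W, opHom (⇑Q) g.1 v ∈ W := fun g =>
    D.geo.keepW (opHom_iso _ g.1) fun v hv => by
      rw [(mem_fixer.1 g.2).1 v hv]
      exact hv
  refine Nat.card_eq_of_bijective (fun g => ⟨resW D.geo (opHom_iso _ g.1) (hkeep g), ?_, ?_⟩) ⟨?_, ?_⟩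
  · intro u v
    exact (polar_iso (opHom_iso _ g.1) u v :)
  · intro v
    apply Subtype.ext
    rw [resW_apply, resW_apply, resW_apply, resW_apply]
    exact (comm_iff.1 (mem_fixer.1 g.2).2 v :)
  · intro g g' hgg
    apply Subtype.ext
    apply opHom_injective
    apply D.geo.ext_on
    · intro v hv
      have h1 := congrArg (fun t => ((t.1 ⟨v, hv⟩ : W) : ι → F)) hgg
      exact h1
    · intro v hv
      rw [(mem_fixer.1 g.2).1 v hv, (mem_fixer.1 g'.2).1 v hv]
  · rintro ⟨t, ht1, ht2⟩
    have hXt : ∀ w : W, opHom (⇑Q) X (t w) = t ⟨opHom (⇑Q) X w, hXW w w.2⟩ := by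
      intro w
      have h1 := congrArg Subtype.val (ht2 w)
      rw [resW_apply] at h1
      rw [← h1]
      rfl
    -- `t` preserves `Q`
    have hQt : ∀ w : W, Q (t w : ι → F) = Q (w : ι → F) := by
      intro w
      obtain ⟨u, hu⟩ := surj_smul (φ := φ) (sub_ne_zero.2 ha1) w
      have h1 : (w : ι → F) = opHom (⇑Q) X u - u := by
        rw [← hu, map_sub, map_one, LinearMap.sub_apply, Module.End.one_apply, Submodule.coe_sub, ha]
      have h1' : w = ⟨opHom (⇑Q) X u, hXW u u.2⟩ - u := Subtype.ext h1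
      have h2 : (t w : ι → F) = opHom (⇑Q) X (t u) - t u := by
        rw [h1', map_sub, Submodule.coe_sub, hXt]
      have h3 : ∀ x z : ι → F, Q (x - z) = Q x + Q z - polar Q x z := by
        intro x z
        have h4 := polar_neg_right Q x z
        rw [← neg_eq_iff_eq_neg] at h4
        rw [← h4]
        unfold polar
        rw [QuadraticMap.map_neg, ← sub_eq_add_neg]
        ring
      rw [h2, h1, h3, h3, opHom_iso (⇑Q), opHom_iso (⇑Q), hXt, ht1]
      have h5 : 2 * Q (t u : ι → F) = 2 * Q (u : ι → F) := by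
        have h6 := ht1 u u
        rw [polar_self, polar_self] at h6
        simpa only [_root_.mul_eq_mul_left_iff, _root_.nsmul_eq_mul, _root_.Nat.cast_ofNat] using h6
      linear_combination h5
    set T : Module.End F (ι → F) := LinearMap.ofIsCompl D.geo.ic (W.subtype ∘ₗ t.toLinearMap) C.subtype with hT
    have hTW : ∀ w : W, T w = t w := fun w => LinearMap.ofIsCompl_apply_left D.geo.ic w
    have hTC : ∀ v ∈ C, T v = v := fun v hv => LinearMap.ofIsCompl_apply_right D.geo.ic ⟨v, hv⟩
    have hTQ : ∀ v, Q (T v) = Q v := by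
      intro v
      obtain ⟨w, hw, c, hc, rfl⟩ := D.geo.ex v
      have h3 : ∀ x z : ι → F, Q (x + z) = Q x + Q z + polar Q x z := by
        intro x z
        unfold polar
        ring
      rw [map_add, hTW ⟨w, hw⟩, hTC c hc, h3, h3, hQt, D.geo.perp _ (t ⟨w, hw⟩).2 c hc, D.geo.perp w hw c hc]
    obtain ⟨g, hg⟩ := exists_isom Q hTQ (D.geo.inj hTQ)
    have hgm : g ∈ fixer Q C X := by
      rw [mem_fixer]
      refine ⟨fun v hv => by rw [hg]; exact hTC v hv, ?_⟩
      rw [comm_iff]
      rw [hg]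
      have key : T * opHom (⇑Q) X = opHom (⇑Q) X * T := by
        apply D.geo.ext_on
        · intro v hv
          change T (opHom (⇑Q) X v) = opHom (⇑Q) X (T v)
          rw [hTW ⟨v, hv⟩, hXt, ← hTW]
        · intro v hv
          change T (opHom (⇑Q) X v) = opHom (⇑Q) X (T v)
          rw [hTC v hv, hTC _ (hXC v hv)]
      exact fun v => LinearMap.congr_fun key v
    refine ⟨⟨g, hgm⟩, ?_⟩
    apply Subtype.ext
    apply LinearEquiv.ext
    intro w
    apply Subtype.ext
    rw [resW_apply]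
    change opHom (⇑Q) g w = _
    rw [hg, hTW]

theorem evC : Even (finrank F C) := by
  have h1 := Submodule.finrank_add_eq_of_isCompl D.geo.ic
  have h2 := D.hev
  rw [Module.finrank_fintype_fun_eq_card] at h1
  rw [← h1] at h2
  exact (Nat.even_add.1 h2).1 D.ev

/-- **type B: the `p`-part of the centralizer in `Ω`** -/
theorem factB {p : ℕ} (hp : p.Prime) [CharP F p] {X : Omega F ⇑Q} (hXy : Commute (X : isometryGroup F ⇑Q) y)
    {a : K} (ha : ∀ w : W, opHom (⇑Q) (X : isometryGroup F ⇑Q) w = φ a w) (hna : ∀ l : F, a ≠ algebraMap F K l) :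
    (Nat.card (Subgroup.centralizer ({X} : Set (Omega F ⇑Q)))).factorization p =
      (Nat.card (fixer Q C (X : isometryGroup F ⇑Q))).factorization p := by
  have hnt := D.nt
  obtain ⟨hXW, hXC⟩ := D.keep (comm_iff.1 hXy)
  obtain ⟨k, m, -, -, -, hk, -⟩ := D.geo.count (opHom_iso _ X) (by exact hXW) ha hna
  have h1 : Nat.card (Subgroup.centralizer ({X} : Set (Omega F ⇑Q))) =
      Nat.card ((Subgroup.centralizer ({X} : Set (Omega F ⇑Q))).map (Omega F ⇑Q).subtype) :=
    Nat.card_congr ((Subgroup.centralizer ({X} : Set (Omega F ⇑Q))).equivMapOfInjective _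
      (Omega F ⇑Q).subtype_injective).toEquiv
  rw [h1]
  apply le_antisymm
  · apply fact_le hp
    rintro _ ⟨g, hg, rfl⟩ j hj
    rw [SetLike.mem_coe, H370.AAM.mem_cent] at hg
    have hgX : Commute (g : isometryGroup F ⇑Q) X := hg.map (Omega F ⇑Q).subtype
    refine mem_fixer.2 ⟨?_, hgX⟩
    refine (D.pelem hp X.2 hXy ?_ g.2 hgX hj).2
    intro l
    by_contra hcon
    push Not at hcon
    obtain ⟨w, hw⟩ := _root_.exists_ne (0 : W)
    have h2 : φ (a - algebraMap F K l) w = 0 := by
      apply Subtype.ext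
      rw [map_sub, AlgHom.commutes, LinearMap.sub_apply, Submodule.coe_sub, ← ha, hcon]
      exact sub_self _
    exact hw (inv_smul (sub_ne_zero.2 (hna l)) h2)
  · apply fact_le hp
    intro g hg j hj
    obtain ⟨hgC, hgX⟩ := mem_fixer.1 hg
    have hC' : ∀ v ∈ C, opHom (⇑Q) g v ∈ C := fun v hv => by rw [hgC v hv]; exact hv
    have hgΩ : g ∈ Omega F ⇑Q := by
      rcases hp.eq_two_or_odd' with h2 | h2
      · subst h2
        have h2F : (2 : F) = 0 := by exact_mod_cast CharP.cast_eq_zero F 2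
        apply mem_omega_of_even h2F D.hQ (by have := D.hn; omega) D.hev
        rw [D.geo.fix_split (D.geo.keepW (opHom_iso _ g) hC') hC']
        apply Even.add
        · obtain ⟨c, hc⟩ := D.geo.dvd_fix ha (comm_iff.1 hgX)
          rw [hc, hk, mul_assoc]
          exact even_two_mul _
        · have h3 : (LinearMap.ker (opHom (⇑Q) g - 1) ⊓ C : Submodule F (ι → F)) = C := by
            rw [inf_eq_right]
            intro v hv
            rw [LinearMap.mem_ker, LinearMap.sub_apply, Module.End.one_apply, hgC v hv, sub_self]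
          rw [h3]
          exact D.evC
      · exact mem_omega_of_odd D.hQ (by have := D.hn; omega) (h2.pow (n := j)) hj
    exact ⟨⟨g, hgΩ⟩, H370.AAM.mem_cent.2 (Subtype.ext hgX.eq), rfl⟩

/-- the `p`-part of the centralizer in `Ω` of any nonscalar element commuting with `y` -/
theorem fact_le_fixC {p : ℕ} (hp : p.Prime) [CharP F p] {X : Omega F ⇑Q} (hXy : Commute (X : isometryGroup F ⇑Q) y)
    (hX1 : ∀ l : F, ∃ v, opHom (⇑Q) (X : isometryGroup F ⇑Q) v ≠ l • v) :
    (Nat.card (Subgroup.centralizer ({X} : Set (Omega F ⇑Q)))).factorization p ≤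
      (Nat.card (fixC Q C)).factorization p := by
  have h1 : Nat.card (Subgroup.centralizer ({X} : Set (Omega F ⇑Q))) =
      Nat.card ((Subgroup.centralizer ({X} : Set (Omega F ⇑Q))).map (Omega F ⇑Q).subtype) :=
    Nat.card_congr ((Subgroup.centralizer ({X} : Set (Omega F ⇑Q))).equivMapOfInjective _
      (Omega F ⇑Q).subtype_injective).toEquiv
  rw [h1]
  apply fact_le hp
  rintro _ ⟨g, hg, rfl⟩ j hj
  rw [SetLike.mem_coe, H370.AAM.mem_cent] at hg
  have hgX : Commute (g : isometryGroup F ⇑Q) X := hg.map (Omega F ⇑Q).subtype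
  exact mem_fixC.2 (D.pelem hp X.2 hXy hX1 g.2 hgX hj).2

/-- **type A is maximal** -/
theorem factA {p : ℕ} (hp : p.Prime) [CharP F p] {X X' : Omega F ⇑Q} (hXy : Commute (X : isometryGroup F ⇑Q) y)
    {l : F} (hl : ∀ w ∈ W, opHom (⇑Q) (X : isometryGroup F ⇑Q) w = l • w)
    (hXy' : Commute (X' : isometryGroup F ⇑Q) y)
    (hX1 : ∀ l : F, ∃ v, opHom (⇑Q) (X' : isometryGroup F ⇑Q) v ≠ l • v) :
    (Nat.card (Subgroup.centralizer ({X'} : Set (Omega F ⇑Q)))).factorization p ≤
      (Nat.card (Subgroup.centralizer ({X} : Set (Omega F ⇑Q)))).factorization p := by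
  apply fact_le hp
  intro g hg j hj
  rw [H370.AAM.mem_cent] at hg ⊢
  have hgX : Commute (g : isometryGroup F ⇑Q) X' := hg.map (Omega F ⇑Q).subtype
  obtain ⟨hW, hC⟩ := D.pelem hp X'.2 hXy' hX1 g.2 hgX (congrArg Subtype.val hj)
  obtain ⟨-, hXC⟩ := D.keep (comm_iff.1 hXy)
  have key : Commute (g : isometryGroup F ⇑Q) X := by
    rw [comm_iff]
    have h1 : opHom (⇑Q) (g : isometryGroup F ⇑Q) * opHom (⇑Q) (X : isometryGroup F ⇑Q) =
        opHom (⇑Q) (X : isometryGroup F ⇑Q) * opHom (⇑Q) (g : isometryGroup F ⇑Q) := by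
      apply D.geo.ext_on
      · intro v hv
        rw [Module.End.mul_apply, Module.End.mul_apply, hl v hv, map_smul, hl _ (hW v hv)]
      · intro v hv
        rw [Module.End.mul_apply, Module.End.mul_apply, hC v hv, hC _ (hXC v hv)]
    exact fun v => LinearMap.congr_fun h1 v
  exact Subtype.ext key.eq

end Dat

/-- the `p`-part of the unitary order -/
theorem fact_formula {p q f k m : ℕ} (hp : p.Prime) (hq : q = p ^ f) (hf : 0 < f) (hk : 0 < k) :
    ((q ^ k) ^ (m * (m - 1) / 2) *
      ∏ i ∈ Finset.range m, (if Even i then (q ^ k) ^ (i + 1) + 1 else (q ^ k) ^ (i + 1) - 1)).factorization p =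
      f * (k * (m * (m - 1) / 2)) := by
  have hpq : p ∣ q ^ k := by
    rw [hq, ← pow_mul]
    exact dvd_pow_self p (by positivity)
  have hq1 : 1 < q ^ k := by
    rw [hq, ← pow_mul]
    exact Nat.one_lt_pow (by positivity) hp.one_lt
  have hprod : ¬ p ∣ ∏ i ∈ Finset.range m, (if Even i then (q ^ k) ^ (i + 1) + 1 else (q ^ k) ^ (i + 1) - 1) := by
    rw [Prime.dvd_finsetProd_iff hp.prime]
    rintro ⟨i, -, hi⟩
    have h1 : p ∣ (q ^ k) ^ (i + 1) := dvd_pow hpq (by omega)
    split_ifs at hi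
    · have := (Nat.dvd_add_right h1).1 hi
      exact hp.one_lt.ne' (Nat.dvd_one.1 this)
    · have h2 : 1 ≤ (q ^ k) ^ (i + 1) := Nat.one_le_pow _ _ (by omega)
      have h3 : p ∣ 1 := by
        have := Nat.dvd_sub h1 hi
        rwa [Nat.sub_sub_self h2] at this
      exact hp.one_lt.ne' (Nat.dvd_one.1 h3)
  have h0 : ∏ i ∈ Finset.range m, (if Even i then (q ^ k) ^ (i + 1) + 1 else (q ^ k) ^ (i + 1) - 1) ≠ 0 := by
    intro h
    rw [h] at hprod
    exact hprod (dvd_zero p)
  rw [Nat.factorization_mul (pow_ne_zero _ (by omega)) h0, Finsupp.add_apply,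
    Nat.factorization_eq_zero_of_not_dvd hprod, add_zero, hq, ← pow_mul, ← pow_mul, hp.factorization_pow,
    Finsupp.single_eq_same]

end Cfsg.Agent.H783.CS

private theorem dce_cfbb85b22274 : _root_.True := by
  try have : _root_.True := by simp only [_root_.Cfsg.Agent.H783.CS.fixer.eq_1]
  exact _root_.True.intro
end

-- part: H783/CS/Lat
section
prune_inst 0x4313071043da010000000009073201c46a20004b00048000000c003020781040200020060be100011408200444038006003000000420000000a200400011d008000801400b048a108000090000000000000000000300000000000000000000000200000000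
set_option linter.all false
open scoped Cfsg.Agent.FastGrp

-- part: H783/CS/Exists
section
/-!
# S3677: the decomposition attached to an element of order `r` of `Ω(Q)` (helper783)
-/

set_option autoImplicit false
set_option linter.unusedSectionVars false
set_option linter.style.haveILetI false

namespace Cfsg.Agent.H783.CS

open Module QuadraticMap Cfsg
open Cfsg.Agent.H420.Lift (opHom opHom_apply opHom_injective opHom_iso opHom_eq_one_iff exists_lift)

universe u

variable {F : Type u} [Field F] [Finite F] {ι : Type} [Fintype ι] [DecidableEq ι]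

theorem exists_pair {V : Type*} [AddCommGroup V] [Module F V] [FiniteDimensional F V] {Q : QuadraticForm F V}
    {C : Submodule F V} (hC : finrank F C = 2) {u c : V} (hu : u ∈ C) (hc : c ∈ C) (hQu : Q u = 0)
    (huc : polar Q u c ≠ 0) : ∃ e₂ : V, Q e₂ = 0 ∧ polar Q u e₂ = 1 ∧ C = Submodule.span F {u, e₂} := by
  set p := polar Q u c with hp
  set c' := p⁻¹ • c with hc'
  have h1 : polar Q u c' = 1 := by rw [hc', polar_smul_right, smul_eq_mul, ← hp, inv_mul_cancel₀ huc]
  have huu : polar Q u u = 0 := by rw [polar_self]; simp [hQu]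
  have hc'u : polar Q c' u = 1 := by rw [polar_comm]; exact h1
  set e₂ := c' + (-Q c') • u with he
  have he2 : e₂ ∈ C := C.add_mem (C.smul_mem _ hc) (C.smul_mem _ hu)
  have h2 : Q e₂ = 0 := by
    have h3 : ∀ x z : V, Q (x + z) = Q x + Q z + polar Q x z := by
      intro x z
      unfold polar
      ring
    have h4 := h3 c' ((-Q c') • u)
    rw [QuadraticMap.map_smul Q (-Q c') u, hQu, polar_smul_right, hc'u] at h4
    rw [he, h4]
    simp
  have h3 : polar Q u e₂ = 1 := by
    rw [he, polar_add_right, h1, polar_smul_right, huu]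
    simp
  refine ⟨e₂, h2, h3, ?_⟩
  have hli : LinearIndependent F ![u, e₂] := by
    rw [LinearIndependent.pair_iff]
    intro s t hst
    have e22 : polar Q e₂ e₂ = 0 := by rw [polar_self]; simp [h2]
    have e21 : polar Q e₂ u = 1 := by rw [polar_comm]; exact h3
    constructor
    · have := congrArg (fun v => polar Q v e₂) hst
      simp only [polar_add_left, polar_smul_left, e22, h3, polar_zero_left, smul_eq_mul, mul_zero, add_zero,
        mul_one] at this
      exact this
    · have := congrArg (fun v => polar Q v u) hst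
      simp only [polar_add_left, polar_smul_left, huu, e21, polar_zero_left, smul_eq_mul, mul_zero, zero_add,
        mul_one] at this
      exact this
  symm
  have hr : Set.range ![u, e₂] = {u, e₂} := by
    rw [Matrix.range_cons, Matrix.range_cons, Matrix.range_empty, Set.union_empty, Set.singleton_union]
  have h4 := finrank_span_eq_card hli
  rw [hr, Fintype.card_fin] at h4
  apply Submodule.eq_of_le_of_finrank_eq
  · rw [Submodule.span_le]
    rintro v (rfl | hv)
    · exact hu
    · rw [Set.mem_singleton_iff.1 hv]; exact he2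
  · rw [h4, hC]

/-- **the data attached to an element of order `r`** -/
theorem exists_dat {Q : QuadraticForm F (ι → F)} (hQ : (polarBilin Q).Nondegenerate) (hn : 6 ≤ Fintype.card ι) {n : ℕ}
    (hdim : Fintype.card ι = 2 * n) {r : ℕ} (hr : r.Prime) (hrF : (r : F) ≠ 0) {y : isometryGroup F ⇑Q}
    (hy : y ^ r = 1) (hy1 : y ≠ 1) {e : ℕ} (ho : orderOf ((Nat.card F : ℕ) : ZMod r) = 2 * e)
    (he : e = n ∨ e + 1 = n ∧ ∃ u, opHom (⇑Q) y u = u ∧ u ≠ 0 ∧ Q u = 0) :
    ∃ (W C : Submodule F (ι → F)) (e₁ e₂ : ι → F) (K : Type u) (_ : Field K) (_ : Finite K) (_ : Algebra F K)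
      (φ : K →ₐ[F] Module.End F W), Dat Q y W C e₁ e₂ φ ∧ finrank F W = 2 * e ∧ (e = n → C = ⊥) ∧
        (e + 1 = n → polar Q e₁ e₂ = 1) := by
  have hfr := Fact.mk hr
  set s := opHom (⇑Q) y with hs
  have hsr : s ^ r = 1 := by rw [hs, ← map_pow, hy, map_one]
  have hs1 : s ≠ 1 := fun h => hy1 ((opHom_eq_one_iff _).1 h)
  have hnd : ∀ u, (∀ v, polar Q u v = 0) → u = 0 := Cfsg.Agent.LieClassical.OrthCore.nondeg_of_nondegenerate hQ
  set W := LinearMap.range (s - 1) with hW
  set C := LinearMap.ker (s - 1) with hC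
  have hmC : ∀ v, v ∈ C ↔ s v = v := by
    intro v
    rw [hC, LinearMap.mem_ker, LinearMap.sub_apply, Module.End.one_apply, sub_eq_zero]
  have hcompl : IsCompl C W := H150.isCompl_fix hrF s hsr
  have hsum := Submodule.finrank_add_eq_of_isCompl hcompl
  rw [Module.finrank_fintype_fun_eq_card, hdim] at hsum
  have hsW : ∀ v ∈ W, s v ∈ W := (H150.range_inv (x := s) (y := s) fun v => rfl).1
  have hW0 : W ≠ ⊥ := by
    intro h
    rw [hW, LinearMap.range_eq_bot, sub_eq_zero] at h
    exact hs1 h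
  have hnt : Nontrivial W := Submodule.nontrivial_iff_ne_bot.2 hW0
  have hWpos : 0 < finrank F W := Module.finrank_pos
  have hdvd := H150.dvd_finrank_of_fpf_submodule hr s hsr W hsW (H150.fpf_range hrF s hsr)
  rw [ho] at hdvd
  have he3 : 2 ≤ e := by rcases he with h | ⟨h, -⟩ <;> omega
  have hWe : finrank F W = 2 * e := by
    obtain ⟨c, hc⟩ := hdvd
    have hc0 : c ≠ 0 := by rintro rfl; omega
    have hc1 : c < 2 := by
      by_contra hcon
      have h1 : 2 * e * 2 ≤ 2 * e * c := Nat.mul_le_mul_left _ (by omega)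
      have : finrank F W ≤ 2 * n := by omega
      rcases he with h | ⟨h, -⟩ <;> omega
    have : c = 1 := by omega
    rw [hc, this, mul_one]
  -- the field
  have hq1 : 1 ≤ Nat.card F := Nat.card_pos
  have hmod : ∀ d : ℕ, r ∣ Nat.card F ^ d - 1 ↔ 2 * e ∣ d := by
    intro d
    rw [← ho, orderOf_dvd_iff_pow_eq_one, ← Nat.cast_pow, ← sub_eq_zero, ← ZMod.natCast_eq_zero_iff,
      Nat.cast_sub (Nat.one_le_pow _ _ hq1), Nat.cast_one]
  obtain ⟨K, i1, i2, i3, φ, hφ, hcen⟩ := H363.CentField.exists_field (x := s.restrict hsW) hr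
    (H150.restrict_pow_eq_one hsW hsr) (by
      intro h
      obtain ⟨w, hw⟩ := _root_.exists_ne (0 : W)
      apply hw
      apply Subtype.ext
      apply H150.fpf_range hrF s hsr w w.2
      exact congrArg Subtype.val (LinearMap.congr_fun h w)) (by rw [hWe, hmod]) (by
      intro d hd0 hd1 hd
      rw [hmod] at hd
      rw [hWe] at hd1
      exact absurd (Nat.le_of_dvd hd0 hd) (by omega))
  have hcen' : ∀ A : Module.End F (ι → F), (∀ v, A (s v) = s (A v)) → ∃ a : K, ∀ w : W, A w = φ a w := by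
    intro A hA
    have hAW : ∀ v ∈ W, A v ∈ W := (H150.range_inv (x := s) (y := A) fun v => (hA v).symm).1
    obtain ⟨a, ha⟩ := (hcen (A.restrict hAW)).1 (by
      apply LinearMap.ext
      intro w
      apply Subtype.ext
      exact hA w)
    refine ⟨a, fun w => ?_⟩
    rw [ha]
    rfl
  have hperp : ∀ w ∈ W, ∀ c ∈ C, polar Q w c = 0 := by
    intro w hw c hc
    exact H150.ortho_fix' (polarBilin Q) s (fun x z => polar_iso (opHom_iso (⇑Q) y) x z) ((hmC c).1 hc) hw
  -- the plane
  obtain ⟨e₁, e₂, hg, hg1, hg2⟩ : ∃ e₁ e₂ : ι → F, Geo Q W C e₁ e₂ ∧ (e = n → C = ⊥) ∧ (e + 1 = n → polar Q e₁ e₂ = 1) := by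
    rcases he with rfl | ⟨he, u, hu1, hu2, hu3⟩
    · have hC0 : C = ⊥ := by
        rw [← Submodule.finrank_eq_zero (R := F)]
        omega
      refine ⟨0, 0, ⟨hnd, hcompl.symm, hperp, QuadraticMap.map_zero Q, QuadraticMap.map_zero Q, Or.inr ⟨rfl, rfl⟩, ?_⟩,
        fun _ => hC0, fun h => by omega⟩
      rw [hC0]
      simp only [_root_.Set.mem_singleton_iff, _root_.Set.insert_eq_of_mem, _root_.Submodule.span_zero_singleton]
    · have huC : u ∈ C := (hmC u).2 hu1
      obtain ⟨c, hc⟩ : ∃ c : C, polar Q u (c : ι → F) ≠ 0 := by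
        by_contra hcon
        push Not at hcon
        have h1 := H150.nondeg_ker hrF (polarBilin Q) (fun u hu => hnd u hu) s hsr
          (fun x z => polar_iso (opHom_iso (⇑Q) y) x z) ⟨u, huC⟩ (fun v => hcon v)
        exact hu2 (congrArg Subtype.val h1)
      obtain ⟨e₂, h1, h2, h3⟩ := exists_pair (Q := Q) (C := C) (by omega) huC c.2 hu3 hc
      exact ⟨u, e₂, ⟨hnd, hcompl.symm, hperp, hu3, h1, Or.inl h2, h3⟩, fun h => by omega, fun _ => h2⟩
  exact ⟨W, C, e₁, e₂, K, i1, i2, i3, φ, ⟨hg, rfl, rfl, hcen', by rw [hWe]; exact even_two_mul e, hnt, hQ, hn,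
    by rw [hdim]; exact even_two_mul n⟩, hWe, hg1, hg2⟩

/-- elements of order `r` commuting with `y` are powers of `y` -/
theorem Dat.uniq {K : Type*} [Field K] [Finite K] [Algebra F K] {Q : QuadraticForm F (ι → F)} {y : isometryGroup F ⇑Q}
    {W C : Submodule F (ι → F)} {e₁ e₂ : ι → F} {φ : K →ₐ[F] Module.End F W} (D : Dat Q y W C e₁ e₂ φ) {r : ℕ}
    (hr : r.Prime) (hy : y ^ r = 1) (hy1 : y ≠ 1) (hrq : ¬ r ∣ Nat.card F - 1) {X : isometryGroup F ⇑Q}
    (hX : X ∈ Omega F ⇑Q) (hXy : Commute X y) (hXr : X ^ r = 1) : ∃ j : ℕ, X = y ^ j := by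
  have hfr := Fact.mk hr
  have hnt := D.nt
  have hFt := Fintype.ofFinite F
  have hinj : Function.Injective φ := φ.toRingHom.injective
  obtain ⟨a, ha, hd⟩ := D.lift hX hXy
  obtain ⟨z, hz⟩ := D.cen (opHom (⇑Q) y) fun v => rfl
  have hpow : ∀ (T : Module.End F (ι → F)) (b : K), (∀ w : W, T w = φ b w) → ∀ (k : ℕ) (w : W), (T ^ k) w = φ (b ^ k) w := by
    intro T b hT k
    induction k with
    | zero => intro w; rw [pow_zero, pow_zero, map_one]; rfl
    | succ k ih =>
      intro w
      rw [pow_succ, Module.End.mul_apply, hT, ih, pow_succ, map_mul]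
      rfl
  have hone : ∀ (b : K), (∀ w : W, (w : ι → F) = φ b w) → b = 1 := by
    intro b hb
    apply hinj
    rw [map_one]
    apply LinearMap.ext
    intro w
    exact Subtype.ext (hb w).symm
  have ha1 : a ^ r = 1 := by
    apply hone
    intro w
    rw [← hpow _ a ha, ← map_pow, hXr, map_one]
    rfl
  have hz1 : z ^ r = 1 := by
    apply hone
    intro w
    rw [← hpow _ z hz, ← map_pow, hy, map_one]
    rfl
  have hyC : ∀ v ∈ C, opHom (⇑Q) y v = v := by
    intro v hv
    rw [D.hC, LinearMap.mem_ker, LinearMap.sub_apply, Module.End.one_apply, sub_eq_zero] at hv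
    exact hv
  have hz0 : z ≠ 1 := by
    rintro rfl
    apply hy1
    apply opHom_injective
    apply D.geo.ext_on
    · intro v hv
      rw [hz ⟨v, hv⟩, map_one, map_one]
      rfl
    · intro v hv
      rw [hyC v hv, map_one]
      rfl
  have hprim : IsPrimitiveRoot z r := by
    rw [IsPrimitiveRoot.iff_orderOf]
    exact orderOf_eq_prime hz1 hz0
  obtain ⟨j, -, hj⟩ := hprim.eq_pow_of_pow_eq_one ha1
  refine ⟨j, ?_⟩
  apply opHom_injective
  rw [map_pow]
  apply D.geo.ext_on
  · intro v hv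
    rw [ha ⟨v, hv⟩, ← hj]
    exact (hpow _ z hz j ⟨v, hv⟩).symm
  · intro v hv
    have h1 : opHom (⇑Q) X v = v := by
      have h2 : (opHom (⇑Q) X) ^ r = 1 := by rw [← map_pow, hXr, map_one]
      apply fix_of_pow h2 ((Nat.Prime.coprime_iff_not_dvd hr).2 hrq)
      apply D.geo.dg_pow hd _ _ hv
      intro l hl
      rw [Nat.card_eq_fintype_card]
      exact FiniteField.pow_card_sub_one_eq_one l hl
    rw [h1]
    have h3 : ∀ k : ℕ, ((opHom (⇑Q) y) ^ k) v = v := by
      intro k
      induction k with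
      | zero => rfl
      | succ k ih => rw [pow_succ, Module.End.mul_apply, hyC v hv, ih]
    rw [h3]

end Cfsg.Agent.H783.CS
end

-- part: H783/CS/Hyp
section
/-!
# S3677: the pointwise stabilizer of a hyperbolic plane (helper783)
-/

set_option autoImplicit false
set_option linter.unusedSectionVars false
set_option linter.style.haveILetI false

namespace Cfsg.Agent.H783.CS

open Module QuadraticMap Cfsg
open Cfsg.Agent.H420.Lift (opHom opHom_apply opHom_injective opHom_iso opHom_eq_one_iff exists_lift)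
open Cfsg.Agent.LieClassical.OrthCount (IsHyp isometryGroupEquiv OG exists_map_singular partnerMap card_OG_eq_mul)

theorem hyp_add {F : Type*} [Field F] {V : Type*} [AddCommGroup V] [Module F V] (Q : QuadraticForm F V) (x z : V) :
    Q (x + z) = Q x + Q z + polar Q x z := by
  unfold polar
  ring

/-- the partners of `e₁` -/
noncomputable def partners {F : Type*} [Field F] {V : Type*} [AddCommGroup V] [Module F V] [FiniteDimensional F V]
    {Q : QuadraticForm F V} {W C : Submodule F V} {e₁ e₂ : V} (h : Geo Q W C e₁ e₂) (hp : polar Q e₁ e₂ = 1) :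
    W ≃ {v : V // IsHyp Q e₁ v} := by
  refine Equiv.ofBijective (fun w => ⟨(w : V) + ((-Q (w : V)) • e₁ + (1 : F) • e₂), h.q1, ?_, ?_⟩) ⟨?_, ?_⟩
  · rw [hyp_add, h.Q_comb, hp, h.perp w w.2 _ (C.add_mem (C.smul_mem _ h.e1C) (C.smul_mem _ h.e2C))]
    ring
  · have e11 : polar Q e₁ e₁ = 0 := by rw [polar_self]; simp [h.q1]
    rw [polar_add_right, h.perp' w.2 h.e1C, polar_add_right, polar_smul_right, polar_smul_right, e11, hp]
    simp
  · intro w w' hww
    have h1 : (w : V) + ((-Q (w : V)) • e₁ + (1 : F) • e₂) = (w' : V) + ((-Q (w' : V)) • e₁ + (1 : F) • e₂) :=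
      congrArg Subtype.val hww
    have h2 : ((w : V) - w') = ((-Q (w' : V)) • e₁ + (1 : F) • e₂) - ((-Q (w : V)) • e₁ + (1 : F) • e₂) := by
      rw [sub_eq_sub_iff_add_eq_add, h1, add_comm]
    have h3 : ((w : V) - w') = 0 := (Submodule.disjoint_def.1 h.ic.disjoint) _ (W.sub_mem w.2 w'.2)
      (h2 ▸ C.sub_mem (C.add_mem (C.smul_mem _ h.e1C) (C.smul_mem _ h.e2C))
        (C.add_mem (C.smul_mem _ h.e1C) (C.smul_mem _ h.e2C)))
    exact Subtype.ext (sub_eq_zero.1 h3)
  · rintro ⟨v, hv1, hv2, hv3⟩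
    obtain ⟨w, hw, c, hc, rfl⟩ := h.ex v
    obtain ⟨a, b, rfl⟩ := h.memC hc
    have e11 : polar Q e₁ e₁ = 0 := by rw [polar_self]; simp [h.q1]
    have hb : b = 1 := by
      rw [polar_add_right, h.perp' hw h.e1C, polar_add_right, polar_smul_right, polar_smul_right, e11, hp] at hv3
      simpa using hv3
    have ha : a = -Q w := by
      rw [hyp_add, h.Q_comb, hp, h.perp w hw _ hc, hb] at hv2
      linear_combination hv2
    refine ⟨⟨w, hw⟩, Subtype.ext ?_⟩
    change w + ((-Q w) • e₁ + (1 : F) • e₂) = w + (a • e₁ + b • e₂)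
    rw [ha, hb]

/-- the number of hyperbolic pairs is divisible by `|W|` -/
theorem dvd_pairs {F : Type*} [Field F] [Finite F] {V : Type*} [AddCommGroup V] [Module F V] [FiniteDimensional F V]
    {Q : QuadraticForm F V} {W C : Submodule F V} {e₁ e₂ : V} (h : Geo Q W C e₁ e₂) (hp : polar Q e₁ e₂ = 1) :
    Nat.card W ∣ Nat.card {p : V × V // IsHyp Q p.1 p.2} := by
  have hfV : Finite V := Module.finite_of_finite F
  let e : {p : V × V // IsHyp Q p.1 p.2} ≃ Σ u : {u : V // ∃ v, IsHyp Q u v}, {v : V // IsHyp Q u v} :=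
    { toFun := fun p => ⟨⟨p.1.1, p.1.2, p.2⟩, ⟨p.1.2, p.2⟩⟩
      invFun := fun s => ⟨(s.1.1, s.2.1), s.2.2⟩
      left_inv := fun p => rfl
      right_inv := fun s => rfl }
  have hft : Fintype {u : V // ∃ v, IsHyp Q u v} := Fintype.ofFinite _
  rw [Nat.card_congr e, Nat.card_sigma]
  apply Finset.dvd_sum
  rintro ⟨u, v, huv⟩ -
  obtain ⟨g, hg, rfl⟩ := exists_map_singular Q (e := e₁) (f := e₂) ⟨h.q1, h.q2, hp⟩ huv
  rw [← Nat.card_congr (partnerMap hg e₁), ← Nat.card_congr (partners h hp)]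

variable {F : Type*} [Field F] [Finite F] {ι : Type} [Fintype ι] [DecidableEq ι]

theorem card_fixC {Q : QuadraticForm F (ι → F)} {W C : Submodule F (ι → F)} {e₁ e₂ : ι → F} (h : Geo Q W C e₁ e₂)
    (hp : polar Q e₁ e₂ = 1) : Nat.card W * Nat.card (fixC Q C) ∣ Nat.card (isometryGroup F ⇑Q) := by
  have h1 : Nat.card (isometryGroup F ⇑Q) = Nat.card (OG Q) := Nat.card_congr (isometryGroupEquiv Q).toEquiv
  have h2 : Nat.card (fixC Q C) = Nat.card {g : OG Q // g.1 e₁ = e₁ ∧ g.1 e₂ = e₂} := by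
    refine Nat.card_congr ((isometryGroupEquiv Q).toEquiv.subtypeEquiv fun g => ?_)
    have h3 : ∀ v, ((isometryGroupEquiv Q).toEquiv g).1 v = opHom (⇑Q) g v := fun v => rfl
    rw [h3, h3]
    constructor
    · intro hg
      exact ⟨hg e₁ h.e1C, hg e₂ h.e2C⟩
    · rintro ⟨hg1, hg2⟩ v hv
      obtain ⟨a, b, rfl⟩ := h.memC hv
      rw [map_add, map_smul, map_smul, hg1, hg2]
  rw [h1, h2, card_OG_eq_mul Q (e := e₁) (f := e₂) ⟨h.q1, h.q2, hp⟩]
  exact Nat.mul_dvd_mul_right (dvd_pairs h hp) _

/-- the `p`-part of the order of `PΩ(Q)` -/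
theorem fact_iso {Q : QuadraticForm F (ι → F)} (hQ : (polarBilin Q).Nondegenerate) (hn : 6 ≤ Fintype.card ι)
    (hs : ∃ u : ι → F, u ≠ 0 ∧ Q u = 0) {p : ℕ} (hp : p.Prime) [CharP F p] :
    (Nat.card (isometryGroup F ⇑Q)).factorization p ≤ (Nat.card (POmega F ⇑Q)).factorization p + 1 := by
  have hfin : Finite (Omega F ⇑Q) := inferInstance
  have hne : Nonempty ι := Fintype.card_pos_iff.1 (by omega)
  have h2p : p = 2 ∨ Odd p := hp.eq_two_or_odd'
  have h2F : p = 2 → (2 : F) = 0 := by
    rintro rfl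
    exact_mod_cast CharP.cast_eq_zero F 2
  have hz : ¬ p ∣ Nat.card (Subgroup.center (Omega F ⇑Q)) := by
    intro hd
    have := Fact.mk hp
    obtain ⟨⟨z, hz1⟩, hz2⟩ := exists_prime_orderOf_dvd_card' p hd
    rw [Subgroup.orderOf_mk] at hz2
    rcases h2p with h | h
    · have := center_two hQ (by omega) hs (h2F h) hz1
      rw [this, orderOf_one] at hz2
      exact hp.one_lt.ne hz2
    · have h3 := orderOf_dvd_of_pow_eq_one (center_sq hQ (by omega) hs hz1)
      rw [hz2] at h3
      have := (Nat.prime_dvd_prime_iff_eq hp Nat.prime_two).1 h3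
      rw [this] at h
      exact absurd h (by decide)
  have hi : (Omega F ⇑Q).index.factorization p ≤ 1 ∧ (Omega F ⇑Q).index ≠ 0 := by
    rcases h2p with h | h
    · have h1 := Cfsg.Agent.ClassicalGeometry.OrthDickson.index_commutator_two Q (h2F h) hQ (Or.inr (by omega))
      change (Omega F ⇑Q).index = 2 at h1
      rw [h1]
      refine ⟨?_, two_ne_zero⟩
      rw [h]
      simp [Nat.prime_two.factorization]
    · have h2 : (2 : F) ≠ 0 := by
        intro h2
        have h3 : p ∣ 2 := (CharP.cast_eq_zero_iff F p 2).1 (by exact_mod_cast h2)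
        have := (Nat.prime_dvd_prime_iff_eq hp Nat.prime_two).1 h3
        rw [this] at h
        exact absurd h (by decide)
      have hFt := Fintype.ofFinite F
      have h1 := Cfsg.Agent.ClassicalGeometry.OmegaIndex.index_Omega h2 (by omega) Q hQ
      rw [h1]
      refine ⟨?_, by norm_num⟩
      rw [Nat.factorization_eq_zero_of_not_dvd]
      · omega
      · intro h3
        have h4 : p ∣ 2 ^ 2 := h3
        have h5 := hp.dvd_of_dvd_pow h4
        have := (Nat.prime_dvd_prime_iff_eq hp Nat.prime_two).1 h5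
        rw [this] at h
        exact absurd h (by decide)
  rw [Cfsg.Agent.LieClassical.PomegaCard.card_isometryGroup_eq, Nat.factorization_mul hi.2
    (mul_ne_zero Nat.card_pos.ne' Nat.card_pos.ne'), Nat.factorization_mul Nat.card_pos.ne' Nat.card_pos.ne',
    Finsupp.add_apply, Finsupp.add_apply, Nat.factorization_eq_zero_of_not_dvd hz]
  have := hi.1
  omega

/-- **the pointwise stabilizer of the plane has small `p`-part** -/
theorem fact_fixC {Q : QuadraticForm F (ι → F)} (hQ : (polarBilin Q).Nondegenerate) (hn : 6 ≤ Fintype.card ι)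
    (hs : ∃ u : ι → F, u ≠ 0 ∧ Q u = 0) {W C : Submodule F (ι → F)} {e₁ e₂ : ι → F} (h : Geo Q W C e₁ e₂)
    (hpr : polar Q e₁ e₂ = 1) (hW : 2 ≤ finrank F W) {p : ℕ} (hp : p.Prime) [CharP F p] :
    (Nat.card (fixC Q C)).factorization p < (Nat.card (POmega F ⇑Q)).factorization p := by
  have hFt := Fintype.ofFinite F
  obtain ⟨f, -, hf⟩ := FiniteField.card F p
  have h1 : Nat.card W = p ^ ((f : ℕ) * finrank F W) := by
    rw [Module.natCard_eq_pow_finrank (K := F) (V := W), Nat.card_eq_fintype_card, hf, ← pow_mul]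
  have h2 := card_fixC h hpr
  have h3 : (Nat.card W * Nat.card (fixC Q C)).factorization p ≤ (Nat.card (isometryGroup F ⇑Q)).factorization p :=
    (Nat.factorization_le_iff_dvd (mul_ne_zero Nat.card_pos.ne' Nat.card_pos.ne') Nat.card_pos.ne').2 h2 p
  rw [Nat.factorization_mul Nat.card_pos.ne' Nat.card_pos.ne', Finsupp.add_apply, h1, hp.factorization_pow,
    Finsupp.single_eq_same] at h3
  have h4 := fact_iso hQ hn hs hp
  have h5 : 1 * 2 ≤ (f : ℕ) * finrank F W := Nat.mul_le_mul f.2 hW
  omega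

end Cfsg.Agent.H783.CS
end

-- part: H783/CS/Lat
section
/-!
# S3677: the generic lattice theorems for `PΩ(Q)`, `dim Q = 2 n`, and a prime `r` of order `2 n` or `2 (n - 1)` (helper783)
-/

set_option autoImplicit false
set_option linter.unusedSectionVars false
set_option linter.style.haveILetI false

namespace Cfsg.Agent.H783.CS

open Module QuadraticMap Cfsg
open Cfsg.Agent.H364 Cfsg.Agent.H370.AAM Cfsg.Agent.H431.CS
open Cfsg.Agent.H420.Lift (opHom opHom_apply opHom_injective opHom_iso opHom_eq_one_iff exists_lift)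

universe u

variable {F : Type u} [Field F] [Finite F] {ι : Type} [Fintype ι] [DecidableEq ι]

section setup

variable {Q : QuadraticForm F (ι → F)} (hQ : (polarBilin Q).Nondegenerate) (hn : 6 ≤ Fintype.card ι)
  (hs : ∃ u : ι → F, u ≠ 0 ∧ Q u = 0) {r : ℕ} (hr : r.Prime) (hr2 : r ≠ 2)

include hQ hn hs hr hr2

seal _root_.Finset.sum _root_.dotProduct in
/-- an element of order `r` central in a Sylow `r`-subgroup, with its lift -/
theorem setup (hrS : r ∣ Nat.card (POmega F ⇑Q)) :
    ∃ (y : Omega F ⇑Q) (P : Sylow r (POmega F ⇑Q)), orderOf y = r ∧ orderOf (QuotientGroup.mk y : POmega F ⇑Q) = r ∧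
      ∀ z ∈ P, Commute z (QuotientGroup.mk y : POmega F ⇑Q) := by
  have := Fact.mk hr
  obtain ⟨P⟩ : Nonempty (Sylow r (POmega F ⇑Q)) := inferInstance
  have hP0 : (P : Subgroup (POmega F ⇑Q)) ≠ ⊥ := P.ne_bot_of_dvd_card hrS
  obtain ⟨v, -, hv2, hv3⟩ := exists_central hr P.isPGroup' P.isPGroup' Subgroup.le_normalizer hP0
  obtain ⟨y, hy1, hy2⟩ := exists_lift Q hQ (by omega) hs (hr.odd_of_ne_two hr2) hv2
  refine ⟨y, P, hy2, by rw [hy1]; exact hv2, fun z hz => ?_⟩
  rw [hy1]
  exact (hv3 z hz).symm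

omit hr hr2 in
theorem nonscalar {X : Omega F ⇑Q} (hX : (QuotientGroup.mk X : POmega F ⇑Q) ≠ 1) (l : F) :
    ∃ v, opHom (⇑Q) (X : isometryGroup F ⇑Q) v ≠ l • v := by
  by_contra hcon
  push Not at hcon
  apply hX
  rw [QuotientGroup.eq_one_iff, Subgroup.mem_center_iff]
  intro g
  have h1 : Commute (g : isometryGroup F ⇑Q) (X : isometryGroup F ⇑Q) := by
    rw [comm_iff]
    intro v
    rw [hcon, hcon, map_smul]
  exact Subtype.ext h1.eq

/-- lifts of the elements commuting with `y` -/
theorem exists_liftX {y : Omega F ⇑Q} (hy : orderOf y = r) {x : POmega F ⇑Q}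
    (hxy : Commute x (QuotientGroup.mk y : POmega F ⇑Q)) :
    ∃ X : Omega F ⇑Q, (QuotientGroup.mk X : POmega F ⇑Q) = x ∧
      Commute (X : isometryGroup F ⇑Q) (y : isometryGroup F ⇑Q) := by
  obtain ⟨X, rfl⟩ := QuotientGroup.mk_surjective x
  refine ⟨X, rfl, ?_⟩
  have h1 := comm_of_odd hQ (by omega) hs (hr.odd_of_ne_two hr2) (hy ▸ pow_orderOf_eq_one y) hxy.symm
  exact (h1.map (Omega F ⇑Q).subtype).symm

theorem huniq {K : Type*} [Field K] [Finite K] [Algebra F K] {y : Omega F ⇑Q}
    {W C : Submodule F (ι → F)} {e₁ e₂ : ι → F} {φ : K →ₐ[F] Module.End F W}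
    (D : Dat Q (y : isometryGroup F ⇑Q) W C e₁ e₂ φ) (hy : orderOf y = r) (hrq : ¬ r ∣ Nat.card F - 1)
    (b : POmega F ⇑Q) (hb : orderOf b = r) (hby : Commute b (QuotientGroup.mk y : POmega F ⇑Q)) :
    b ∈ Subgroup.zpowers (QuotientGroup.mk y : POmega F ⇑Q) := by
  obtain ⟨X, rfl, hX⟩ := exists_lift Q hQ (by omega) hs (hr.odd_of_ne_two hr2) hb
  have h1 := comm_of_odd hQ (by omega) hs (hr.odd_of_ne_two hr2) (hX ▸ pow_orderOf_eq_one X) hby
  have hy1 : (y : isometryGroup F ⇑Q) ≠ 1 := by
    intro h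
    have : y = 1 := Subtype.ext h
    rw [this, orderOf_one] at hy
    exact hr.one_lt.ne hy
  have hyr : (y : isometryGroup F ⇑Q) ^ r = 1 := by
    have := pow_orderOf_eq_one y
    rw [hy] at this
    exact congrArg Subtype.val this
  have hXr : (X : isometryGroup F ⇑Q) ^ r = 1 := by
    have := pow_orderOf_eq_one X
    rw [hX] at this
    exact congrArg Subtype.val this
  obtain ⟨j, hj⟩ := D.uniq hr hyr hy1 hrq X.2 (h1.map (Omega F ⇑Q).subtype) hXr
  have h2 : X = y ^ j := Subtype.ext hj
  rw [h2]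
  exact ⟨j, by simp⟩

end setup

seal _root_.Finset.sum _root_.dotProduct in
/-- the value of the `p`-part of a centralizer of type B -/
theorem Dat.valB {K : Type*} [Field K] [Finite K] [Algebra F K] {Q : QuadraticForm F (ι → F)} {y : isometryGroup F ⇑Q}
    {W C : Submodule F (ι → F)} {e₁ e₂ : ι → F} {φ : K →ₐ[F] Module.End F W} (D : Dat Q y W C e₁ e₂ φ) {p f : ℕ}
    (hp : p.Prime) [CharP F p] (hq : Nat.card F = p ^ f) (hf : 0 < f) {X : Omega F ⇑Q}
    (hXy : Commute (X : isometryGroup F ⇑Q) y) {a : K}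
    (ha : ∀ w : W, opHom (⇑Q) (X : isometryGroup F ⇑Q) w = φ a w) (hna : ∀ l : F, a ≠ algebraMap F K l) :
    ∃ k m, 0 < k ∧ 0 < m ∧ finrank F W = 2 * k * m ∧ (minpoly F a).natDegree = 2 * k ∧
      (Nat.card (Subgroup.centralizer ({X} : Set (Omega F ⇑Q)))).factorization p = f * (k * (m * (m - 1) / 2)) := by
  have hnt := D.nt
  obtain ⟨hXW, hXC⟩ := D.keep (comm_iff.1 hXy)
  obtain ⟨k, m, hk, hm, h1, h2, h3⟩ := D.geo.count (opHom_iso _ X) (by exact hXW) ha hna
  refine ⟨k, m, hk, hm, h1, h2, ?_⟩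
  rw [D.factB hp hXy ha hna, D.card_fixer hXW ha (by
    intro h
    exact hna 1 (by rw [map_one]; exact h)) hXC, h3]
  exact fact_formula hp hq hf hk

theorem two_mul_val {e k m : ℕ} (h : 2 * e = 2 * k * m) : 2 * (k * (m * (m - 1) / 2)) = e * (m - 1) := by
  have h1 : e = k * m := by
    have : 2 * k * m = 2 * (k * m) := by ring
    omega
  have h2 : m * (m - 1) / 2 * 2 = m * (m - 1) := Nat.div_mul_cancel (Nat.even_mul_pred_self m).two_dvd
  calc 2 * (k * (m * (m - 1) / 2)) = k * (m * (m - 1) / 2 * 2) := by ring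
    _ = k * (m * (m - 1)) := by rw [h2]
    _ = e * (m - 1) := by rw [h1]; ring

/-- same value, same degree -/
theorem val_inj {f e k m k' m' : ℕ} (hf : 0 < f) (he : 0 < e) (hm : 0 < m) (hm' : 0 < m') (h : 2 * e = 2 * k * m)
    (h' : 2 * e = 2 * k' * m') (hv : f * (k' * (m' * (m' - 1) / 2)) = f * (k * (m * (m - 1) / 2))) : k' = k := by
  have h1 := Nat.eq_of_mul_eq_mul_left hf hv
  have h2 := two_mul_val h
  have h3 := two_mul_val h'
  rw [h1, h2] at h3
  have h4 := Nat.eq_of_mul_eq_mul_left he h3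
  have h5 : m' = m := by omega
  subst h5
  rw [h] at h'
  have h6 := Nat.eq_of_mul_eq_mul_right hm h'
  omega

set_option maxHeartbeats 1000000 in
seal _root_.Finset.sum _root_.dotProduct in
/-- **`r` of order `2 n`** -/
theorem latW_top {Q : QuadraticForm F (ι → F)} (hQ : (polarBilin Q).Nondegenerate) {n : ℕ} (hn : 4 ≤ n)
    (hdim : Fintype.card ι = 2 * n) (hs : ∃ u : ι → F, u ≠ 0 ∧ Q u = 0) {p f : ℕ} (hp : p.Prime) [CharP F p]
    (hq : Nat.card F = p ^ f) (hf : 0 < f) {r : ℕ} (hr : r.Prime) (hr2 : r ≠ 2) (hrp : r ≠ p)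
    (ho : orderOf ((Nat.card F : ℕ) : ZMod r) = 2 * n) (hE : NoEdge (POmega F ⇑Q) r p)
    (hrS : r ∣ Nat.card (POmega F ⇑Q)) (hvp : (Nat.card (POmega F ⇑Q)).factorization p = f * (n * (n - 1))) :
    LatW (POmega F ⇑Q) p r := by
  have hfr := Fact.mk hr
  obtain ⟨y, P, hy, hyo, hyP⟩ := setup hQ (by omega) hs hr hr2 hrS
  have hrF : (r : F) ≠ 0 := by
    intro h
    exact hrp ((Nat.prime_dvd_prime_iff_eq hp hr).1 ((CharP.cast_eq_zero_iff F p r).1 h)).symm
  have hy1 : (y : isometryGroup F ⇑Q) ≠ 1 := by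
    intro h
    have : y = 1 := Subtype.ext h
    rw [this, orderOf_one] at hy
    exact hr.one_lt.ne hy
  have hyr : (y : isometryGroup F ⇑Q) ^ r = 1 := by
    have := pow_orderOf_eq_one y
    rw [hy] at this
    exact congrArg Subtype.val this
  obtain ⟨W, C, e₁, e₂, K, _, _, _, φ, D, hW, hC, -⟩ := exists_dat hQ (by omega) hdim hr hrF hyr hy1 ho (Or.inl rfl)
  have hnt := D.nt
  have hC0 := hC rfl
  have hrq : ¬ r ∣ Nat.card F - 1 := by
    intro hd
    have h1 : orderOf ((Nat.card F : ℕ) : ZMod r) ∣ 1 := by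
      rw [orderOf_dvd_iff_pow_eq_one, pow_one, ← sub_eq_zero]
      rw [← ZMod.natCast_eq_zero_iff, Nat.cast_sub Nat.card_pos, Nat.cast_one] at hd
      exact hd
    rw [ho] at h1
    have := Nat.le_of_dvd one_pos h1
    omega
  have hvpos : 0 < f * (n * (n - 1)) := Nat.mul_pos hf (Nat.mul_pos (by omega) (by omega))
  have hpS : p ∣ Nat.card (POmega F ⇑Q) := by
    by_contra h
    rw [Nat.factorization_eq_zero_of_not_dvd h] at hvp
    omega
  -- the list
  have hlist : ∀ x : POmega F ⇑Q, x ≠ 1 → Commute x (QuotientGroup.mk y : POmega F ⇑Q) →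
      ∃ (X : Omega F ⇑Q) (a : K) (k m : ℕ), (QuotientGroup.mk X : POmega F ⇑Q) = x ∧
        Commute (X : isometryGroup F ⇑Q) (y : isometryGroup F ⇑Q) ∧
        (∀ w : W, opHom (⇑Q) (X : isometryGroup F ⇑Q) w = φ a w) ∧ Dg e₁ e₂ (opHom (⇑Q) (X : isometryGroup F ⇑Q)) ∧
        (∀ l : F, a ≠ algebraMap F K l) ∧ 0 < k ∧ 0 < m ∧ 2 * n = 2 * k * m ∧ (minpoly F a).natDegree = 2 * k ∧
        (Nat.card (Subgroup.centralizer ({x} : Set (POmega F ⇑Q)))).factorization p = f * (k * (m * (m - 1) / 2)) := by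
    intro x hx hxy
    obtain ⟨X, rfl, hXy⟩ := exists_liftX hQ (by omega) hs hr hr2 hy hxy
    obtain ⟨a, ha, hd⟩ := D.lift X.2 hXy
    have hna : ∀ l : F, a ≠ algebraMap F K l := by
      rintro l rfl
      obtain ⟨v, hv⟩ := nonscalar hQ (by omega) hs hx l
      apply hv
      obtain ⟨w, hw, c, hc, rfl⟩ := D.geo.ex v
      rw [hC0, Submodule.mem_bot] at hc
      rw [hc, add_zero, ha ⟨w, hw⟩, AlgHom.commutes]
      rfl
    obtain ⟨k, m, hk, hm, h1, h2, h3⟩ := D.valB hp hq hf hXy ha hna
    refine ⟨X, a, k, m, rfl, hXy, ha, hd, hna, hk, hm, by rw [← hW, h1], h2, ?_⟩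
    rw [fact_cent hQ (by omega) hs hp X, h3]
  apply latW_of hp hr hrp hpS hE hyo P hyP (huniq hQ (by omega) hs hr hr2 D hy hrq)
  · intro x hx hxy
    obtain ⟨X, a, k, m, -, -, -, -, -, hk, hm, h1, -, h3⟩ := hlist x hx hxy
    rw [h3, hvp]
    apply Nat.mul_lt_mul_of_pos_left _ hf
    have h4 := two_mul_val h1
    have h5 : m ≤ n := by
      have : n = k * m := by
        have : 2 * k * m = 2 * (k * m) := by ring
        omega
      rw [this]
      exact Nat.le_mul_of_pos_left m hk
    have h6 : n * (m - 1) ≤ n * (n - 1) := Nat.mul_le_mul_left _ (by omega)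
    have h7 : 0 < n * (n - 1) := Nat.mul_pos (by omega) (by omega)
    omega
  · intro x hx hxy
    obtain ⟨X, a, k, m, hXx, hXy, ha, hd, hna, hk, hm, h1, h2, h3⟩ := hlist x hx hxy
    by_cases hk1 : k = 1
    · left
      intro x' hx' hxy'
      obtain ⟨X', a', k', m', -, -, -, -, -, hk', hm', h1', -, h3'⟩ := hlist x' hx' hxy'
      rw [h3, h3']
      apply Nat.mul_le_mul_left
      have h4 := two_mul_val h1
      have h4' := two_mul_val h1'
      have h5 : m' ≤ m := by
        have e1 : n = k' * m' := by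
          have : 2 * k' * m' = 2 * (k' * m') := by ring
          omega
        have e2 : n = m := by rw [hk1] at h1; omega
        rw [← e2, e1]
        exact Nat.le_mul_of_pos_left m' hk'
      have h6 : n * (m' - 1) ≤ n * (m - 1) := Nat.mul_le_mul_left _ (by omega)
      omega
    · right
      intro x' hx' hxy' hv
      obtain ⟨X', a', k', m', hXx', hXy', ha', hd', hna', hk', hm', h1', h2', h3'⟩ := hlist x' hx' hxy'
      rw [h3, h3'] at hv
      have hkk := val_inj hf (by omega) hm hm' h1 h1' hv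
      have hdeg : (minpoly F a).natDegree = (minpoly F a').natDegree := by rw [h2, h2', hkk]
      have hnd : ∀ (Z : Omega F ⇑Q) (b : K), Commute (Z : isometryGroup F ⇑Q) (y : isometryGroup F ⇑Q) →
          (∀ w : W, opHom (⇑Q) (Z : isometryGroup F ⇑Q) w = φ b w) → (∀ l : F, b ≠ algebraMap F K l) →
          (minpoly F b).natDegree = 2 * k → ∀ g : Omega F ⇑Q,
          Commute (QuotientGroup.mk g : POmega F ⇑Q) (QuotientGroup.mk Z) → Commute g Z := by
        intro Z b hZy hb hnb hbk g hg
        rcases comm_neg hQ (by omega) hs hg with h | h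
        · exact h
        · by_cases h2F : (2 : F) = 0
          · have h4 : Commute (g : isometryGroup F ⇑Q) Z := by
              rw [comm_iff]
              intro v
              rw [h]
              apply neg_eq_of_add_eq_zero_left
              rw [← two_smul F, h2F, zero_smul]
            exact Subtype.ext h4.eq
          · exfalso
            have h4 := (D.geo.defect h2F (opHom_iso _ Z) (by exact (D.keep (comm_iff.1 hZy)).1) hb hnb (opHom_iso _ g) (by
              intro v hv
              apply D.geo.mem_W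
              intro c hc
              rw [hC0, Submodule.mem_bot] at hc
              rw [hc, polar_zero_right]) h).2
            omega
      rw [← hXx, ← hXx']
      apply card_cent_eq hQ (by omega) hs (hnd X' a' hXy' ha' hna' (by rw [h2', hkk])) (hnd X a hXy ha hna h2)
      intro g
      constructor
      · intro hg
        have h5 := D.same ha' hna' hd' ha hd hdeg.symm g.2 (hg.map (Omega F ⇑Q).subtype)
        exact Subtype.ext h5.eq
      · intro hg
        have h5 := D.same ha hna hd ha' hd' hdeg g.2 (hg.map (Omega F ⇑Q).subtype)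
        exact Subtype.ext h5.eq

set_option maxHeartbeats 1000000 in
seal _root_.Finset.sum _root_.dotProduct in
/-- **`r` of order `2 (n - 1)`, `ker (y - 1)` a hyperbolic plane** -/
theorem latW_sub {Q : QuadraticForm F (ι → F)} (hQ : (polarBilin Q).Nondegenerate) {n : ℕ} (hn : 4 ≤ n)
    (hdim : Fintype.card ι = 2 * n) (hs : ∃ u : ι → F, u ≠ 0 ∧ Q u = 0) {p f : ℕ} (hp : p.Prime) [CharP F p]
    (hq : Nat.card F = p ^ f) (hf : 0 < f) {r : ℕ} (hr : r.Prime) (hr2 : r ≠ 2) (hrp : r ≠ p)
    (ho : orderOf ((Nat.card F : ℕ) : ZMod r) = 2 * (n - 1)) (hE : NoEdge (POmega F ⇑Q) r p)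
    (hrS : r ∣ Nat.card (POmega F ⇑Q)) (hpS : p ∣ Nat.card (POmega F ⇑Q))
    (hU : ∀ y : isometryGroup F ⇑Q, y ^ r = 1 → y ≠ 1 → ∃ u, opHom (⇑Q) y u = u ∧ u ≠ 0 ∧ Q u = 0) :
    LatW (POmega F ⇑Q) p r := by
  have hfr := Fact.mk hr
  obtain ⟨y, P, hy, hyo, hyP⟩ := setup hQ (by omega) hs hr hr2 hrS
  have hrF : (r : F) ≠ 0 := by
    intro h
    exact hrp ((Nat.prime_dvd_prime_iff_eq hp hr).1 ((CharP.cast_eq_zero_iff F p r).1 h)).symm
  have hy1 : (y : isometryGroup F ⇑Q) ≠ 1 := by
    intro h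
    have : y = 1 := Subtype.ext h
    rw [this, orderOf_one] at hy
    exact hr.one_lt.ne hy
  have hyr : (y : isometryGroup F ⇑Q) ^ r = 1 := by
    have := pow_orderOf_eq_one y
    rw [hy] at this
    exact congrArg Subtype.val this
  obtain ⟨W, C, e₁, e₂, K, _, _, _, φ, D, hW, -, hpr⟩ := exists_dat hQ (by omega) hdim hr hrF hyr hy1 ho
    (Or.inr ⟨by omega, hU y hyr hy1⟩)
  have hnt := D.nt
  have hpr := hpr (by omega)
  have hrq : ¬ r ∣ Nat.card F - 1 := by
    intro hd
    have h1 : orderOf ((Nat.card F : ℕ) : ZMod r) ∣ 1 := by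
      rw [orderOf_dvd_iff_pow_eq_one, pow_one, ← sub_eq_zero]
      rw [← ZMod.natCast_eq_zero_iff, Nat.cast_sub Nat.card_pos, Nat.cast_one] at hd
      exact hd
    rw [ho] at h1
    have := Nat.le_of_dvd one_pos h1
    (clear * - hn this; omega)
  -- the list
  have hlist : ∀ x : POmega F ⇑Q, x ≠ 1 → Commute x (QuotientGroup.mk y : POmega F ⇑Q) →
      ∃ (X : Omega F ⇑Q) (a : K), (QuotientGroup.mk X : POmega F ⇑Q) = x ∧
        Commute (X : isometryGroup F ⇑Q) (y : isometryGroup F ⇑Q) ∧
        (∀ w : W, opHom (⇑Q) (X : isometryGroup F ⇑Q) w = φ a w) ∧ Dg e₁ e₂ (opHom (⇑Q) (X : isometryGroup F ⇑Q)) ∧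
        (∀ l : F, ∃ v, opHom (⇑Q) (X : isometryGroup F ⇑Q) v ≠ l • v) ∧
        (Nat.card (Subgroup.centralizer ({x} : Set (POmega F ⇑Q)))).factorization p =
          (Nat.card (Subgroup.centralizer ({X} : Set (Omega F ⇑Q)))).factorization p := by
    intro x hx hxy
    obtain ⟨X, rfl, hXy⟩ := exists_liftX hQ (by omega) hs hr hr2 hy hxy
    obtain ⟨a, ha, hd⟩ := D.lift X.2 hXy
    exact ⟨X, a, rfl, hXy, ha, hd, nonscalar hQ (by omega) hs hx, fact_cent hQ (by omega) hs hp X⟩
  have hscal : ∀ (X : Omega F ⇑Q) (l : F), (∀ w : W, opHom (⇑Q) (X : isometryGroup F ⇑Q) w = φ (algebraMap F K l) w) →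
      ∀ w ∈ W, opHom (⇑Q) (X : isometryGroup F ⇑Q) w = l • w := by
    intro X l ha w hw
    rw [ha ⟨w, hw⟩, AlgHom.commutes]
    rfl
  apply latW_of hp hr hrp hpS hE hyo P hyP (huniq hQ (by omega) hs hr hr2 D hy hrq)
  · intro x hx hxy
    obtain ⟨X, a, -, hXy, -, -, hX1, hv⟩ := hlist x hx hxy
    rw [hv]
    exact (D.fact_le_fixC hp hXy hX1).trans_lt (fact_fixC hQ (by omega) hs D.geo hpr (by omega) hp)
  · intro x hx hxy
    obtain ⟨X, a, hXx, hXy, ha, hd, hX1, hv⟩ := hlist x hx hxy
    -- type A below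
    by_cases hA : ∃ (X'' : Omega F ⇑Q) (l : F), Commute (X'' : isometryGroup F ⇑Q) (y : isometryGroup F ⇑Q) ∧
        (∀ w ∈ W, opHom (⇑Q) (X'' : isometryGroup F ⇑Q) w = l • w) ∧
        (Nat.card (Subgroup.centralizer ({X''} : Set (Omega F ⇑Q)))).factorization p ≤
          (Nat.card (Subgroup.centralizer ({X} : Set (Omega F ⇑Q)))).factorization p
    · left
      obtain ⟨X'', l, hXy'', hl, hle⟩ := hA
      intro x' hx' hxy'
      obtain ⟨X', a', -, hXy', -, -, hX1', hv'⟩ := hlist x' hx' hxy'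
      rw [hv, hv']
      exact (D.factA hp hXy'' hl hXy' hX1').trans hle
    · right
      have hna : ∀ l : F, a ≠ algebraMap F K l := by
        rintro l rfl
        exact hA ⟨X, l, hXy, hscal X l ha, le_rfl⟩
      intro x' hx' hxy' hvv
      obtain ⟨X', a', hXx', hXy', ha', hd', hX1', hv'⟩ := hlist x' hx' hxy'
      rw [hv, hv'] at hvv
      have hna' : ∀ l : F, a' ≠ algebraMap F K l := by
        rintro l rfl
        exact hA ⟨X', l, hXy', hscal X' l ha', hvv.le⟩
      obtain ⟨k, m, hk, hm, h1, h2, h3⟩ := D.valB hp hq hf hXy ha hna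
      obtain ⟨k', m', hk', hm', h1', h2', h3'⟩ := D.valB hp hq hf hXy' ha' hna'
      rw [h3, h3'] at hvv
      have hkk := val_inj (e := n - 1) hf (by omega) hm hm' (by rw [← hW, h1]) (by rw [← hW, h1']) hvv
      have hdeg : (minpoly F a).natDegree = (minpoly F a').natDegree := by rw [h2, h2', hkk]
      have hnd : ∀ (Z : Omega F ⇑Q) (b : K), Commute (Z : isometryGroup F ⇑Q) (y : isometryGroup F ⇑Q) →
          (∀ w : W, opHom (⇑Q) (Z : isometryGroup F ⇑Q) w = φ b w) → (∀ l : F, b ≠ algebraMap F K l) →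
          Dg e₁ e₂ (opHom (⇑Q) (Z : isometryGroup F ⇑Q)) → ∀ g : Omega F ⇑Q,
          Commute (QuotientGroup.mk g : POmega F ⇑Q) (QuotientGroup.mk Z) → Commute g Z := by
        intro Z b hZy hb hnb hdZ g hg
        rcases comm_neg hQ (by omega) hs hg with h | h
        · exact h
        · by_cases h2F : (2 : F) = 0
          · have h4 : Commute (g : isometryGroup F ⇑Q) Z := by
              rw [comm_iff]
              intro v
              rw [h]
              apply neg_eq_of_add_eq_zero_left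
              rw [← two_smul F, h2F, zero_smul]
            exact Subtype.ext h4.eq
          · exfalso
            exact D.geo.no_defect h2F hpr (opHom_iso _ Z) (by exact (D.keep (comm_iff.1 hZy)).1) hb hnb hdZ (opHom_iso _ g) h
      rw [← hXx, ← hXx']
      apply card_cent_eq hQ (by omega) hs (hnd X' a' hXy' ha' hna' hd') (hnd X a hXy ha hna hd)
      intro g
      constructor
      · intro hg
        have h5 := D.same ha' hna' hd' ha hd hdeg.symm g.2 (hg.map (Omega F ⇑Q).subtype)
        exact Subtype.ext h5.eq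
      · intro hg
        have h5 := D.same ha hna hd ha' hd' hdeg g.2 (hg.map (Omega F ⇑Q).subtype)
        exact Subtype.ext h5.eq

end Cfsg.Agent.H783.CS
end
end
end
end
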